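import Mathlib
import Cfsg.Agent.Lib.Transfer.Fusion
import Cfsg.Agent.Lib.Hall.Basic
import Cfsg.Agent.Lib.Char.Integral

/-!
# An element of prime order centralizing only its own powers: elementary group theory
-/

namespace Cfsg.Agent.Lib.Char.SC

open Subgroup
open scoped commutatorElement
open Cfsg Cfsg.Agent.Lib

set_option linter.style.haveILetI false
set_option linter.unusedSectionVars false

variable {G : Type*} [Group G] [Finite G] {p : ℕ} [hp : Fact p.Prime] {x : G}

/-- The powers of `x` form a Sylow `p`-subgroup. -/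
theorem exists_sylow (hx : orderOf x = p)
    (hC : centralizer ({x} : Set G) = zpowers x) :
    ∃ P : Sylow p G, (P : Subgroup G) = zpowers x := by
  have hPp : IsPGroup p (zpowers x) :=
    IsPGroup.of_card (n := 1) (by rw [Nat.card_zpowers, hx, pow_one])
  obtain ⟨Q, hQ⟩ := hPp.exists_le_sylow
  refine ⟨Q, le_antisymm ?_ hQ⟩
  have hxQ : x ∈ (Q : Subgroup G) := hQ (mem_zpowers x)
  haveI : Nontrivial (Q : Subgroup G) :=
    nontrivial_of_ne (⟨x, hxQ⟩ : (Q : Subgroup G)) 1 fun h => by
      rw [Subtype.ext_iff] at h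
      simp only [coe_one] at h
      rw [h, orderOf_one] at hx
      exact hp.out.ne_one hx.symm
  haveI := Q.2.center_nontrivial
  obtain ⟨⟨z, hz⟩, hz1⟩ := exists_ne (1 : Subgroup.center (Q : Subgroup G))
  have hzc : ∀ q ∈ (Q : Subgroup G), q * (z : G) = (z : G) * q := fun q hq =>
    congrArg Subtype.val (Subgroup.mem_center_iff.1 hz ⟨q, hq⟩)
  have hzP : (z : G) ∈ zpowers x := by
    rw [← hC, mem_centralizer_singleton_iff]
    exact (hzc x hxQ).symm
  have hz1' : (z : G) ≠ 1 := fun h => hz1 (Subtype.ext (Subtype.ext h))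
  have hgen : zpowers (z : G) = zpowers x := by
    apply eq_of_le_of_card_ge (zpowers_le.2 hzP)
    rw [Nat.card_zpowers, Nat.card_zpowers, hx]
    obtain ⟨k, hk⟩ := mem_zpowers_iff.1 hzP
    have hd : orderOf (z : G) ∣ p := by
      rw [← hk, ← hx]
      exact orderOf_dvd_of_pow_eq_one (by
        rw [← zpow_natCast (x ^ k), ← zpow_mul, mul_comm, zpow_mul, zpow_natCast,
          pow_orderOf_eq_one, one_zpow])
    rcases (Nat.dvd_prime hp.out).1 hd with h | h
    · exact absurd (orderOf_eq_one_iff.1 h) hz1'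
    · exact h.ge
  intro q hq
  rw [← hC, mem_centralizer_singleton_iff]
  have hxz : x ∈ zpowers (z : G) := hgen ▸ mem_zpowers x
  obtain ⟨k, hk⟩ := mem_zpowers_iff.1 hxz
  rw [← hk]
  exact ((show Commute q (z : G) from hzc q hq).zpow_right k).eq

theorem card_dvd_iff_mem (hx : orderOf x = p) (hC : centralizer ({x} : Set G) = zpowers x)
    (S : Subgroup G) [S.Normal] : p ∣ Nat.card S ↔ x ∈ S := by
  constructor
  · intro h
    obtain ⟨y, hy⟩ := exists_prime_orderOf_dvd_card' p h
    obtain ⟨P, hP⟩ := exists_sylow hx hC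
    obtain ⟨Q, hQ⟩ := (IsPGroup.of_card (n := 1) (G := zpowers (y : G))
      (by rw [Nat.card_zpowers, orderOf_coe, hy, pow_one])).exists_le_sylow
    obtain ⟨g, hg⟩ := MulAction.exists_smul_eq G Q P
    have h1 : g * (y : G) * g⁻¹ ∈ zpowers x := by
      rw [← hP, ← hg, Transfer.mem_smul_sylow]
      simpa [mul_assoc] using hQ (mem_zpowers (y : G))
    have h2 : zpowers (g * (y : G) * g⁻¹) = zpowers x := by
      apply eq_of_le_of_card_ge (zpowers_le.2 h1)
      rw [Nat.card_zpowers, Nat.card_zpowers, hx]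
      have : orderOf (g * (y : G) * g⁻¹) = orderOf (y : G) := by
        rw [← MulAut.conj_apply]; exact orderOf_injective (MulAut.conj g).toMonoidHom
          (MulAut.conj g).injective _
      rw [this, orderOf_coe, hy]
    have h3 : zpowers (g * (y : G) * g⁻¹) ≤ S :=
      zpowers_le.2 (‹S.Normal›.conj_mem _ y.2 g)
    rw [h2] at h3
    exact h3 (mem_zpowers x)
  · intro h
    rw [← hx, ← Nat.card_zpowers]
    exact card_dvd_of_le (zpowers_le.2 h)

/-- An element of a normal `p'`-subgroup commuting with `x` is trivial. -/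
theorem eq_one_of_commute (hx : orderOf x = p) (hC : centralizer ({x} : Set G) = zpowers x)
    (S : Subgroup G) (hS : ¬ p ∣ Nat.card S) {s : G} (hs : s ∈ S) (hsx : s * x = x * s) :
    s = 1 := by
  have h1 : s ∈ zpowers x := by rwa [← hC, mem_centralizer_singleton_iff]
  have hco : (Nat.card (zpowers x)).Coprime (Nat.card S) := by
    rw [Nat.card_zpowers, hx]; exact (hp.out.coprime_iff_not_dvd).2 hS
  have := (inf_eq_bot_of_coprime hco).le ⟨h1, hs⟩
  simpa using this

/-- Conjugation by `S` is transitive on the coset `S x`. -/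
theorem exists_conj_eq (hx : orderOf x = p) (hC : centralizer ({x} : Set G) = zpowers x)
    (S : Subgroup G) [hn : S.Normal] (hS : ¬ p ∣ Nat.card S) {y : G} (hy : y * x⁻¹ ∈ S) :
    ∃ s ∈ S, s * x * s⁻¹ = y := by
  haveI := Fintype.ofFinite S
  set f : S → S := fun s => ⟨(s : G) * (x * (s : G)⁻¹ * x⁻¹),
    S.mul_mem s.2 (hn.conj_mem _ (S.inv_mem s.2) x)⟩ with hf
  have hinj : Function.Injective f := by
    intro a b h
    have h' : (a : G) * (x * (a : G)⁻¹ * x⁻¹) = (b : G) * (x * (b : G)⁻¹ * x⁻¹) :=
      congrArg Subtype.val h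
    apply Subtype.ext
    have : (b : G)⁻¹ * a = 1 := by
      refine eq_one_of_commute hx hC S hS (S.mul_mem (S.inv_mem b.2) a.2) ?_
      calc (b : G)⁻¹ * a * x = (b : G)⁻¹ * ((a : G) * (x * (a : G)⁻¹ * x⁻¹)) * x * a := by group
        _ = (b : G)⁻¹ * ((b : G) * (x * (b : G)⁻¹ * x⁻¹)) * x * a := by rw [h']
        _ = x * ((b : G)⁻¹ * a) := by group
    exact inv_mul_eq_one.1 this |>.symm
  obtain ⟨s, hs⟩ := (Finite.injective_iff_surjective.1 hinj) ⟨_, hy⟩
  refine ⟨s, s.2, ?_⟩
  have h' : (s : G) * (x * (s : G)⁻¹ * x⁻¹) = y * x⁻¹ := congrArg Subtype.val hs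
  calc (s : G) * x * (s : G)⁻¹ = (s : G) * (x * (s : G)⁻¹ * x⁻¹) * x := by group
    _ = y := by rw [h']; group

theorem card_mod_eq_one (hx : orderOf x = p) (hC : centralizer ({x} : Set G) = zpowers x)
    (S : Subgroup G) [hn : S.Normal] (hS : ¬ p ∣ Nat.card S) : Nat.card S % p = 1 := by
  letI : MulAction (zpowers x) S :=
    MulAction.compHom S ((MulAut.conjNormal (H := S)).comp (zpowers x).subtype)
  have hP : IsPGroup p (zpowers x) :=
    IsPGroup.of_card (n := 1) (by rw [Nat.card_zpowers, hx, pow_one])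
  have h := hP.card_modEq_card_fixedPoints S
  have hfix : MulAction.fixedPoints (zpowers x) S = {1} := by
    ext s
    simp only [MulAction.mem_fixedPoints, Set.mem_singleton_iff]
    constructor
    · intro hs
      have h1 := congrArg Subtype.val (hs ⟨x, mem_zpowers x⟩)
      change x * (s : G) * x⁻¹ = s at h1
      exact Subtype.ext (eq_one_of_commute hx hC S hS s.2 (mul_inv_eq_iff_eq_mul.1 h1).symm)
    · rintro rfl m
      exact map_one ((MulAut.conjNormal (H := S)) (m : G))
  have hc : Nat.card (MulAction.fixedPoints (zpowers x) S) = 1 := by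
    rw [hfix]; simp
  rw [hc] at h
  rw [h, Nat.mod_eq_of_lt hp.out.one_lt]

/-- The normalizer of `⟨x⟩` generates `G` together with a normal subgroup containing `x`. -/
theorem sup_normalizer_eq_top (hx : orderOf x = p) (hC : centralizer ({x} : Set G) = zpowers x)
    (S : Subgroup G) [hn : S.Normal] (hxS : x ∈ S) :
    normalizer (zpowers x : Set G) ⊔ S = ⊤ := by
  obtain ⟨P, hP⟩ := exists_sylow hx hC
  have h := Sylow.normalizer_sup_eq_top (P.subtype (hP ▸ zpowers_le.2 hxS : (P : Subgroup G) ≤ S))
  rwa [Sylow.coe_subtype, subgroupOf_map_subtype, inf_eq_left.2 (hP ▸ zpowers_le.2 hxS),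
    hP] at h

/-- (a): a normal subgroup of order divisible by `p` contains `G'`. -/
theorem commutator_le_of_dvd (hx : orderOf x = p) (hC : centralizer ({x} : Set G) = zpowers x)
    (S : Subgroup G) [hn : S.Normal] (hS : p ∣ Nat.card S) : commutator G ≤ S := by
  have hxS := (card_dvd_iff_mem hx hC S).1 hS
  set N := normalizer (zpowers x : Set G) with hN
  have hconj : ∀ n ∈ N, ∃ a : ℤ, n * x * n⁻¹ = x ^ a := fun n hn => by
    obtain ⟨a, ha⟩ := mem_zpowers_iff.1 ((mem_normalizer_iff.1 hn x).1 (mem_zpowers x))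
    exact ⟨a, ha.symm⟩
  have hcomm : ∀ n ∈ N, ∀ m ∈ N, m⁻¹ * n⁻¹ * (m * n) ∈ S := by
    intro n hn m hm
    obtain ⟨a, ha⟩ := hconj n hn
    obtain ⟨b, hb⟩ := hconj m hm
    have e1 : m * n * x * (m * n)⁻¹ = (n * m) * x * (n * m)⁻¹ := by
      calc m * n * x * (m * n)⁻¹ = m * (n * x * n⁻¹) * m⁻¹ := by group
        _ = (x ^ b) ^ a := by rw [ha, ← conj_zpow, hb]
        _ = (x ^ a) ^ b := by rw [← zpow_mul, ← zpow_mul, mul_comm]
        _ = n * (m * x * m⁻¹) * n⁻¹ := by rw [hb, ← conj_zpow, ha]
        _ = (n * m) * x * (n * m)⁻¹ := by group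
    refine zpowers_le.2 hxS (hC ▸ mem_centralizer_singleton_iff.2 ?_ : m⁻¹ * n⁻¹ * (m * n) ∈ zpowers x)
    calc m⁻¹ * n⁻¹ * (m * n) * x = (n * m)⁻¹ * (m * n * x * (m * n)⁻¹) * (m * n) := by group
      _ = (n * m)⁻¹ * ((n * m) * x * (n * m)⁻¹) * (m * n) := by rw [e1]
      _ = x * (m⁻¹ * n⁻¹ * (m * n)) := by group
  have hq : ∀ g h : G, QuotientGroup.mk' S g * QuotientGroup.mk' S h =
      QuotientGroup.mk' S h * QuotientGroup.mk' S g := by
    intro g h
    have htop := sup_normalizer_eq_top hx hC S hxS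
    obtain ⟨n, hn, s, hs, rfl⟩ := mem_sup_of_normal_right.1 (htop ▸ mem_top g : g ∈ N ⊔ S)
    obtain ⟨m, hm, s', hs', rfl⟩ := mem_sup_of_normal_right.1 (htop ▸ mem_top h : h ∈ N ⊔ S)
    rw [map_mul, map_mul, (QuotientGroup.eq_one_iff s).2 hs |> fun e => (show QuotientGroup.mk' S s = 1 from e),
      (QuotientGroup.eq_one_iff s').2 hs' |> fun e => (show QuotientGroup.mk' S s' = 1 from e),
      mul_one, mul_one, ← map_mul, ← map_mul]
    exact QuotientGroup.eq.2 (by simpa [mul_inv_rev, mul_assoc] using hcomm n hn m hm)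
  rw [commutator_def, commutator_le]
  intro g _ h _
  have h1 : QuotientGroup.mk' S ⁅g, h⁆ = 1 := by
    rw [map_commutatorElement, commutatorElement_eq_one_iff_mul_comm]
    exact hq g h
  exact (QuotientGroup.eq_one_iff _).1 h1

/-- The centralizer in the quotient by a normal `p'`-subgroup. -/
theorem centralizer_quotient (hx : orderOf x = p) (hC : centralizer ({x} : Set G) = zpowers x)
    (S : Subgroup G) [hn : S.Normal] (hS : ¬ p ∣ Nat.card S) :
    orderOf (QuotientGroup.mk x : G ⧸ S) = p ∧
    centralizer ({(QuotientGroup.mk x : G ⧸ S)} : Set (G ⧸ S)) =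
      zpowers (QuotientGroup.mk x : G ⧸ S) := by
  have hxS : x ∉ S := fun h => hS ((card_dvd_iff_mem hx hC S).2 h)
  constructor
  · refine orderOf_eq_prime ?_ fun h => hxS ((QuotientGroup.eq_one_iff x).1 h)
    rw [← QuotientGroup.mk_pow, ← hx, pow_orderOf_eq_one, QuotientGroup.mk_one]
  refine le_antisymm ?_ (zpowers_le.2 (mem_centralizer_singleton_iff.2 rfl))
  intro q hq
  obtain ⟨g, rfl⟩ := QuotientGroup.mk_surjective q
  rw [mem_centralizer_singleton_iff, ← QuotientGroup.mk_mul, ← QuotientGroup.mk_mul,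
    QuotientGroup.eq] at hq
  have hy : g * x * g⁻¹ * x⁻¹ ∈ S := by
    have h := hn.conj_mem _ (S.inv_mem hq) (g * x)
    simpa [mul_assoc] using h
  obtain ⟨s, hs, hsx⟩ := exists_conj_eq hx hC S hS hy
  have hmem : s⁻¹ * g ∈ zpowers x := by
    rw [← hC, mem_centralizer_singleton_iff]
    calc s⁻¹ * g * x = s⁻¹ * (g * x * g⁻¹) * g := by group
      _ = s⁻¹ * (s * x * s⁻¹) * g := by rw [hsx]
      _ = x * (s⁻¹ * g) := by group
  obtain ⟨k, hk⟩ := mem_zpowers_iff.1 hmem
  refine mem_zpowers_iff.2 ⟨k, ?_⟩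
  rw [← QuotientGroup.mk_zpow, hk, QuotientGroup.mk_mul, QuotientGroup.mk_inv,
    (QuotientGroup.eq_one_iff s).2 hs, inv_one, one_mul]

/-- Subgroups of order `p` are the Sylow `p`-subgroups. -/
theorem card_subgroups_eq (hx : orderOf x = p) (hC : centralizer ({x} : Set G) = zpowers x) :
    Nat.card {H : Subgroup G // Nat.card H = p} = (normalizer (zpowers x : Set G)).index := by
  obtain ⟨P, hP⟩ := exists_sylow hx hC
  rw [← hP, P.coe_coe, ← P.card_eq_index_normalizer]
  have hc : ∀ Q : Sylow p G, Nat.card (Q : Subgroup G) = p := fun Q => by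
    rw [Nat.card_congr (Sylow.equiv Q P).toEquiv, hP, Nat.card_zpowers, hx]
  refine (Nat.card_congr (Equiv.ofBijective (fun Q : Sylow p G =>
    (⟨Q, hc Q⟩ : {H : Subgroup G // Nat.card H = p})) ⟨fun Q R h => ?_, fun H => ?_⟩)).symm
  · exact Sylow.ext (congrArg Subtype.val h)
  · obtain ⟨Q, hQ⟩ := (IsPGroup.of_card (n := 1) (G := H.1) (by rw [H.2, pow_one])).exists_le_sylow
    exact ⟨Q, Subtype.ext (eq_of_le_of_card_ge hQ (by rw [hc Q, H.2])).symm⟩

/-- (b): the order of a normal `p'`-subgroup divides the number of subgroups of order `p`. -/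
theorem card_dvd_index_normalizer (hx : orderOf x = p)
    (hC : centralizer ({x} : Set G) = zpowers x) (S : Subgroup G) [hn : S.Normal]
    (hS : ¬ p ∣ Nat.card S) : Nat.card S ∣ (normalizer (zpowers x : Set G)).index := by
  set N := normalizer (zpowers x : Set G) with hN
  have hinf : N ⊓ S = ⊥ := by
    rw [eq_bot_iff]
    rintro s ⟨hsN, hsS⟩
    rw [mem_bot]
    refine eq_one_of_commute hx hC S hS hsS ?_
    have h1 : s * x * s⁻¹ * x⁻¹ ∈ zpowers x :=
      (zpowers x).mul_mem ((mem_normalizer_iff.1 hsN x).1 (mem_zpowers x))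
        ((zpowers x).inv_mem (mem_zpowers x))
    have h2 : s * x * s⁻¹ * x⁻¹ ∈ S := by
      rw [show s * x * s⁻¹ * x⁻¹ = s * (x * s⁻¹ * x⁻¹) by group]
      exact S.mul_mem hsS (hn.conj_mem _ (S.inv_mem hsS) x)
    have hco : (Nat.card (zpowers x)).Coprime (Nat.card S) := by
      rw [Nat.card_zpowers, hx]; exact (hp.out.coprime_iff_not_dvd).2 hS
    have := (inf_eq_bot_of_coprime hco).le ⟨h1, h2⟩
    rw [mem_bot, mul_inv_eq_one, mul_inv_eq_iff_eq_mul] at this
    exact this
  have h := N.index_mul_card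
  have hc : Nat.card (N ⊔ S : Subgroup G) = Nat.card S * Nat.card N := by
    have h1 : S.relIndex (N ⊔ S) = S.relIndex N := relIndex_sup_right ..
    have h2 : Nat.card S * S.relIndex (N ⊔ S) = Nat.card (N ⊔ S : Subgroup G) :=
      card_mul_index (S.subgroupOf (N ⊔ S)) |>.symm |> fun e => by
        rw [e]; exact congrArg (· * _) (Nat.card_congr (subgroupOfEquivOfLe le_sup_right).toEquiv).symm
    rw [← h2, h1, ← inf_relIndex_right, inf_comm, hinf, relIndex_bot_left]
  obtain ⟨k, hk⟩ := card_subgroup_dvd_card (N ⊔ S : Subgroup G)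
  rw [hk, hc] at h
  exact ⟨k, Nat.eq_of_mul_eq_mul_right (m := Nat.card N) Nat.card_pos (by rw [h]; ring)⟩

/-- `t · |N(⟨x⟩)| = p (p - 1)`, for `t` the number of classes of elements of order `p`. -/
theorem card_classes (hx : orderOf x = p) (hC : centralizer ({x} : Set G) = zpowers x) :
    Nat.card {C : ConjClasses G // ∃ g ∈ C.carrier, orderOf g = p} *
      Nat.card (normalizer (zpowers x : Set G)) = p * (p - 1) := by
  classical
  haveI := Fintype.ofFinite G
  haveI := Fintype.ofFinite (ConjClasses G)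
  set E : Finset G := Finset.univ.filter (fun g => orderOf g = p) with hE
  obtain ⟨P, hP⟩ := exists_sylow hx hC
  have hgen : ∀ {H : Subgroup G} {g : G}, Nat.card H = p → g ∈ H → orderOf g = p →
      zpowers g = H := fun {H g} hH hg ho =>
    eq_of_le_of_card_ge (zpowers_le.2 hg) (by rw [Nat.card_zpowers, ho, hH])
  -- centralizers of elements of order `p`
  have hidx : ∀ g ∈ E, (centralizer ({g} : Set G)).index * p = Nat.card G := by
    intro g hg
    have ho : orderOf g = p := (Finset.mem_filter.1 hg).2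
    obtain ⟨Q, hQ⟩ := (IsPGroup.of_card (n := 1) (G := zpowers g)
      (by rw [Nat.card_zpowers, ho, pow_one])).exists_le_sylow
    obtain ⟨c, hc⟩ := MulAction.exists_smul_eq G Q P
    have h1 : c * g * c⁻¹ ∈ zpowers x := by
      rw [← hP, ← hc, Transfer.mem_smul_sylow]
      simpa [mul_assoc] using hQ (mem_zpowers g)
    have ho' : orderOf (c * g * c⁻¹) = p := by
      rw [← ho]; exact orderOf_injective (MulAut.conj c).toMonoidHom (MulAut.conj c).injective _
    have h2 := hgen (by rw [Nat.card_zpowers, hx]) h1 ho'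
    have heq : centralizer ({g} : Set G) =
        (zpowers x).comap (MulAut.conj c).toMonoidHom := by
      ext y
      rw [mem_comap, ← hC, mem_centralizer_singleton_iff, mem_centralizer_singleton_iff]
      constructor
      · intro hy
        obtain ⟨k, hk⟩ := mem_zpowers_iff.1 (h2 ▸ mem_zpowers x : x ∈ zpowers (c * g * c⁻¹))
        rw [← hk]
        exact (((show Commute y g from hy).map (MulAut.conj c).toMonoidHom).zpow_right k).eq
      · intro hy
        obtain ⟨k, hk⟩ := mem_zpowers_iff.1 h1
        have h3 : Commute (c * y * c⁻¹) (c * g * c⁻¹) := hk ▸ (show Commute (c * y * c⁻¹) x from hy).zpow_right k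
        have h4 : Commute ((MulAut.conj c) y) ((MulAut.conj c) g) := h3
        exact (MulAut.conj c).injective (by rw [map_mul, map_mul]; exact h4.eq)
    rw [heq, index_comap_of_surjective _ (MulAut.conj c).surjective, ← hx, ← Nat.card_zpowers,
      index_mul_card]
  -- counting by classes
  have hA : E.card * p =
      Nat.card {C : ConjClasses G // ∃ g ∈ C.carrier, orderOf g = p} * Nat.card G := by
    rw [Nat.card_eq_fintype_card, Fintype.card_subtype]
    rw [Finset.card_eq_sum_card_fiberwise (f := ConjClasses.mk) (s := E)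
      (t := Finset.univ.filter (fun C : ConjClasses G => ∃ g ∈ C.carrier, orderOf g = p))
      (fun g hg => Finset.mem_filter.2 ⟨Finset.mem_univ _, g, ConjClasses.mem_carrier_mk,
        (Finset.mem_filter.1 hg).2⟩), Finset.sum_mul]
    refine (Finset.sum_congr rfl fun C hC' => ?_).trans (by rw [Finset.sum_const, smul_eq_mul])
    obtain ⟨g, hg, ho⟩ := (Finset.mem_filter.1 hC').2
    rw [← hidx g (Finset.mem_filter.2 ⟨Finset.mem_univ _, ho⟩)]
    congr 1
    rw [← Lib.Char.card_conjClass_eq_index g]
    congr 1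
    ext y
    simp only [hE, Finset.mem_filter, Finset.mem_univ, true_and]
    rw [← ConjClasses.mk_eq_mk_iff_isConj, ConjClasses.mem_carrier_iff_mk_eq.1 hg]
    refine and_iff_right_of_imp fun h => ?_
    rw [← ConjClasses.mem_carrier_iff_mk_eq.1 hg] at h
    obtain ⟨d, hd⟩ := isConj_iff.1 (ConjClasses.mk_eq_mk_iff_isConj.1 h).symm
    rw [← hd, ← ho]
    exact orderOf_injective (MulAut.conj d).toMonoidHom (MulAut.conj d).injective _
  -- counting by subgroups
  haveI := Fintype.ofFinite (Subgroup G)
  have hB : E.card = (normalizer (zpowers x : Set G)).index * (p - 1) := by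
    rw [← card_subgroups_eq hx hC, Nat.card_eq_fintype_card, Fintype.card_subtype]
    rw [Finset.card_eq_sum_card_fiberwise (f := zpowers) (s := E)
      (t := Finset.univ.filter (fun H : Subgroup G => Nat.card H = p))
      (fun g hg => Finset.mem_filter.2 ⟨Finset.mem_univ _, by
        rw [Nat.card_zpowers]; exact (Finset.mem_filter.1 hg).2⟩)]
    refine (Finset.sum_congr rfl fun H hH => ?_).trans (by rw [Finset.sum_const, smul_eq_mul])
    have hH' : Nat.card H = p := (Finset.mem_filter.1 hH).2
    have e : E.filter (fun g => zpowers g = H) =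
        (Finset.univ.filter (fun g : G => g ∈ H)).erase 1 := by
      ext g
      simp only [hE, Finset.mem_filter, Finset.mem_univ, true_and, Finset.mem_erase]
      constructor
      · rintro ⟨ho, rfl⟩
        exact ⟨fun h => by rw [h, orderOf_one] at ho; exact hp.out.ne_one ho.symm, mem_zpowers g⟩
      · rintro ⟨hne, hg⟩
        have hd : orderOf g ∣ p := by
          rw [← hH', ← orderOf_mk g hg]; exact orderOf_dvd_natCard _
        rcases (Nat.dvd_prime hp.out).1 hd with h | h
        · exact absurd (orderOf_eq_one_iff.1 h) hne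
        · exact ⟨h, hgen hH' hg h⟩
    rw [e, Finset.card_erase_of_mem (by simp), ← Fintype.card_subtype, ← Nat.card_eq_fintype_card]
    exact congrArg (· - 1) hH'
  have h := (normalizer (zpowers x : Set G)).index_mul_card
  rw [hB, ← h] at hA
  refine Nat.eq_of_mul_eq_mul_left (Nat.pos_of_ne_zero (index_ne_zero_of_finite
    (H := normalizer (zpowers x : Set G)))) ?_
  linarith [hA]

theorem card_normalizer (hx : orderOf x = p) :
    ∃ e, Nat.card (normalizer (zpowers x : Set G)) = p * e := by
  have h : zpowers x ≤ normalizer (zpowers x : Set G) := le_normalizer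
  obtain ⟨e, he⟩ := card_dvd_of_le h
  exact ⟨e, by rw [he, Nat.card_zpowers, hx]⟩

/-- `|G : G'| ≤ e` if `p` divides `|G'|`, with `|N(⟨x⟩)| = p e`. -/
theorem index_commutator_dvd (hx : orderOf x = p) (hC : centralizer ({x} : Set G) = zpowers x)
    (hG : p ∣ Nat.card (commutator G)) :
    p * (commutator G).index ∣ Nat.card (normalizer (zpowers x : Set G)) := by
  have hxG := (card_dvd_iff_mem hx hC (commutator G)).1 hG
  set N := normalizer (zpowers x : Set G) with hN
  have h1 : (commutator G).index = (commutator G).relIndex N := by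
    rw [← relIndex_top_right, ← sup_normalizer_eq_top hx hC _ hxG, relIndex_sup_right]
  have h2 : p ∣ Nat.card ((commutator G).subgroupOf N) := by
    rw [← hx]
    have : orderOf (⟨⟨x, le_normalizer (mem_zpowers x)⟩, hxG⟩ : (commutator G).subgroupOf N) =
        orderOf x := by
      rw [← orderOf_coe, ← orderOf_coe]
    rw [← this]
    exact orderOf_dvd_natCard _
  rw [h1, relIndex, ← card_mul_index ((commutator G).subgroupOf N)]
  exact mul_dvd_mul_right h2 _

/-- Classification of the case `t = p - 1`. -/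
theorem t_eq_iff (hx : orderOf x = p) (hC : centralizer ({x} : Set G) = zpowers x) {t : ℕ}
    (ht : Nat.card {C : ConjClasses G // ∃ g ∈ C.carrier, orderOf g = p} = t) :
    t = p - 1 ↔ ¬ p ∣ Nat.card (commutator G) := by
  have hcc := card_classes hx hC
  rw [ht] at hcc
  obtain ⟨P, hP⟩ := exists_sylow hx hC
  constructor
  · rintro rfl
    have hN : Nat.card (normalizer (zpowers x : Set G)) = p := by
      have h0 : 0 < p - 1 := Nat.sub_pos_of_lt hp.out.one_lt
      exact Nat.eq_of_mul_eq_mul_left h0 (by rw [hcc]; ring)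
    have hle : normalizer (P : Set G) ≤ centralizer (P : Set G) := by
      intro g hg c hc
      have e : zpowers x = normalizer (zpowers x : Set G) :=
        eq_of_le_of_card_ge le_normalizer (by rw [hN, Nat.card_zpowers, hx])
      rw [← P.coe_coe, hP] at hg
      replace hc : c ∈ (P : Subgroup G) := hc
      rw [hP] at hc
      rw [← e] at hg
      obtain ⟨a, rfl⟩ := mem_zpowers_iff.1 hg
      obtain ⟨b, rfl⟩ := mem_zpowers_iff.1 hc
      exact ((Commute.refl x).zpow_zpow b a).eq
    obtain ⟨Q, K, hK, hKQ⟩ := Transfer.hasNormalPComplement_of_normalizer_le_centralizer P hle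
    have hQ : Nat.card (Q : Subgroup G) = p := by
      rw [Nat.card_congr (Sylow.equiv Q P).toEquiv, hP, Nat.card_zpowers, hx]
    have hKc : ¬ p ∣ Nat.card K := by
      intro h
      obtain ⟨y, hy⟩ := exists_prime_orderOf_dvd_card' p h
      have := K.index_mul_card
      have hd : p * p ∣ Nat.card G := by
        rw [← this, hKQ.symm.index_eq_card, hQ]; exact mul_dvd_mul_left p h
      have hs := Q.card_eq_multiplicity
      rw [hQ] at hs
      have h2 : 2 ≤ (Nat.card G).factorization p :=
        (hp.out.pow_dvd_iff_le_factorization Nat.card_pos.ne').1 (by rwa [pow_two])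
      have := Nat.pow_le_pow_right hp.out.pos h2
      rw [← hs] at this
      nlinarith [hp.out.two_le]
    haveI := hK
    have hcyc : commutator G ≤ K := by
      haveI : IsCyclic (G ⧸ K) := isCyclic_of_prime_card (p := p) (by
        rw [← index_eq_card, hKQ.symm.index_eq_card, hQ])
      rw [_root_.commutator_def, commutator_le]
      intro a _ b _
      refine (QuotientGroup.eq_one_iff _).1 (?_ : QuotientGroup.mk' K ⁅a, b⁆ = 1)
      rw [map_commutatorElement, commutatorElement_eq_one_iff_mul_comm]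
      exact IsCyclic.commGroup.mul_comm _ _
    exact fun h => hKc (h.trans (card_dvd_of_le hcyc))
  · intro h
    obtain ⟨hord, hcent⟩ := centralizer_quotient hx hC (commutator G) h
    have hab : ∀ a b : G ⧸ commutator G, a * b = b * a := fun a b =>
      mul_comm (G := Abelianization G) a b
    have htop : zpowers (QuotientGroup.mk x : G ⧸ commutator G) = ⊤ := by
      rw [← hcent, eq_top_iff]
      exact fun a _ => mem_centralizer_singleton_iff.2 (hab _ _)
    have hidx : (commutator G).index = p := by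
      rw [index_eq_card, ← card_top, ← htop, Nat.card_zpowers, hord]
    have hd := card_dvd_index_normalizer hx hC (commutator G) h
    obtain ⟨e, he⟩ := card_normalizer (x := x) hx
    have h1 := (normalizer (zpowers x : Set G)).index_mul_card
    rw [← (commutator G).index_mul_card, hidx, he] at h1
    obtain ⟨k, hk⟩ := hd
    rw [hk] at h1
    have : k * e = 1 := by
      apply Nat.eq_of_mul_eq_mul_left (n := Nat.card (commutator G) * p) (Nat.mul_pos Nat.card_pos hp.out.pos)
      linarith [h1]
    rw [(Nat.eq_one_of_mul_eq_one_left this), mul_one] at he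
    rw [he] at hcc
    exact Nat.eq_of_mul_eq_mul_left hp.out.pos (by rw [← hcc]; ring)

end Cfsg.Agent.Lib.Char.SC
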