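import Cfsg.Agent.Lib.Char.Orthogonality

/-!
# Brauer's permutation lemma
-/

set_option autoImplicit false

open Module
open scoped ComplexConjugate

namespace Cfsg.Agent.Lib.Char

universe u

variable {G : Type u} [Group G] [Finite G]

/-- If `σ : G → G` maps classes to classes and composing with it preserves irreducibility, then as
many irreducible characters as classes are fixed. -/
theorem card_fixed_irr_eq_card_fixed_classes (σ : G → G)
    (hσ : ∀ a b, IsConj a b → IsConj (σ a) (σ b))
    (hirr : ∀ χ : IrrCharacter G, IsIrrCharacter G ((χ : G → ℂ) ∘ σ)) :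
    Nat.card {χ : IrrCharacter G // (χ : G → ℂ) ∘ σ = (χ : G → ℂ)} =
      Nat.card {C : ConjClasses G // ∀ g, ConjClasses.mk g = C → IsConj (σ g) g} := by
  classical
  have := Fintype.ofFinite G
  have := Fintype.ofFinite (ConjClasses G)
  have key : (Nat.card {χ : IrrCharacter G // (χ : G → ℂ) ∘ σ = (χ : G → ℂ)} : ℂ) =
      ∑ g : G, if IsConj (σ g) g then
        (1 : ℂ) / (Finset.univ.filter fun x => IsConj x g).card else 0 := by
    rw [Nat.card_eq_fintype_card, Fintype.card_subtype, ← Finset.sum_boole]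
    rw [Finset.sum_congr rfl fun χ _ => (classInner_irr (hirr χ) χ.2).symm]
    simp only [classInner, Function.comp_apply, ← Finset.mul_sum]
    rw [Finset.sum_comm]
    simp only [sum_irr_mul_conj, Finset.mul_sum]
    refine Finset.sum_congr rfl fun g _ => ?_
    split_ifs
    · field_simp [card_ne_zero_complex G]
    · simp
  have h2 : (∑ g : G, if IsConj (σ g) g then
      (1 : ℂ) / (Finset.univ.filter fun x => IsConj x g).card else 0) =
      ∑ C : ConjClasses G, if (∀ g, ConjClasses.mk g = C → IsConj (σ g) g) then (1 : ℂ) else 0 := by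
    rw [← Finset.sum_fiberwise Finset.univ ConjClasses.mk]
    refine Finset.sum_congr rfl fun C _ => ?_
    obtain ⟨a, rfl⟩ := ConjClasses.mk_surjective C
    have hmem : ∀ {x}, x ∈ (Finset.univ.filter fun x => ConjClasses.mk x = ConjClasses.mk a) →
        IsConj x a := fun h => ConjClasses.mk_eq_mk_iff_isConj.mp (Finset.mem_filter.mp h).2
    have hiff : ∀ {x}, IsConj x a → (IsConj (σ x) x ↔ IsConj (σ a) a) := fun h =>
      ⟨fun h' => ((hσ _ _ h).symm.trans h').trans h,
        fun h' => ((hσ _ _ h).trans h').trans h.symm⟩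
    have hall : (∀ g, ConjClasses.mk g = ConjClasses.mk a → IsConj (σ g) g) ↔ IsConj (σ a) a :=
      ⟨fun h => h a rfl, fun h g hg => (hiff (ConjClasses.mk_eq_mk_iff_isConj.mp hg)).mpr h⟩
    rw [Finset.sum_congr rfl (g := fun _ => if IsConj (σ a) a then
      (1 : ℂ) / (Finset.univ.filter fun x => IsConj x a).card else 0) fun x hx => ?_]
    · simp only [hall]
      simp only [Finset.sum_const, nsmul_eq_mul, ConjClasses.mk_eq_mk_iff_isConj]
      split_ifs
      · refine mul_one_div_cancel (Nat.cast_ne_zero.mpr (Finset.card_ne_zero.mpr ⟨a, ?_⟩))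
        simpa using IsConj.refl a
      · simp
    · have hfilt : (Finset.univ.filter fun y => IsConj y x) =
          (Finset.univ.filter fun y => IsConj y a) := by
        ext y
        simp only [Finset.mem_filter, Finset.mem_univ, true_and]
        exact ⟨fun h => h.trans (hmem hx), fun h => h.trans (hmem hx).symm⟩
      simp only [hiff (hmem hx), hfilt]
  rw [h2, Finset.sum_boole, ← Fintype.card_subtype, ← Nat.card_eq_fintype_card] at key
  exact_mod_cast key

omit [Finite G] in
theorem isConj_map_inv {a b : G} (h : IsConj a b) : IsConj a⁻¹ b⁻¹ := by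
  obtain ⟨c, rfl⟩ := isConj_iff.mp h
  exact isConj_iff.mpr ⟨c, by group⟩

theorem real_iff_comp_inv (χ : IrrCharacter G) :
    (∀ g : G, ((χ : G → ℂ) g).im = 0) ↔ ((χ : G → ℂ) ∘ (·⁻¹) = (χ : G → ℂ)) := by
  rw [funext_iff]
  refine forall_congr' fun g => ?_
  rw [Function.comp_apply, char_inv (isCharacter_of_isIrr χ.2), Complex.conj_eq_iff_im]

/-- As many real irreducible characters as real classes. -/
theorem card_real_irr :
    Nat.card {χ : IrrCharacter G // ∀ g : G, ((χ : G → ℂ) g).im = 0} =
      Nat.card {C : ConjClasses G // ∀ g : G, ConjClasses.mk g = C → IsConj g g⁻¹} := by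
  have := Fintype.ofFinite G
  rw [Nat.card_congr (Equiv.subtypeEquivRight real_iff_comp_inv),
    card_fixed_irr_eq_card_fixed_classes (fun g => g⁻¹) (fun _ _ => isConj_map_inv) fun χ => ?_]
  · exact Nat.card_congr (Equiv.subtypeEquivRight fun C =>
      forall_congr' fun g => imp_congr_right fun _ => ⟨IsConj.symm, IsConj.symm⟩)
  · have hc := isCharacter_of_isIrr χ.2
    have e : (χ : G → ℂ) ∘ (·⁻¹) = fun g => conj ((χ : G → ℂ) g) := funext fun g => char_inv hc g
    rw [e]
    refine isIrrCharacter_of_norm_one (isCharacter_conj hc) ?_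
    rw [← map_one (starRingEnd ℂ), ← classInner_irr_self χ.2]
    simp [classInner, map_sum]

omit [Finite G] in
/-- In a group of odd order only the identity is conjugate to its inverse. -/
theorem eq_one_of_isConj_inv (hodd : Odd (Nat.card G)) {g : G} (h : IsConj g g⁻¹) : g = 1 := by
  obtain ⟨c, hc⟩ := isConj_iff.mp h
  have hc2 : Commute (c ^ 2) g := by
    have hinv : c * g⁻¹ * c⁻¹ = g := by rw [← inv_inj, mul_inv_rev, mul_inv_rev, inv_inv, inv_inv,
      ← mul_assoc, hc]
    have : c * (c * g * c⁻¹) * c⁻¹ = g := by rw [hc, hinv]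
    show c ^ 2 * g = g * c ^ 2
    conv_rhs => rw [← this]
    simp [sq, mul_assoc]
  obtain ⟨k, hk⟩ := hodd
  have hcc : (c ^ 2) ^ (k + 1) = c := by
    rw [← pow_mul, show 2 * (k + 1) = (2 * k + 1) + 1 by ring, pow_succ, ← hk, pow_card_eq_one',
      one_mul]
  have hcomm : Commute c g := hcc ▸ hc2.pow_left (k + 1)
  rw [hcomm.eq, mul_inv_cancel_right] at hc
  have h2 : g ^ 2 = 1 := by rw [sq]; nth_rw 1 [hc]; exact inv_mul_cancel g
  calc g = (g ^ 2) ^ (k + 1) := by
        rw [← pow_mul, show 2 * (k + 1) = (2 * k + 1) + 1 by ring, pow_succ, ← hk, pow_card_eq_one',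
          one_mul]
    _ = 1 := by rw [h2, one_pow]

/-- In a group of odd order the principal character is the only real irreducible one. -/
theorem eq_one_of_real (hodd : Odd (Nat.card G)) (χ : IrrCharacter G)
    (hreal : ∀ g : G, ((χ : G → ℂ) g).im = 0) : (χ : G → ℂ) = fun _ => 1 := by
  have h := card_real_irr (G := G)
  have h1 : Nat.card {C : ConjClasses G // ∀ g : G, ConjClasses.mk g = C → IsConj g g⁻¹} ≤ 1 := by
    rw [Finite.card_le_one_iff_subsingleton]
    refine ⟨fun a b => Subtype.ext ?_⟩
    obtain ⟨x, hx⟩ := ConjClasses.mk_surjective a.1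
    obtain ⟨y, hy⟩ := ConjClasses.mk_surjective b.1
    rw [← hx, ← hy, eq_one_of_isConj_inv hodd (a.2 x hx), eq_one_of_isConj_inv hodd (b.2 y hy)]
  rw [← h, Finite.card_le_one_iff_subsingleton] at h1
  have := h1.elim ⟨χ, hreal⟩ ⟨⟨fun _ => 1, isIrrCharacter_one⟩, fun g => by simp⟩
  exact congrArg (fun x => x.1.1) this

end Cfsg.Agent.Lib.Char
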