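import Cfsg.Agent.Lib.Char.Clifford
import Cfsg.Agent.Lib.Char.Degree
import Cfsg.Agent.Lib.CharClifford.CoprimeClasses
import Cfsg.Agent.Lib.CharKernel
import Cfsg.Agent.Lib.Recog.FixCount
import Cfsg.Agent.Lib.Ito
import Cfsg.Prelude.Def_Local

/-! `p`-solvable groups all of whose character degrees are prime to `p`. -/

set_option autoImplicit false

namespace Cfsg.Agent.Lib.Char.DegreesPrimeTo

open Cfsg Cfsg.Agent.Lib.Char

universe u

variable {p : ℕ} [hp : Fact p.Prime] {G : Type u} [Group G] [Finite G]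

/-- Characters of a normal subgroup inherit degrees prime to `p`. -/
theorem not_dvd_of_normal (N : Subgroup G) [N.Normal]
    (hdeg : ∀ χ : IrrCharacter G, ¬ p ∣ charDegree (χ : G → ℂ)) (θ : IrrCharacter N) :
    ¬ p ∣ charDegree (θ : N → ℂ) := by
  classical
  haveI := Fintype.ofFinite G
  haveI := Fintype.ofFinite N
  obtain ⟨χ, hχ⟩ := exists_irr_over N θ.2
  obtain ⟨a, ha⟩ := classInner_natCast (isCharacter_restrict (isCharacter_of_isIrr χ.2) N)
    (isCharacter_of_isIrr θ.2)
  have h := clifford_degree N χ.2 θ.2 hχ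
  rw [ha, apply_one_eq_charDegree (isCharacter_of_isIrr χ.2),
    apply_one_eq_charDegree (isCharacter_of_isIrr θ.2)] at h
  intro hd
  refine hdeg χ ?_
  rw [show charDegree (χ : G → ℂ) = a * (inertia N (θ : N → ℂ)).index * charDegree (θ : N → ℂ) by
    exact_mod_cast h]
  exact dvd_mul_of_dvd_right hd _

/-- With a normal `p`-complement and degrees prime to `p` the Sylow subgroup is normal. -/
theorem sylow_normal_of_complement (K : Subgroup G) [K.Normal] (hK : ¬ p ∣ Nat.card K) {m : ℕ}
    (hidx : K.index = p ^ m) (hdeg : ∀ χ : IrrCharacter G, ¬ p ∣ charDegree (χ : G → ℂ))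
    (T : Sylow p G) : (T : Subgroup G).Normal := by
  classical
  haveI := Fintype.ofFinite G
  haveI := Fintype.ofFinite K
  have hinv : ∀ θ : IrrCharacter K, ∀ x : G, conjChar K x (θ : K → ℂ) = θ := by
    intro θ x
    obtain ⟨χ, hχ⟩ := exists_irr_over K θ.2
    obtain ⟨a, ha⟩ := classInner_natCast (isCharacter_restrict (isCharacter_of_isIrr χ.2) K)
      (isCharacter_of_isIrr θ.2)
    have h := clifford_degree K χ.2 θ.2 hχ
    rw [ha, apply_one_eq_charDegree (isCharacter_of_isIrr χ.2),
      apply_one_eq_charDegree (isCharacter_of_isIrr θ.2)] at h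
    have hle := le_inertia K (isClassFunction_of_isIrr θ.2)
    obtain ⟨i, -, hi⟩ := (Nat.dvd_prime_pow hp.out).1 (hidx ▸ Subgroup.index_dvd_of_le hle)
    rcases Nat.eq_zero_or_pos i with rfl | hi0
    · rw [pow_zero, Subgroup.index_eq_one] at hi
      exact (mem_inertia K).1 (hi ▸ Subgroup.mem_top x)
    · refine absurd ?_ (hdeg χ)
      rw [show charDegree (χ : G → ℂ) = a * (inertia K (θ : K → ℂ)).index * charDegree (θ : K → ℂ) by
        exact_mod_cast h, hi]
      exact dvd_mul_of_dvd_left (dvd_mul_of_dvd_right (dvd_pow_self p hi0.ne') _) _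
  have hcent : ∀ t ∈ (T : Subgroup G), ∀ k ∈ K, Commute t k := by
    intro t ht k hk
    have hcop : Nat.Coprime (orderOf t) (Nat.card K) := by
      obtain ⟨j, hj⟩ := T.isPGroup' ⟨t, ht⟩
      have h1 : t ^ p ^ j = 1 := congrArg Subtype.val hj
      exact Nat.Coprime.coprime_dvd_left (orderOf_dvd_of_pow_eq_one h1)
        ((hp.out.coprime_iff_not_dvd.2 hK).pow_left j)
    by_contra hne
    set W : Subgroup K := (Subgroup.centralizer ({t} : Set G)).subgroupOf K with hW
    have hWtop : W ≠ ⊤ := fun h => hne (by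
      have h1 : (⟨k, hk⟩ : K) ∈ W := h ▸ Subgroup.mem_top _
      exact (Subgroup.mem_centralizer_singleton_iff.1 (Subgroup.mem_subgroupOf.1 h1)).symm)
    obtain ⟨d, hd⟩ := Recog.exists_forall_conj_notMem hWtop
    have hfix : CharClifford.classFixed K t (ConjClasses.mk d) := by
      intro h hh
      rw [isConj_iff_forall_irr]
      intro θ
      exact congrFun (hinv θ t) h
    obtain ⟨w, hw, hwc⟩ := CharClifford.exists_mem_commute_of_classFixed K hcop hfix
    obtain ⟨c, hc⟩ := isConj_iff.1 (ConjClasses.mk_eq_mk_iff_isConj.1 hw).symm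
    refine hd c⁻¹ ?_
    rw [inv_inv, hc]
    exact Subgroup.mem_subgroupOf.2 (Subgroup.mem_centralizer_singleton_iff.2 hwc.eq.symm)
  have htop : K ⊔ (T : Subgroup G) = ⊤ := by
    refine Subgroup.index_eq_one.1 ?_
    have h1 := Subgroup.index_dvd_of_le (le_sup_left : K ≤ K ⊔ (T : Subgroup G))
    have h2 := Subgroup.index_dvd_of_le (le_sup_right : (T : Subgroup G) ≤ K ⊔ (T : Subgroup G))
    rw [hidx] at h1
    exact Nat.eq_one_of_dvd_coprimes ((hp.out.coprime_iff_not_dvd.2 T.not_dvd_index).pow_left m)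
      h1 h2
  refine Subgroup.normalizer_eq_top_iff.1 (top_le_iff.1 (htop ▸ sup_le (fun k hk => ?_)
    Subgroup.le_normalizer))
  refine Subgroup.centralizer_le_normalizer _ ?_
  exact Subgroup.mem_centralizer_iff.2 fun t ht => (hcent t ht k hk).eq

/-- A `p`-solvable group with degrees prime to `p` has a normal Sylow `p`-subgroup. -/
theorem exists_normal_pgroup (hsolv : IsPSolvable p G)
    (hdeg : ∀ χ : IrrCharacter G, ¬ p ∣ charDegree (χ : G → ℂ)) :
    ∃ S : Subgroup G, S.Normal ∧ IsPGroup p S ∧ ¬ p ∣ S.index := by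
  classical
  obtain ⟨n, H, h0, hlast, hmono, hnorm, hstep⟩ := hsolv
  suffices key : ∀ i : Fin (n + 1), ∃ S : Subgroup G, S.Normal ∧ S ≤ H i ∧ IsPGroup p S ∧
      ¬ p ∣ S.relIndex (H i) by
    obtain ⟨S, hS, -, hSp, hSi⟩ := key (Fin.last n)
    rw [hlast, Subgroup.relIndex_top_right] at hSi
    exact ⟨S, hS, hSp, hSi⟩
  intro i
  induction i using Fin.induction with
  | zero =>
    refine ⟨⊥, inferInstance, bot_le, IsPGroup.of_bot, ?_⟩
    rw [h0, Subgroup.relIndex_self]
    exact hp.out.not_dvd_one
  | succ i ih =>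
    obtain ⟨S, hS, hSle, hSp, hSi⟩ := ih
    have hle : H i.castSucc ≤ H i.succ := hmono (Fin.castSucc_le_succ i)
    have hmul := Subgroup.relIndex_mul_relIndex S (H i.castSucc) (H i.succ) hSle hle
    rcases hstep i with ⟨m, hm⟩ | hcop
    · haveI := hS
      haveI := hnorm i.castSucc
      haveI := hnorm i.succ
      set L := H i.succ with hL
      set S' := S.subgroupOf L with hS'
      set K := ((H i.castSucc).subgroupOf L).map (QuotientGroup.mk' S') with hK
      have hkerle : (QuotientGroup.mk' S').ker ≤ (H i.castSucc).subgroupOf L := by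
        rw [QuotientGroup.ker_mk']
        exact Subgroup.comap_mono hSle
      have hKidx : K.index = p ^ m := by
        rw [hK, Subgroup.index_map_eq _ (QuotientGroup.mk'_surjective S') hkerle]
        exact hm
      haveI : K.Normal := Subgroup.Normal.map inferInstance _ (QuotientGroup.mk'_surjective S')
      have hKcard : ¬ p ∣ Nat.card K := by
        have h := Subgroup.card_mul_index K
        rw [hKidx, ← Subgroup.index_eq_card, show S'.index = S.relIndex L from rfl, ← hmul, hm] at h
        rw [Nat.eq_of_mul_eq_mul_right (pow_pos hp.out.pos m) h]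
        exact hSi
      have hdegX : ∀ χ : IrrCharacter (L ⧸ S'), ¬ p ∣ charDegree (χ : L ⧸ S' → ℂ) := by
        intro χ hd
        refine not_dvd_of_normal L hdeg (CharKernel.inflateEquiv S' χ).1
          (hd.trans (dvd_of_eq (charDegree_eq_of_apply_one ?_).symm))
        rw [CharKernel.inflateEquiv_apply, QuotientGroup.mk_one,
          apply_one_eq_charDegree (isCharacter_of_isIrr χ.2)]
      obtain ⟨T⟩ : Nonempty (Sylow p (L ⧸ S')) := inferInstance
      have hTn : (T : Subgroup (L ⧸ S')).Normal :=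
        sylow_normal_of_complement K hKcard hKidx hdegX T
      haveI := hTn
      set T₀ := (T : Subgroup (L ⧸ S')).comap (QuotientGroup.mk' S') with hT₀
      have hT₀p : IsPGroup p T₀ := by
        refine T.isPGroup'.comap_of_ker_isPGroup _ ?_
        rw [QuotientGroup.ker_mk']
        exact hSp.comap_of_injective L.subtype L.subtype_injective
      have hmax : ∀ U : Subgroup G, IsPGroup p U → U ≤ L → U ≤ T₀.map L.subtype := by
        intro U hU hUL u hu
        refine ⟨⟨u, hUL hu⟩, ?_, rfl⟩
        have hU' : IsPGroup p ((U.subgroupOf L).map (QuotientGroup.mk' S')) :=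
          (hU.comap_of_injective L.subtype L.subtype_injective).map _
        obtain ⟨T', hT'⟩ := hU'.exists_le_sylow
        haveI : Subsingleton (Sylow p (L ⧸ S')) :=
          (Sylow.unique_of_normal T hTn).instSubsingleton
        have h := hT' (Subgroup.mem_map_of_mem (QuotientGroup.mk' S')
          (show (⟨u, hUL hu⟩ : L) ∈ U.subgroupOf L from hu))
        rwa [Subsingleton.elim T' T] at h
      refine ⟨T₀.map L.subtype, ⟨fun x hx g => ?_⟩, Subgroup.map_subtype_le _, hT₀p.map _, ?_⟩
      · refine hmax ((T₀.map L.subtype).map (MulAut.conj g).toMonoidHom) ((hT₀p.map _).map _) ?_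
          ⟨x, hx, rfl⟩
        rintro _ ⟨y, hy, rfl⟩
        exact (hnorm i.succ).conj_mem y (Subgroup.map_subtype_le _ hy) g
      · rw [Subgroup.relIndex, show (T₀.map L.subtype).subgroupOf L = T₀ from
          Subgroup.comap_map_eq_self_of_injective L.subtype_injective T₀, hT₀,
          Subgroup.index_comap_of_surjective _ (QuotientGroup.mk'_surjective S')]
        exact T.not_dvd_index
    · refine ⟨S, hS, hSle.trans hle, hSp, ?_⟩
      rw [← hmul]
      exact fun h => (hp.out.dvd_mul.1 h).elim hSi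
        (hp.out.coprime_iff_not_dvd.1 hcop.symm)

/-- The `p`-solvable case of the theorem of Itô and Michler. -/
theorem normal_abelian (hsolv : IsPSolvable p G)
    (hdeg : ∀ χ : IrrCharacter G, ¬ p ∣ charDegree (χ : G → ℂ)) (P : Sylow p G) :
    (P : Subgroup G).Normal ∧ IsMulCommutative P := by
  classical
  obtain ⟨S, hS, hSp, hSi⟩ := exists_normal_pgroup hsolv hdeg
  haveI : ((hSp.toSylow hSi : Sylow p G) : Subgroup G).Normal := hS
  haveI : Subsingleton (Sylow p G) :=
    (Sylow.unique_of_normal (hSp.toSylow hSi) hS).instSubsingleton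
  have hn : (P : Subgroup G).Normal := P.normal_of_subsingleton
  haveI := hn
  haveI := Fintype.ofFinite (P : Subgroup G)
  refine ⟨hn, ⟨⟨fun a c => ?_⟩⟩⟩
  have h1 : ∀ θ : IrrCharacter (P : Subgroup G),
      charDegree (θ : ↥(P : Subgroup G) → ℂ) = 1 := by
    intro θ
    obtain ⟨j, hj⟩ := IsPGroup.iff_card.mp P.isPGroup'
    have h := charDegree_dvd_card θ.2
    rw [hj] at h
    obtain ⟨i, -, hi⟩ := (Nat.dvd_prime_pow hp.out).mp h
    rcases Nat.eq_zero_or_pos i with rfl | hi0
    · simpa using hi
    · exact absurd (hi ▸ dvd_pow_self p hi0.ne') (not_dvd_of_normal _ hdeg θ)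
  have hbot : commutator (P : Subgroup G) = ⊥ := by
    have h2 := sum_charDegree_sq (G := (P : Subgroup G))
    have h3 := card_charDegree_one (G := (P : Subgroup G))
    rw [Nat.card_congr (Equiv.subtypeUnivEquiv h1)] at h3
    simp only [h1, one_pow, Finset.sum_const, Finset.card_univ, smul_eq_mul, mul_one] at h2
    rw [← Nat.card_eq_fintype_card, h3] at h2
    refine Subgroup.card_eq_one.1 ?_
    have h4 := Subgroup.card_mul_index (commutator (P : Subgroup G))
    rw [h2] at h4
    exact Nat.eq_of_mul_eq_mul_right Nat.card_pos (h4.trans (one_mul _).symm)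
  show a * c = c * a
  rw [← commutatorElement_eq_one_iff_mul_comm, ← Subgroup.mem_bot, ← hbot]
  exact Subgroup.commutator_mem_commutator (Subgroup.mem_top _) (Subgroup.mem_top _)

theorem iff_degrees (hsolv : IsPSolvable p G) (P : Sylow p G) :
    ((P : Subgroup G).Normal ∧ IsMulCommutative P) ↔
      ∀ χ : IrrCharacter G, ¬ p ∣ charDegree (χ : G → ℂ) := by
  refine ⟨fun ⟨hn, hab⟩ χ hd => ?_, fun h => normal_abelian hsolv h P⟩
  haveI := Fintype.ofFinite G
  haveI := hn
  exact P.not_dvd_index (hd.trans (Ito.degree_dvd_index (P : Subgroup G)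
    (fun a ha c hc => congrArg Subtype.val (hab.is_comm.comm ⟨a, ha⟩ ⟨c, hc⟩)) χ.2))

end Cfsg.Agent.Lib.Char.DegreesPrimeTo
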