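import Cfsg.Agent.Lib.Char.SchurBound
import Cfsg.Agent.Lib.Char.BrauerPerm
import Cfsg.Agent.Lib.Char.DegreesPrimeTo
import Cfsg.Agent.Lib.Char.Ito
import Cfsg.Agent.Lib.CharTools.Codegree
import Cfsg.Agent.Lib.DefectOne.Principal
import Cfsg.Agent.Lib.SmallSimple.Basic
import Cfsg.Agent.Lib.Block.Exist
import Mathlib.RingTheory.ZMod.UnitsCyclic

/-!
# Groups all of whose irreducible degrees are less than a prime
-/

set_option autoImplicit false
set_option linter.style.haveILetI false
set_option linter.unusedSectionVars false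

namespace Cfsg.Agent.Lib.Char.SmallDegrees

open Cfsg Cfsg.Agent.Lib Cfsg.Agent.Lib.Char Cfsg.Agent.Lib.DefectOne
open Cfsg.Agent.Lib.Char.UC (C N)

universe u

variable {p : ℕ} [hp : Fact p.Prime] {G : Type u} [Group G] [Finite G]

theorem faithful_of_simple [IsSimpleGroup G] {χ : G → ℂ} (h : IsIrrCharacter G χ)
    (h1 : χ ≠ fun _ => 1) {g : G} (hg : χ g = χ 1) : g = 1 := by
  have hc := isCharacter_of_isIrr h
  have hm : g ∈ charKer χ := (mem_charKer hc).2 hg
  rcases (charKer_normal hc).eq_bot_or_eq_top with hb | ht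
  · rw [hb] at hm; exact Subgroup.mem_bot.1 hm
  · exact absurd (CharTools.eq_one_of_charKer_eq_top h ht) h1

theorem exists_regular_ne_one [IsSimpleGroup G] (hG : ¬ IsMulCommutative G) :
    ∃ s : G, s ≠ 1 ∧ ¬ p ∣ orderOf s := by
  by_contra hc
  push Not at hc
  have hP : IsPGroup p G := by
    intro g
    obtain ⟨j, hj⟩ : ∃ j, orderOf g = p ^ j := by
      refine ⟨_, Nat.eq_prime_pow_of_unique_prime_dvd (orderOf_pos g).ne' fun {q} hq hqd => ?_⟩
      by_contra hqp
      have ho : orderOf (g ^ (orderOf g / q)) = q := by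
        rw [orderOf_pow_of_dvd (Nat.div_pos (Nat.le_of_dvd (orderOf_pos g) hqd) hq.pos).ne'
          (Nat.div_dvd_of_dvd hqd)]
        exact Nat.div_div_self hqd (orderOf_pos g).ne'
      have hd := hc (g ^ (orderOf g / q)) (fun e => hq.ne_one (by rw [← ho, e, orderOf_one]))
      rw [ho] at hd
      exact hqp ((Nat.prime_dvd_prime_iff_eq hp.out hq).1 hd).symm
    exact ⟨j, hj ▸ pow_orderOf_eq_one g⟩
  have hn := hP.center_nontrivial
  rcases (inferInstance : (Subgroup.center G).Normal).eq_bot_or_eq_top with hb | ht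
  · exact (Subgroup.nontrivial_iff_ne_bot _).1 hn hb
  · exact hG ⟨⟨fun a b => (Subgroup.mem_center_iff.1 (ht ▸ Subgroup.mem_top b) a)⟩⟩

/-- A nonprincipal character with rational values on the `p`-elements. -/
theorem exists_prational [IsSimpleGroup G] (hG : ¬ IsMulCommutative G) (hp2 : p ≠ 2) :
    ∃ χ : IrrCharacter G, (χ : G → ℂ) ≠ (fun _ => 1) ∧
      ∀ x : G, (∃ j, orderOf x = p ^ j) → ∃ z : ℤ, (χ : G → ℂ) x = z := by
  classical
  haveI := Fintype.ofFinite G
  set a := (Nat.card G).factorization p with ha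
  set m := Nat.card G / p ^ a with hm
  have hpm : ¬ p ∣ m := Nat.not_dvd_ordCompl hp.out Nat.card_pos.ne'
  have hmul : p ^ a * m = Nat.card G := Nat.ordProj_mul_ordCompl_eq_self _ _
  haveI : NeZero (p ^ a) := ⟨(pow_pos hp.out.pos a).ne'⟩
  obtain ⟨u, hu⟩ := (ZMod.isCyclic_units_of_prime_pow p hp.out hp2 a).exists_generator
  have hco : Nat.Coprime (p ^ a) m := ((Nat.Prime.coprime_iff_not_dvd hp.out).2 hpm).pow_left a
  obtain ⟨k, hk1, hk2⟩ := Nat.chineseRemainder hco (u : ZMod (p ^ a)).val 1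
  have hkc : Nat.Coprime k (Nat.card G) := by
    rw [← hmul]
    refine Nat.Coprime.mul_right ?_ ?_
    · rw [Nat.Coprime, hk1.gcd_eq]; exact ZMod.val_coe_unit_coprime u
    · rw [Nat.Coprime, hk2.gcd_eq]; exact Nat.gcd_one_left m
  have hkz : ((k : ℕ) : ZMod (p ^ a)) = (u : ZMod (p ^ a)) := by
    rw [(ZMod.natCast_eq_natCast_iff _ _ _).2 hk1, ZMod.natCast_val, ZMod.cast_id]
  have key := card_fixed_irr_eq_card_fixed_classes (fun g : G => g ^ k) (fun a b h => h.pow k)
    (fun χ => CharGalois.isIrrCharacter_pow hkc χ.2)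
  obtain ⟨s, hs1, hsr⟩ := exists_regular_ne_one (p := p) hG
  have hsk : s ^ k = s := by
    have hd : orderOf s ∣ m := by
      have := orderOf_dvd_natCard s
      rw [← hmul] at this
      exact (((Nat.Prime.coprime_iff_not_dvd hp.out).2 hsr).pow_left a).symm.dvd_of_dvd_mul_left this
    conv_rhs => rw [← pow_one s]
    exact pow_eq_pow_iff_modEq.2 (hk2.of_dvd hd)
  have hfix : ∀ c : G, c ^ k = c → ∀ g, ConjClasses.mk g = ConjClasses.mk c → IsConj (g ^ k) g := by
    intro c hc g hg
    have hgc := ConjClasses.mk_eq_mk_iff_isConj.1 hg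
    have h1 := hgc.pow k
    rw [hc] at h1
    exact h1.trans hgc.symm
  haveI : Finite (ConjClasses G) := inferInstance
  have h2 : 1 < Nat.card {C : ConjClasses G // ∀ g, ConjClasses.mk g = C → IsConj (g ^ k) g} := by
    rw [Finite.one_lt_card_iff_nontrivial]
    exact ⟨⟨⟨ConjClasses.mk 1, hfix 1 (one_pow k)⟩, ⟨ConjClasses.mk s, hfix s hsk⟩, fun e =>
      hs1 (isConj_one_right.1 (ConjClasses.mk_eq_mk_iff_isConj.1 (congrArg Subtype.val e)))⟩⟩
  rw [← key, Finite.one_lt_card_iff_nontrivial] at h2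
  obtain ⟨⟨χ, hχ⟩, hne⟩ := exists_ne (α := {χ : IrrCharacter G //
    (χ : G → ℂ) ∘ (fun g : G => g ^ k) = (χ : G → ℂ)})
    ⟨⟨fun _ => 1, isIrrCharacter_one⟩, rfl⟩
  refine ⟨χ, fun e => hne (Subtype.ext (Subtype.ext e)), fun x ⟨j, hj⟩ => ?_⟩
  have hit : ∀ i, (χ : G → ℂ) (x ^ k ^ i) = (χ : G → ℂ) x := by
    intro i
    induction i with
    | zero => simp
    | succ i ih =>
      rw [pow_succ, pow_mul]
      exact (congrFun hχ _).trans ih
  have hc := isCharacter_of_isIrr χ.2
  refine CharGalois.exists_int_of_fixed (char_isIntegral hc x) fun σ => ?_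
  obtain ⟨l, hl, hσ⟩ := CharGalois.exists_pow_forall_char (G := G) σ
  rw [hσ _ hc x]
  have hla : Nat.Coprime l (p ^ a) := hl.coprime_dvd_right (hmul ▸ dvd_mul_right _ _)
  obtain ⟨i, hi⟩ := Submonoid.mem_powers_iff _ _ |>.1
    (mem_powers_iff_mem_zpowers.2 (hu (ZMod.unitOfCoprime l hla)))
  have hxa : orderOf x ∣ p ^ a := by
    rw [hj]
    refine pow_dvd_pow p ?_
    rw [ha, ← hp.out.pow_dvd_iff_le_factorization Nat.card_pos.ne', ← hj]
    exact orderOf_dvd_natCard x
  rw [show x ^ l = x ^ k ^ i from pow_eq_pow_iff_modEq.2 (Nat.ModEq.of_dvd hxa ?_), hit i]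
  rw [← ZMod.natCast_eq_natCast_iff, Nat.cast_pow, hkz, ← Units.val_pow_eq_pow_val, hi,
    ZMod.coe_unitOfCoprime]

/-- A simple group with all degrees less than `p` has Sylow subgroup of order `p`. -/
theorem card_sylow_of_simple [IsSimpleGroup G] (hG : ¬ IsMulCommutative G) (hp2 : p ≠ 2)
    (hdiv : p ∣ Nat.card G) (hdeg : ∀ χ : IrrCharacter G, charDegree (χ : G → ℂ) < p)
    (P : Sylow p G) : Nat.card (P : Subgroup G) = p := by
  obtain ⟨χ, hχ1, hχ⟩ := exists_prational hG hp2
  have hc := isCharacter_of_isIrr χ.2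
  have hd := SchurBound.card_dvd hp.out hc (fun g hg => faithful_of_simple χ.2 hχ1 hg)
    (apply_one_eq_charDegree hc) (P : Subgroup G) P.2 (fun g hg => hχ g ((IsPGroup.iff_orderOf
      (p := p)).1 P.2 ⟨g, hg⟩ |>.imp fun j hj => by simpa using hj))
  have hne1 : Nat.card (P : Subgroup G) ≠ 1 := fun h =>
    P.ne_bot_of_dvd_card hdiv (Subgroup.card_eq_one.1 h)
  have h2 := hp.out.two_le
  have hlt := hdeg χ
  rcases Nat.lt_or_ge (charDegree (χ : G → ℂ)) (p - 1) with h | h
  · rw [Nat.div_eq_of_lt h] at hd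
    simp at hd
    exact absurd (by rw [Nat.card_eq_one_iff_unique]; exact Nat.card_eq_one_iff_unique.1 (by simpa using hd)) hne1
  · rw [show charDegree (χ : G → ℂ) = p - 1 by omega, Nat.div_self (by omega)] at hd
    simp at hd
    exact ((Nat.dvd_prime hp.out).1 hd).resolve_left hne1

theorem degree_values {χ : IrrCharacter G} (hdeg : charDegree (χ : G → ℂ) < p) {s : ℤ}
    (hs : s = 1 ∨ s = -1) (h : (charDegree (χ : G → ℂ) : ℤ) ≡ s [ZMOD p]) :
    s * (charDegree (χ : G → ℂ) : ℤ) = if charDegree (χ : G → ℂ) = 1 ∧ s = 1 then 1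
      else -((p : ℤ) - 1) := by
  have h0 := charDegree_pos χ.2
  obtain ⟨c, hc⟩ := h.dvd
  set d : ℕ := charDegree (χ : G → ℂ)
  rcases hs with rfl | rfl
  · have : c = 0 := by
      rcases lt_trichotomy c 0 with hh | hh | hh
      · nlinarith [show (d : ℤ) < p by exact_mod_cast hdeg]
      · exact hh
      · nlinarith [show (1 : ℤ) ≤ d by exact_mod_cast h0]
    subst this
    have : d = 1 := by omega
    simp [this]
  · have : c = -1 := by
      rcases lt_trichotomy c (-1) with hh | hh | hh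
      · nlinarith [show (d : ℤ) < p by exact_mod_cast hdeg]
      · exact hh
      · nlinarith [show (1 : ℤ) ≤ d by exact_mod_cast h0]
    subst this
    simp
    omega

/-- No nonabelian simple group of order divisible by `p` has all degrees less than `p`. -/
theorem not_simple [IsSimpleGroup G] (hG : ¬ IsMulCommutative G)
    (hdeg : ∀ χ : IrrCharacter G, charDegree (χ : G → ℂ) < p) : ¬ p ∣ Nat.card G := by
  classical
  intro hdiv
  haveI := Fintype.ofFinite G
  obtain ⟨χ₁, hχ₁⟩ := exists_irr_ne_one (G := G)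
  have hlin : ∀ χ : IrrCharacter G, charDegree (χ : G → ℂ) = 1 → (χ : G → ℂ) = fun _ => 1 := by
    intro χ h1
    by_contra hne
    refine hG ⟨⟨fun a b => ?_⟩⟩
    obtain ⟨l, hl⟩ := exists_hom_of_degree_one (isCharacter_of_isIrr χ.2)
      (by rw [apply_one_eq_charDegree (isCharacter_of_isIrr χ.2), h1, Nat.cast_one])
    refine mul_inv_eq_one.1 (faithful_of_simple χ.2 hne (g := a * b * (b * a)⁻¹) ?_)
    rw [hl, hl, map_one, map_mul, map_inv, map_mul, map_mul, mul_comm (l b) (l a), mul_inv_cancel]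
  have hp2 : p ≠ 2 := fun h2 => hχ₁ (hlin χ₁ (by
    have := hdeg χ₁; have := charDegree_pos χ₁.2; omega))
  obtain ⟨P⟩ : Nonempty (Sylow p G) := inferInstance
  have hP := card_sylow_of_simple hG hp2 hdiv hdeg P
  obtain ⟨M, hM⟩ := Block.exists_isPModular hp.out
  haveI := hM.2.1
  obtain ⟨hediv, Z, Y, sgn, ε, hB, hd, hZ, hY, hε, hZv, hYv, -, hrel⟩ := principal_structure hM hP
  set e := (C P).relIndex (N P) with he
  have h2 := hp.out.two_le
  have he0 : 0 < e := Nat.pos_of_dvd_of_pos hediv (by omega)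
  have hle_e : e ≤ p - 1 := Nat.le_of_dvd (by omega) hediv
  have he1 : e ≠ 1 := fun h1 => SmallSimple.not_normalizer_le_centralizer hG P hdiv
    (Subgroup.relIndex_eq_one.1 (he ▸ h1))
  -- evaluation at the identity
  have hone : ∀ ψ ∈ Y, (ε : ℤ) * charDegree (ψ : G → ℂ) =
      ∑ χ ∈ Z, sgn χ * (charDegree (χ : G → ℂ) : ℤ) := by
    intro ψ hψ
    have h := hrel ψ hψ 1 (by rw [orderOf_one]; exact hp.out.not_dvd_one)
    simp only [apply_one_eq_charDegree (isCharacter_of_isIrr ψ.2),
      fun χ : IrrCharacter G => apply_one_eq_charDegree (isCharacter_of_isIrr χ.2)] at h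
    exact_mod_cast h
  have honeZ : Block.oneIrr G ∈ Z := by
    have hmem : Block.oneIrr G ∈ principalBlock M G := Block.oneIrr_mem
    rw [hB] at hmem
    refine hmem.resolve_right fun hY1 => ?_
    have hY1' : Block.oneIrr G ∈ Y := hY1
    have h1 : charDegree (Block.oneIrr G : G → ℂ) = 1 := charDegree_one
    have h := hone _ hY1'
    have hall : ∀ χ ∈ Z, sgn χ * (charDegree (χ : G → ℂ) : ℤ) = -((p : ℤ) - 1) := by
      intro χ hχ
      obtain ⟨hs, hcg, -⟩ := hZv χ hχ
      rw [degree_values (hdeg χ) hs hcg, if_neg]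
      rintro ⟨hd1, -⟩
      exact Finset.disjoint_left.1 hd hχ
        ((Subtype.ext ((hlin χ hd1).trans (funext fun g => (Block.oneIrr_apply g).symm)) :
          χ = Block.oneIrr G) ▸ hY1')
    rw [Finset.sum_congr rfl hall, Finset.sum_const, hZ, h1, nsmul_eq_mul, Nat.cast_one, mul_one] at h
    have : (2 : ℤ) ≤ (e : ℤ) := by omega
    rcases hε with rfl | rfl <;> nlinarith
  have hZv' : ∀ χ ∈ Z, χ ≠ Block.oneIrr G →
      sgn χ = -1 ∧ charDegree (χ : G → ℂ) = p - 1 := by
    intro χ hχ hne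
    obtain ⟨hs, hcg, -⟩ := hZv χ hχ
    have h := degree_values (hdeg χ) hs hcg
    have hne' : charDegree (χ : G → ℂ) ≠ 1 := fun h1 => hne (Subtype.ext
      ((hlin χ h1).trans (funext fun g => (Block.oneIrr_apply g).symm)))
    rw [if_neg (fun h => hne' h.1)] at h
    have := charDegree_pos χ.2
    rcases hs with hs | hs <;> rw [hs] at h ⊢ <;> constructor <;> omega
  have hone1 : sgn (Block.oneIrr G) * (charDegree (Block.oneIrr G : G → ℂ) : ℤ) = 1 := by
    obtain ⟨hs, hcg, -⟩ := hZv _ honeZ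
    rw [show charDegree (Block.oneIrr G : G → ℂ) = 1 from charDegree_one] at hcg ⊢
    rcases hs with hs | hs <;> rw [hs] at hcg ⊢
    · simp
    · exfalso
      have h := Int.le_of_dvd (by norm_num) ((Int.modEq_iff_dvd.1 hcg.symm))
      omega
  have hsum : ∑ χ ∈ Z, sgn χ * (charDegree (χ : G → ℂ) : ℤ) = 1 - ((e : ℤ) - 1) * ((p : ℤ) - 1) := by
    rw [← Finset.add_sum_erase _ _ honeZ, hone1, Finset.sum_congr rfl
      (g := fun _ => -((p : ℤ) - 1)) (fun χ hχ => ?_), Finset.sum_const,
      Finset.card_erase_of_mem honeZ, hZ, nsmul_eq_mul, Nat.cast_sub he0]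
    · push_cast; ring
    · obtain ⟨hs, hd'⟩ := hZv' χ (Finset.mem_of_mem_erase hχ) (Finset.ne_of_mem_erase hχ)
      rw [hs, hd']; omega
  have hD : e = 2 ∧ ∀ ψ ∈ Y, charDegree (ψ : G → ℂ) = p - 2 := by
    have hYne : Y.Nonempty := Finset.card_pos.1 (hY ▸ Nat.div_pos hle_e he0)
    have hbound : ∀ ψ ∈ Y, e = 2 ∧ charDegree (ψ : G → ℂ) = p - 2 := by
      intro ψ hψ
      have h := hone ψ hψ
      rw [hsum] at h
      have hlt : (charDegree (ψ : G → ℂ) : ℤ) < p := by exact_mod_cast hdeg ψ
      have : e ≤ 2 := by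
        by_contra hh
        have : (3 : ℤ) ≤ e := by omega
        have : (3 : ℤ) ≤ p := by omega
        rcases hε with rfl | rfl <;> nlinarith
      have e2 : e = 2 := by omega
      rw [e2] at h
      refine ⟨e2, ?_⟩
      have hpos := charDegree_pos ψ.2
      rcases hε with rfl | rfl <;> push_cast at h <;> omega
    exact ⟨(hbound _ hYne.choose_spec).1, fun ψ hψ => (hbound ψ hψ).2⟩
  obtain ⟨he2, hYd⟩ := hD
  obtain ⟨χ, hχe⟩ := Finset.card_pos.1 (show 0 < (Z.erase (Block.oneIrr G)).card by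
    rw [Finset.card_erase_of_mem honeZ, hZ, he2]; norm_num)
  obtain ⟨hχs, hχd⟩ := hZv' χ (Finset.mem_of_mem_erase hχe) (Finset.ne_of_mem_erase hχe)
  have hχ1 : (χ : G → ℂ) ≠ fun _ => 1 := fun h => Finset.ne_of_mem_erase hχe
    (Subtype.ext (h.trans (funext fun g => (Block.oneIrr_apply g).symm)))
  have hc := isCharacter_of_isIrr χ.2
  have hn : (χ : G → ℂ) 1 = ((p : ℂ) - 1) := by
    rw [apply_one_eq_charDegree hc, hχd, Nat.cast_sub (by omega), Nat.cast_one]
  -- the regular part of the centraliser acts trivially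
  have hV : ∀ y : G, y ∈ C P → ¬ p ∣ orderOf y → y = 1 := by
    intro y hy hyr
    refine faithful_of_simple χ.2 hχ1 ?_
    let f : ↥(P : Subgroup G) × Subgroup.zpowers y →* G :=
      MonoidHom.noncommCoprod (P : Subgroup G).subtype (Subgroup.zpowers y).subtype fun x z => by
        obtain ⟨i, hi⟩ := z.2
        have hc' : Commute (x : G) y := Subgroup.mem_centralizer_iff.1 hy x x.2
        exact (show Commute (x : G) (z : G) from hi ▸ hc'.zpow_right i)
    obtain ⟨m, hm⟩ := CharTools.exists_nat_sum_subgroup (isCharacter_comp hc f) ⊤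
    rw [Finset.filter_true_of_mem fun x _ => Subgroup.mem_top x, Subgroup.card_top,
      Fintype.sum_prod_type, Finset.sum_comm] at hm
    have hin : ∀ z : Subgroup.zpowers y, ∑ x : (P : Subgroup G), (χ : G → ℂ) (f (x, z)) =
        (χ : G → ℂ) z - ((p : ℂ) - 1) := by
      intro z
      have hz : (z : G) ∈ C P := by
        have := Subgroup.zpowers_le.2 hy
        exact this z.2
      have hzr : ¬ p ∣ orderOf (z : G) := fun h => hyr (h.trans (by
        obtain ⟨i, hi⟩ := Subgroup.mem_zpowers_iff.1 z.2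
        rw [← hi]
        exact orderOf_dvd_of_pow_eq_one (by
          rw [← zpow_natCast, zpow_comm, zpow_natCast, pow_orderOf_eq_one, one_zpow])))
      rw [← Finset.add_sum_erase _ _ (Finset.mem_univ (1 : (P : Subgroup G))),
        Finset.sum_congr rfl (g := fun _ => (-1 : ℂ)) (fun x hx => ?_), Finset.sum_const,
        Finset.card_erase_of_mem (Finset.mem_univ _), Finset.card_univ, ← Nat.card_eq_fintype_card,
        hP, nsmul_eq_mul, Nat.cast_sub (by omega : 1 ≤ p)]
      · simp [f]; ring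
      · have := (hZv χ (Finset.mem_of_mem_erase hχe)).2.2 x x.2
          (fun h => Finset.ne_of_mem_erase hx (Subtype.ext h)) z hz hzr
        rw [hχs] at this
        simpa [f] using this
    simp only [Function.comp_apply] at hm
    rw [Finset.sum_congr rfl fun z _ => hin z] at hm
    have hre := congrArg Complex.re hm
    rw [Complex.re_sum] at hre
    have hle : ∀ z : Subgroup.zpowers y, ((χ : G → ℂ) z - ((p : ℂ) - 1)).re ≤ 0 := by
      intro z
      have h := (Complex.re_le_norm _).trans (norm_apply_le hc (z : G))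
      rw [hn] at h
      have : ‖(p : ℂ) - 1‖ = (p : ℝ) - 1 := by
        rw [show (p : ℂ) - 1 = (((p : ℝ) - 1 : ℝ) : ℂ) by simp, Complex.norm_real,
          Real.norm_of_nonneg (by linarith [show (2 : ℝ) ≤ p by exact_mod_cast h2])]
      simp [Complex.sub_re] at h ⊢
      linarith [this ▸ h]
    have hnn : (0 : ℝ) ≤ ∑ z : Subgroup.zpowers y, ((χ : G → ℂ) z - ((p : ℂ) - 1)).re := by
      rw [hre]
      simp
      positivity
    have h0 := (Finset.sum_eq_zero_iff_of_nonpos fun z _ => hle z).1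
      (le_antisymm (Finset.sum_nonpos fun z _ => hle z) hnn) ⟨y, Subgroup.mem_zpowers y⟩
      (Finset.mem_univ _)
    rw [hn]
    have hb := norm_apply_le hc y
    rw [hn, show (p : ℂ) - 1 = (((p : ℝ) - 1 : ℝ) : ℂ) by simp, Complex.norm_real,
      Real.norm_of_nonneg (by linarith [show (2 : ℝ) ≤ p by exact_mod_cast h2])] at hb
    have hre' : ((χ : G → ℂ) y).re = (p : ℝ) - 1 := by
      simp [Complex.sub_re] at h0; linarith
    have him : ((χ : G → ℂ) y).im = 0 := by
      have h3 := Complex.sq_norm ((χ : G → ℂ) y)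
      rw [Complex.normSq_apply, hre'] at h3
      nlinarith [norm_nonneg ((χ : G → ℂ) y)]
    exact Complex.ext (by simp [hre']) (by simp [him])
  have hCP : ∀ c : C P, (c : G) ∈ (P : Subgroup G) := by
    intro c
    obtain ⟨x, y, hxy, -, hx, hy⟩ := exists_parts c
    rw [← hxy, Subgroup.coe_mul, hV y y.2 (by rwa [Subgroup.orderOf_coe]), mul_one]
    exact hx
  -- every character lies in the principal block
  have hall : ∀ X : IrrCharacter G, X ∈ Z ∪ Y := by
    intro X
    by_contra hX
    have hXB : X ∉ principalBlock M G := by rw [hB]; simpa using hX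
    haveI := Fintype.ofFinite (C P)
    have hTh : ∀ θ : Th P, θ = oneTh P := by
      intro θ
      refine Subtype.ext ?_
      by_contra hne
      have h := classInner_irr_ne θ.1.2 (oneTh P).1.2 (fun h => hne (Subtype.ext h))
      rw [show (θ.1 : C P → ℂ) = (θ.1 : C P → ℂ) 1 • ((oneTh P).1 : C P → ℂ) from
        funext fun c => by simpa [oneTh] using θ.2 c (hCP c), classInner_smul_left,
        classInner_irr_self (oneTh P).1.2, mul_one] at h
      exact irr_degree_ne_zero θ.1.2 h
    have hx0 : ∀ x : (P : Subgroup G), x ≠ 1 → (X : G → ℂ) x = 0 := by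
      intro x hx
      have h := apply_eq_sum_S hP X x (y := 1) not_dvd_one'
      rw [OneMemClass.coe_one, mul_one] at h
      rw [h]
      refine Finset.sum_eq_zero fun θ _ => ?_
      rw [hTh θ, S_eq_zero hM hP (oneTh P) (induced_principal hM hP) hXB hx, zero_mul]
    obtain ⟨m, hm⟩ := CharTools.exists_nat_sum_subgroup (isCharacter_of_isIrr X.2) (P : Subgroup G)
    rw [Finset.sum_eq_single (1 : G) (fun g hg hg1 => hx0 ⟨g, (Finset.mem_filter.1 hg).2⟩
      (fun h => hg1 (congrArg Subtype.val h)))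
      (fun h => absurd (Finset.mem_filter.2 ⟨Finset.mem_univ _, one_mem _⟩) h), hP,
      apply_one_eq_charDegree (isCharacter_of_isIrr X.2)] at hm
    have hm' : charDegree (X : G → ℂ) = p * m := by exact_mod_cast hm
    have h0 := charDegree_pos X.2
    have hlt := hdeg X
    rcases Nat.eq_zero_or_pos m with rfl | hm0
    · simp at hm'; omega
    · nlinarith
  have hsq := sum_charDegree_sq (G := G)
  rw [show (Finset.univ : Finset (IrrCharacter G)) = Z ∪ Y from
    (Finset.eq_univ_of_forall hall).symm, Finset.sum_union hd, ← Finset.add_sum_erase _ _ honeZ,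
    Finset.sum_congr rfl (s₁ := Z.erase _) (g := fun _ => (p - 1) ^ 2) (fun x hx => by
      rw [(hZv' x (Finset.mem_of_mem_erase hx) (Finset.ne_of_mem_erase hx)).2]),
    Finset.sum_congr rfl (s₁ := Y) (g := fun _ => (p - 2) ^ 2) (fun x hx => by rw [hYd x hx]),
    Finset.sum_const, Finset.sum_const, Finset.card_erase_of_mem honeZ, hZ, hY, he2,
    show charDegree (Block.oneIrr G : G → ℂ) = 1 from charDegree_one] at hsq
  have hdvd : (p - 1) ∣ Nat.card G := hχd ▸ charDegree_dvd_card χ.2
  rw [← hsq] at hdvd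
  obtain ⟨t, ht⟩ : Odd p := hp.out.odd_of_ne_two hp2
  rw [show p - 1 = 2 * t by omega, show p - 2 = 2 * t - 1 by omega,
    show 2 * t / 2 = t by omega] at hdvd
  obtain ⟨t', rfl⟩ : ∃ t', t = t' + 1 := ⟨t - 1, by omega⟩
  rw [show 2 * (t' + 1) - 1 = 2 * t' + 1 by omega] at hdvd
  obtain ⟨c, hc'⟩ := hdvd
  simp at hc'
  -- here `p = 3`
  have ht0 : t' = 0 := by
    by_contra hh
    have hmod : (t' + 2) % (2 * (t' + 1)) = 0 := by
      refine Nat.mod_eq_zero_of_dvd ?_
      refine (Nat.dvd_add_left (dvd_mul_right (2 * (t' + 1))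
        (2 * t' + 2 + 2 * t' * (t' + 1)))).1 ⟨c, ?_⟩
      rw [← hc']
      ring
    rw [Nat.mod_eq_of_lt (by omega)] at hmod
    omega
  obtain ⟨ψ, hψ⟩ := Finset.card_pos.1 (show 0 < Y.card by rw [hY, he2]; omega)
  have := hYd ψ hψ
  exact Finset.disjoint_left.1 hd honeZ ((Subtype.ext ((hlin ψ (by omega)).trans
    (funext fun g => (Block.oneIrr_apply g).symm)) : ψ = Block.oneIrr G) ▸ hψ)

/-- Degrees of a subgroup. -/
theorem subgroup_degree_lt (hdeg : ∀ χ : IrrCharacter G, charDegree (χ : G → ℂ) < p)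
    (H : Subgroup G) (θ : IrrCharacter H) : charDegree (θ : H → ℂ) < p := by
  classical
  haveI := Fintype.ofFinite G
  haveI := Fintype.ofFinite H
  obtain ⟨χ, hχ⟩ := exists_irr_over H θ.2
  refine lt_of_le_of_lt ((constituent_degree_le (isCharacter_restrict (isCharacter_of_isIrr χ.2) H)
    θ.2 hχ).trans (le_of_eq ?_)) (hdeg χ)
  simp [charDegree]

theorem quotient_degree_lt (hdeg : ∀ χ : IrrCharacter G, charDegree (χ : G → ℂ) < p)
    (N : Subgroup G) [N.Normal] (ψ : IrrCharacter (G ⧸ N)) :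
    charDegree (ψ : G ⧸ N → ℂ) < p := by
  have h := hdeg (inflateEquiv N ψ).1
  simpa [charDegree, inflateEquiv_apply] using h

theorem pGroup_comm (hdeg : ∀ χ : IrrCharacter G, charDegree (χ : G → ℂ) < p) (P : Subgroup G)
    (hP : IsPGroup p P) : ∀ a ∈ P, ∀ b ∈ P, a * b = b * a := by
  classical
  haveI := Fintype.ofFinite P
  have h1 : ∀ θ : IrrCharacter P, charDegree (θ : P → ℂ) = 1 := by
    intro θ
    obtain ⟨j, hj⟩ := IsPGroup.iff_card.mp hP
    obtain ⟨i, -, hi⟩ := (Nat.dvd_prime_pow hp.out).mp (hj ▸ charDegree_dvd_card θ.2)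
    have := subgroup_degree_lt hdeg P θ
    rcases Nat.eq_zero_or_pos i with rfl | hi0
    · simpa using hi
    · have := Nat.le_self_pow hi0.ne' p
      omega
  have h2 := sum_charDegree_sq (G := P)
  have h3 := card_charDegree_one (G := P)
  rw [Nat.card_congr (Equiv.subtypeUnivEquiv h1)] at h3
  simp only [h1, one_pow, Finset.sum_const, Finset.card_univ, smul_eq_mul, mul_one] at h2
  rw [← Nat.card_eq_fintype_card, h3] at h2
  have hbot : commutator P = ⊥ := by
    refine Subgroup.card_eq_one.1 ?_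
    have h4 := Subgroup.card_mul_index (commutator P)
    rw [h2] at h4
    exact Nat.eq_of_mul_eq_mul_right Nat.card_pos (h4.trans (one_mul _).symm)
  intro a ha b hb
  refine congrArg Subtype.val (show (⟨a, ha⟩ : P) * ⟨b, hb⟩ = ⟨b, hb⟩ * ⟨a, ha⟩ from ?_)
  rw [← commutatorElement_eq_one_iff_mul_comm, ← Subgroup.mem_bot, ← hbot]
  exact Subgroup.commutator_mem_commutator (Subgroup.mem_top _) (Subgroup.mem_top _)

/-- The Sylow subgroup is normal. -/
theorem sylow_normal : ∀ (n : ℕ) (G : Type u) [Group G] [Finite G], Nat.card G ≤ n →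
    (∀ χ : IrrCharacter G, charDegree (χ : G → ℂ) < p) → ∀ P : Sylow p G,
      (P : Subgroup G).Normal := by
  intro n
  induction n with
  | zero => intro G _ _ h; exact absurd h (by have := Nat.card_pos (α := G); omega)
  | succ n ih =>
    intro G _ _ hn hdeg P
    classical
    by_cases hab : IsMulCommutative G
    · exact ⟨fun a ha g => by rwa [hab.is_comm.comm g a, mul_inv_cancel_right]⟩
    by_cases hs : IsSimpleGroup G
    · have hnd := not_simple hab hdeg
      have : (P : Subgroup G) = ⊥ := by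
        obtain ⟨j, hj⟩ := IsPGroup.iff_card.1 P.2
        refine Subgroup.card_eq_one.1 ?_
        rcases Nat.eq_zero_or_pos j with rfl | hj0
        · simpa using hj
        · exact absurd ((dvd_pow_self p hj0.ne').trans (hj ▸ Subgroup.card_subgroup_dvd_card _)) hnd
      rw [this]; infer_instance
    haveI : Nontrivial G := by
      by_contra h
      rw [not_nontrivial_iff_subsingleton] at h
      exact hab ⟨⟨fun a b => Subsingleton.elim _ _⟩⟩
    obtain ⟨N, hNn, hNb, hNt⟩ : ∃ N : Subgroup G, N.Normal ∧ N ≠ ⊥ ∧ N ≠ ⊤ := by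
      by_contra hc
      push Not at hc
      exact hs ⟨fun N hN => or_iff_not_imp_left.2 (hc N hN)⟩
    haveI := hNn
    -- subgroups and quotients
    have hsub : ∀ H : Subgroup G, H ≠ ⊤ → ∀ Q : Sylow p H, (Q : Subgroup H).Normal := fun H hH Q =>
      ih H (by
        have := H.card_le_card_group.lt_of_ne fun h => hH (Subgroup.eq_top_of_card_eq H h)
        omega) (subgroup_degree_lt hdeg H) Q
    have hquo : ∀ K : Subgroup G, [K.Normal] → K ≠ ⊥ → ∀ Q : Sylow p (G ⧸ K),
        (Q : Subgroup (G ⧸ K)).Normal := fun K _ hK Q => ih (G ⧸ K) (by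
      have h := Subgroup.card_mul_index K
      rw [Subgroup.index_eq_card] at h
      have h1 : 1 < Nat.card K := Subgroup.one_lt_card_iff_ne_bot K |>.2 hK
      have := Nat.card_pos (α := G ⧸ K)
      nlinarith) (quotient_degree_lt hdeg K) Q
    by_cases hp' : ∃ R : Subgroup G, R.Normal ∧ R ≠ ⊥ ∧ IsPGroup p R
    · obtain ⟨R, hRn, hRb, hRp⟩ := hp'
      haveI := hRn
      have hRP : R ≤ P := hRp.le_sylow_of_normal P
      have h := (hquo R hRb (P.mapSurjective (QuotientGroup.mk'_surjective R))).comap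
        (QuotientGroup.mk' R)
      rwa [Sylow.coe_mapSurjective, Subgroup.comap_map_eq, QuotientGroup.ker_mk',
        sup_eq_left.2 hRP] at h
    · push Not at hp'
      -- the Sylow subgroup of a proper normal subgroup is trivial
      have hpr : ∀ K : Subgroup G, K.Normal → K ≠ ⊤ → ¬ p ∣ Nat.card K := by
        intro K hKn hKt hpd
        haveI := hKn
        obtain ⟨Q⟩ : Nonempty (Sylow p K) := inferInstance
        haveI := hsub K hKt Q
        haveI : Subsingleton (Sylow p K) := (Sylow.unique_of_normal Q inferInstance).instSubsingleton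
        haveI : (Q : Subgroup K).Characteristic := Q.characteristic_of_subsingleton
        refine hp' ((Q : Subgroup K).map K.subtype) ConjAct.normal_of_characteristic_of_normal ?_
          (Q.2.map K.subtype)
        rw [ne_eq, Subgroup.map_eq_bot_iff_of_injective _ K.subtype_injective]
        exact Q.ne_bot_of_dvd_card hpd
      have hN := hpr N hNn hNt
      set Q := P.mapSurjective (QuotientGroup.mk'_surjective N) with hQ
      set K := (Q : Subgroup (G ⧸ N)).comap (QuotientGroup.mk' N) with hK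
      haveI hKn : K.Normal := (hquo N hNb Q).comap _
      by_cases hKt : K = ⊤
      · obtain ⟨j, hj⟩ := IsPGroup.iff_card.1 Q.2
        have hQt : (Q : Subgroup (G ⧸ N)) = ⊤ := by
          rw [← Subgroup.map_comap_eq_self_of_surjective (QuotientGroup.mk'_surjective N)
            (Q : Subgroup (G ⧸ N)), ← hK, hKt, Subgroup.map_top_of_surjective _
            (QuotientGroup.mk'_surjective N)]
        rw [hQt, Subgroup.card_top, ← Subgroup.index_eq_card] at hj
        refine DegreesPrimeTo.sylow_normal_of_complement N hN hj (fun χ hd => ?_) P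
        exact absurd (Nat.le_of_dvd (charDegree_pos χ.2) hd) (not_le.2 (hdeg χ))
      · have hPK : (P : Subgroup G) ≤ K := fun x hx => Subgroup.mem_map_of_mem _ hx
        have hnd := hpr K hKn hKt
        have hb : (P : Subgroup G) = ⊥ := by
          obtain ⟨j, hj⟩ := IsPGroup.iff_card.1 P.2
          refine Subgroup.card_eq_one.1 ?_
          rcases Nat.eq_zero_or_pos j with rfl | hj0
          · simpa using hj
          · exact absurd ((dvd_pow_self p hj0.ne').trans (hj ▸ Subgroup.card_dvd_of_le hPK)) hnd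
        rw [hb]
        infer_instance

end Cfsg.Agent.Lib.Char.SmallDegrees
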