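import Cfsg.Agent.S0914
import Cfsg.Agent.S0942
import Cfsg.Agent.S0947
import Cfsg.Agent.Lib.Block.Normal
import Cfsg.Agent.Lib.Block.Principal
import Cfsg.Agent.Lib.Hall.Basic
import Cfsg.Agent.Lib.Transfer.Fusion
import Cfsg.Agent.Lib.Char.Coherent
import Cfsg.Agent.Lib.Char.BrauerInduction
import Cfsg.Agent.Lib.Ito
import Cfsg.Agent.Lib.CharAux
import Cfsg.Agent.Lib.CharTools.ClassMult

/-!
# The principal block for an abelian Sylow subgroup with Frobenius action of its normalizer
-/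

set_option linter.unusedSectionVars false
set_option linter.style.haveILetI false

namespace Cfsg.Agent.Lib.Char.ATI

open Cfsg Cfsg.Agent.Lib
open scoped ComplexConjugate

universe u

variable {G : Type u} [Group G] {p : ℕ}

/-- Conjugation by an element of the normalizer, restricted to the subgroup. -/
def cj (P : Sylow p G) (n : G) (hn : n ∈ Subgroup.normalizer ((P : Subgroup G) : Set G)) :
    (P : Subgroup G) →* (P : Subgroup G) where
  toFun w := ⟨n * w * n⁻¹, (Subgroup.mem_normalizer_iff.1 hn w).1 w.2⟩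
  map_one' := by ext; simp
  map_mul' a b := by ext; simp [mul_assoc]

@[simp] theorem cj_coe (P : Sylow p G) (n : G)
    (hn : n ∈ Subgroup.normalizer ((P : Subgroup G) : Set G)) (w : (P : Subgroup G)) :
    (cj P n hn w : G) = n * w * n⁻¹ := rfl

/-- `ψ'` is a conjugate of `ψ` under the normalizer. -/
def Rel (P : Sylow p G) (ψ ψ' : (P : Subgroup G) →* ℂˣ) : Prop :=
  ∃ n : G, n ∈ Subgroup.normalizer ((P : Subgroup G) : Set G) ∧
    ∀ w w' : (P : Subgroup G), (w' : G) = n * w * n⁻¹ → ψ' w' = ψ w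

theorem rel_iff (P : Sylow p G) (ψ ψ' : (P : Subgroup G) →* ℂˣ) :
    Rel P ψ ψ' ↔ ∃ n : G, ∃ hn : n ∈ Subgroup.normalizer ((P : Subgroup G) : Set G),
      ψ = ψ'.comp (cj P n hn) := by
  constructor
  · rintro ⟨n, hn, h⟩
    exact ⟨n, hn, MonoidHom.ext fun w => (h w (cj P n hn w) rfl).symm⟩
  · rintro ⟨n, hn, rfl⟩
    refine ⟨n, hn, fun w w' h => ?_⟩
    rw [MonoidHom.comp_apply]
    exact congrArg ψ' (Subtype.ext h)

theorem rel_refl (P : Sylow p G) (ψ : (P : Subgroup G) →* ℂˣ) : Rel P ψ ψ :=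
  ⟨1, one_mem _, fun w w' h => by rw [show w' = w from Subtype.ext (by simpa using h)]⟩

theorem rel_symm (P : Sylow p G) {ψ ψ' : (P : Subgroup G) →* ℂˣ} (h : Rel P ψ ψ') :
    Rel P ψ' ψ := by
  obtain ⟨n, hn, h⟩ := h
  refine ⟨n⁻¹, inv_mem hn, fun w w' e => (h w' w ?_).symm⟩
  rw [e]; group

theorem rel_trans (P : Sylow p G) {a b c : (P : Subgroup G) →* ℂˣ} (h : Rel P a b)
    (h' : Rel P b c) : Rel P a c := by
  obtain ⟨n, hn, h⟩ := h
  obtain ⟨n', hn', h'⟩ := h'
  refine ⟨n' * n, mul_mem hn' hn, fun w w' e => ?_⟩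
  rw [← h w (cj P n hn w) rfl, h' (cj P n hn w) w']
  rw [e, cj_coe]; group

theorem rel_one (P : Sylow p G) {ψ : (P : Subgroup G) →* ℂˣ} (h : Rel P ψ 1) : ψ = 1 := by
  obtain ⟨n, hn, h⟩ := h
  exact MonoidHom.ext fun w => (h w (cj P n hn w) rfl).symm

variable [Finite G]

instance (P : Sylow p G) : Finite ((P : Subgroup G) →* ℂˣ) :=
  Finite.of_injective (fun l => (⟨fun g => (l g : ℂ), isIrrCharacter_linear l⟩ :
      IrrCharacter (P : Subgroup G)))
    fun a b h => MonoidHom.ext fun g =>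
      Units.ext (congrFun (congrArg Subtype.val h) g)

/-- The linear character attached to a homomorphism. -/
noncomputable def lin {H : Type u} [Group H] (l : H →* ℂˣ) : IrrCharacter H :=
  ⟨fun g => (l g : ℂ), isIrrCharacter_linear l⟩

@[simp] theorem lin_apply {H : Type u} [Group H] (l : H →* ℂˣ) (g : H) :
    (lin l : H → ℂ) g = (l g : ℂ) := rfl

theorem lin_bijective {H : Type u} [Group H] [Finite H] (hH : ∀ a b : H, a * b = b * a) :
    Function.Bijective (lin (H := H)) := by
  haveI := Fintype.ofFinite H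
  refine ⟨fun a b h => MonoidHom.ext fun g => Units.ext (congrFun (congrArg Subtype.val h) g), ?_⟩
  intro χ
  obtain ⟨l, hl⟩ := exists_hom_of_degree_one (isCharacter_of_isIrr χ.2)
    (Lib.Ito.apply_one_of_abelian hH χ.2)
  exact ⟨l, Subtype.ext (funext fun g => (hl g).symm)⟩

variable {M : Ideal AlgInt} [M.IsPrime] [hp : Fact p.Prime]

/-- Facts on centralizers of nontrivial elements of the Sylow subgroup. -/
theorem centralizer_data (P : Sylow p G) (hcomm : ∀ a ∈ (P : Subgroup G), ∀ b ∈ (P : Subgroup G), a * b = b * a)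
    (hfrob : ∀ y : G, y ∈ (P : Subgroup G) → y ≠ 1 → Subgroup.centralizer ({y} : Set G) ⊓
      Subgroup.normalizer ((P : Subgroup G) : Set G) = Subgroup.centralizer ((P : Subgroup G) : Set G))
    {y : G} (hy : y ∈ (P : Subgroup G)) (hy1 : y ≠ 1) :
    (∃ k : ℕ, (pPrimeCore p (Subgroup.centralizer ({y} : Set G))).index = p ^ k) ∧
      Nat.card (Subgroup.centralizer ({y} : Set G)) =
        Nat.card (centralizerPPrimeCore p y) * Nat.card P ∧
      p ^ (Nat.card (Subgroup.centralizer ({y} : Set G))).factorization p = Nat.card P := by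
  classical
  set C := Subgroup.centralizer ({y} : Set G) with hC
  have hPC : (P : Subgroup G) ≤ C := fun a ha =>
    Subgroup.mem_centralizer_singleton_iff.2 (hcomm a ha y hy)
  set Q : Sylow p C := P.subtype hPC with hQ
  have hQcard : Nat.card (Q : Subgroup C) = Nat.card P :=
    Nat.card_congr (Subgroup.subgroupOfEquivOfLe hPC).toEquiv
  have hN : Subgroup.normalizer ((Q : Subgroup C) : Set C) ≤
      Subgroup.centralizer ((Q : Subgroup C) : Set C) := by
    intro n hn
    have hnN : (n : G) ∈ Subgroup.normalizer ((P : Subgroup G) : Set G) := by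
      refine Subgroup.mem_normalizer_iff.2 fun a => ⟨fun ha => ?_, fun ha => ?_⟩
      · exact (Subgroup.mem_normalizer_iff.1 hn ⟨a, hPC ha⟩).1 ha
      · have haC : a ∈ C := by
          have := mul_mem (mul_mem (inv_mem n.2) (hPC ha)) n.2
          simpa [mul_assoc] using this
        exact (Subgroup.mem_normalizer_iff.1 hn ⟨a, haC⟩).2 ha
    have h : (n : G) ∈ Subgroup.centralizer ((P : Subgroup G) : Set G) := by
      rw [← hfrob y hy hy1]; exact ⟨n.2, hnN⟩
    exact Subgroup.mem_centralizer_iff.2 fun w hw =>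
      Subtype.ext (Subgroup.mem_centralizer_iff.1 h (w : G) hw)
  have hK := MonoidHom.ker_transferSylow_isComplement' Q hN
  set K := (MonoidHom.transferSylow Q hN).ker with hKdef
  have hmul : Nat.card K * Nat.card (P : Subgroup G) = Nat.card C := by
    rw [← hQcard]; exact hK.card_mul_card
  have hv : p ^ (Nat.card C).factorization p = Nat.card P := by
    rw [← hQcard]; exact (Sylow.card_eq_multiplicity Q).symm
  have hcop : ¬ p ∣ Nat.card K := by
    intro hd
    obtain ⟨d, hd⟩ := hd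
    have h : p ^ ((Nat.card C).factorization p + 1) ∣ Nat.card C :=
      ⟨d, by rw [pow_succ, hv]; conv_lhs => rw [← hmul, hd]
             ring⟩
    have := (hp.out.pow_dvd_iff_le_factorization Nat.card_pos.ne').1 h
    omega
  have hle : K ≤ pPrimeCore p C :=
    Hall.le_pPrimeCore (Nat.Coprime.symm ((hp.out.coprime_iff_not_dvd).2 hcop))
  have hidx : K.index = p ^ (Nat.card C).factorization p := by
    have := K.card_mul_index
    rw [← hmul] at this
    rw [hv]
    exact Nat.eq_of_mul_eq_mul_left Nat.card_pos this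
  obtain ⟨i, -, hi⟩ := (Nat.dvd_prime_pow hp.out).1 (hidx ▸ Subgroup.index_dvd_of_le hle)
  have hO : Nat.card (centralizerPPrimeCore p y) = Nat.card (pPrimeCore p C) := by
    rw [centralizerPPrimeCore, Subgroup.card_map_of_injective C.subtype_injective]
  have hmulO := (pPrimeCore p C).card_mul_index
  have hi' : i = (Nat.card C).factorization p := by
    have hn : ¬ p ∣ Nat.card (pPrimeCore p C) := Hall.not_dvd_card_pPrimeCore hp.out
    conv_rhs => rw [← hmulO, hi, Nat.factorization_mul Nat.card_pos.ne' (pow_ne_zero _ hp.out.ne_zero),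
      Finsupp.add_apply, Nat.factorization_eq_zero_of_not_dvd hn, hp.out.factorization_pow,
      Finsupp.single_eq_same, zero_add]
  refine ⟨⟨i, hi⟩, ?_, hv⟩
  rw [hO, ← hv, ← hi', ← hi, hmulO]

variable (P : Sylow p G)

/-- The orthogonality relations of principal block characters on the Sylow subgroup. -/
theorem column_orth [Fintype G] (hM : IsPModular p M)
    (hcomm : ∀ a ∈ (P : Subgroup G), ∀ b ∈ (P : Subgroup G), a * b = b * a)
    (hfrob : ∀ y : G, y ∈ (P : Subgroup G) → y ≠ 1 → Subgroup.centralizer ({y} : Set G) ⊓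
      Subgroup.normalizer ((P : Subgroup G) : Set G) = Subgroup.centralizer ((P : Subgroup G) : Set G))
    (S : Finset (IrrCharacter G)) (hS : ∀ χ, χ ∈ S ↔ χ ∈ principalBlock M G)
    {y y' : G} (hy : y ∈ (P : Subgroup G)) (hy1 : y ≠ 1) (hy' : y' ∈ (P : Subgroup G))
    [DecidablePred fun n : G => n ∈ Subgroup.normalizer ((P : Subgroup G) : Set G) ∧ n * y * n⁻¹ = y'] :
    (Nat.card (Subgroup.centralizer ((P : Subgroup G) : Set G)) : ℂ) *
      ∑ χ ∈ S, (χ : G → ℂ) y' * conj ((χ : G → ℂ) y) =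
    (Nat.card P : ℂ) * ((Finset.univ.filter fun n : G =>
      n ∈ Subgroup.normalizer ((P : Subgroup G) : Set G) ∧ n * y * n⁻¹ = y').card : ℂ) := by
  classical
  obtain ⟨hidx, hcard, hv⟩ := centralizer_data P hcomm hfrob hy hy1
  have hyP : Block.IsPElem p y := Block.isPElem_of_mem P.2 hy
  set C := Subgroup.centralizer ((P : Subgroup G) : Set G) with hCdef
  set Cy := Subgroup.centralizer ({y} : Set G) with hCy
  set O := centralizerPPrimeCore p y with hO
  set o := Nat.card O with ho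
  have hno : ¬ p ∣ o := by
    rw [ho, hO, centralizerPPrimeCore, Subgroup.card_map_of_injective Cy.subtype_injective]
    exact Hall.not_dvd_card_pPrimeCore hp.out
  have hOC : O ≤ Cy := Subgroup.map_subtype_le _
  have hvreg : ∀ v ∈ O, ¬ p ∣ orderOf v := fun v hv h =>
    hno (h.trans ((Subgroup.orderOf_mk _ hv).symm ▸ orderOf_dvd_natCard (⟨v, hv⟩ : O)))
  have hvc : ∀ v ∈ O, Commute y v := fun v hv =>
    (Subgroup.mem_centralizer_singleton_iff.1 (hOC hv) : v * y = y * v).symm
  set Of := Finset.univ.filter (fun v : G => v ∈ O) with hOf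
  have hOfc : Of.card = o := by rw [hOf, ← Fintype.card_subtype, ← Nat.card_eq_fintype_card, ho]
  set T : IrrCharacter G → ℂ := fun χ => ∑ v ∈ Of, conj ((χ : G → ℂ) (y * v)) with hT
  have hTS : ∀ χ ∈ S, T χ = (o : ℂ) * conj ((χ : G → ℂ) y) := fun χ hχ => by
    rw [hT]; dsimp only
    rw [Finset.sum_congr rfl (g := fun _ => conj ((χ : G → ℂ) y)) fun v hv => ?_, Finset.sum_const,
      hOfc, nsmul_eq_mul]
    rw [S0942.result p M hM y hyP v (Finset.mem_filter.1 hv).2 χ ((hS χ).1 hχ)]
  have horth : ∀ g h : G, ∑ χ : IrrCharacter G, (χ : G → ℂ) g * conj ((χ : G → ℂ) h) =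
      ((Finset.univ.filter fun w : G => w * g * w⁻¹ = h).card : ℂ) := by
    intro g h
    rw [sum_irr_mul_conj, CharTools.card_conj_eq]
    split_ifs with hc
    · have e := CharAux.card_conj_mul_card_centralizer h
      have hne : (((Finset.univ.filter fun x => IsConj x h).card : ℕ) : ℂ) ≠ 0 :=
        Nat.cast_ne_zero.2 (Finset.card_ne_zero.2
          ⟨h, Finset.mem_filter.2 ⟨Finset.mem_univ _, IsConj.refl _⟩⟩)
      rw [div_eq_iff hne, ← Nat.cast_mul, Nat.cast_inj, ← e, mul_comm]
    · rfl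
  have hnorm : ∑ χ : IrrCharacter G, ‖T χ‖ ^ 2 = (o : ℝ) ^ 2 * Nat.card P := by
    have hfix : ∀ v ∈ Of, ∑ v' ∈ Of,
        ((Finset.univ.filter fun w : G => w * (y * v) * w⁻¹ = y * v').card : ℂ) =
        (Nat.card Cy : ℂ) := by
      intro v hv
      have hvO := (Finset.mem_filter.1 hv).2
      rw [← Nat.cast_sum, Nat.cast_inj, ← Finset.card_biUnion, Nat.card_eq_fintype_card,
        Fintype.card_subtype]
      · congr 1
        ext w
        simp only [Finset.mem_biUnion, Finset.mem_filter, Finset.mem_univ, true_and, hOf]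
        constructor
        · rintro ⟨v', hv', hw⟩
          have h1 := Block.IsPPart.conj (Block.isPPart_mul hyP (hvreg v hvO) (hvc v hvO)) w
          rw [hw] at h1
          have e := Block.IsPPart.unique (Block.isPPart_mul hyP (hvreg v' hv') (hvc v' hv')) h1
          exact Subgroup.mem_centralizer_singleton_iff.2 (mul_inv_eq_iff_eq_mul.1 e.symm)
        · intro hw
          refine ⟨w * v * w⁻¹, ?_, ?_⟩
          · obtain ⟨v₀, hv₀, rfl⟩ := hvO
            exact ⟨⟨w, hw⟩ * v₀ * ⟨w, hw⟩⁻¹, Subgroup.Normal.conj_mem inferInstance v₀ hv₀ _, rfl⟩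
          · rw [← mul_assoc w y v, (Subgroup.mem_centralizer_singleton_iff.1 hw : w * y = y * w)]
            group
      · intro y₁ _ y₂ _ hne
        exact Finset.disjoint_filter.2 fun w _ h1 h2 => hne (mul_left_cancel (h1.symm.trans h2))
    have h : ((∑ χ : IrrCharacter G, ‖T χ‖ ^ 2 : ℝ) : ℂ) =
        (((o : ℝ) ^ 2 * Nat.card P : ℝ) : ℂ) := by
      push_cast
      calc (∑ χ : IrrCharacter G, (‖T χ‖ : ℂ) ^ 2)
          = ∑ χ : IrrCharacter G, ∑ v ∈ Of, (χ : G → ℂ) (y * v) * T χ := by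
            refine Finset.sum_congr rfl fun χ _ => ?_
            rw [← Complex.conj_mul', ← Finset.sum_mul]
            congr 1
            simp [hT, map_sum]
        _ = ∑ v ∈ Of, ∑ χ : IrrCharacter G, (χ : G → ℂ) (y * v) * T χ := Finset.sum_comm
        _ = ∑ v ∈ Of, (Nat.card Cy : ℂ) := Finset.sum_congr rfl fun v hv => by
            simp only [hT, Finset.mul_sum]
            rw [Finset.sum_comm]
            exact (Finset.sum_congr rfl fun v' _ => horth _ _).trans (hfix v hv)
        _ = (o : ℂ) ^ 2 * Nat.card P := by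
            rw [Finset.sum_const, hOfc, hcard, nsmul_eq_mul]; push_cast; ring
    exact_mod_cast h
  have hT0 : ∀ χ, χ ∉ S → T χ = 0 := by
    intro χ hχ
    have h47 := (S0947.result p M hM y hyP hy1 1 Block.regular_one).2 hidx
    rw [finsum_mem_def, finsum_eq_sum_of_fintype, hv] at h47
    simp only [Set.indicator_apply, Subgroup.coe_one, mul_one] at h47
    rw [← Finset.sum_filter, show Finset.univ.filter (· ∈ principalBlock M G) = S by
      ext; simp [hS]] at h47
    have h1 : ∑ ψ ∈ S, ‖T ψ‖ ^ 2 = (o : ℝ) ^ 2 * Nat.card P := by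
      rw [Finset.sum_congr rfl fun ψ hψ => by
        rw [hTS ψ hψ, norm_mul, Complex.norm_natCast, RCLike.norm_conj, mul_pow],
        ← Finset.mul_sum, h47]
    rw [← Finset.sum_add_sum_compl S, h1] at hnorm
    have h0 : ∑ ψ ∈ Sᶜ, ‖T ψ‖ ^ 2 = 0 := by linarith
    have := (Finset.sum_eq_zero_iff_of_nonneg fun _ _ => sq_nonneg _).1 h0 χ (by simpa using hχ)
    simpa using this
  have hsum : (o : ℂ) * ∑ χ ∈ S, (χ : G → ℂ) y' * conj ((χ : G → ℂ) y) =
      ∑ v ∈ Of, ((Finset.univ.filter fun w : G => w * y' * w⁻¹ = y * v).card : ℂ) := by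
    rw [Finset.mul_sum, Finset.sum_congr rfl fun χ hχ => by
      rw [mul_left_comm, ← hTS χ hχ],
      Finset.sum_subset (Finset.subset_univ S) fun χ _ h => by rw [hT0 χ h, mul_zero]]
    simp only [hT, Finset.mul_sum]
    rw [Finset.sum_comm]
    exact Finset.sum_congr rfl fun v _ => horth _ _
  rw [Finset.sum_eq_single (1 : G)] at hsum
  rotate_left
  · intro v hv hv1
    rw [Nat.cast_eq_zero, Finset.card_eq_zero, Finset.filter_eq_empty_iff]
    intro w _ hw
    have hvO := (Finset.mem_filter.1 hv).2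
    have h1 := Block.IsPPart.conj (Block.isPPart_self (Block.isPElem_of_mem P.2 hy')) w
    rw [hw] at h1
    have e := Block.IsPPart.unique (Block.isPPart_mul hyP (hvreg v hvO) (hvc v hvO)) h1
    exact hv1 (mul_eq_left.1 e.symm)
  · intro h; exact absurd (Finset.mem_filter.2 ⟨Finset.mem_univ _, one_mem O⟩) h
  rw [mul_one] at hsum
  -- fusion is controlled by the normalizer
  set Nf := Finset.univ.filter fun n : G =>
    n ∈ Subgroup.normalizer ((P : Subgroup G) : Set G) ∧ n * y * n⁻¹ = y' with hNf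
  set Wf := Finset.univ.filter fun w : G => w * y' * w⁻¹ = y with hWf
  have hPD : (P : Subgroup G) ≤ Subgroup.normalizer ((P : Subgroup G) : Set G) := Subgroup.le_normalizer
  have key : Wf.card * Nat.card C = Nat.card Cy * Nf.card := by
    by_cases hW : Wf.Nonempty
    · obtain ⟨w, hw⟩ := hW
      have hw' : w * y' * w⁻¹ = y := (Finset.mem_filter.1 hw).2
      have hsing : ∀ a ∈ (P : Subgroup G), (P : Subgroup G) ≤ Subgroup.normalizer ({a} : Set G) := by
        intro a ha b hb
        rw [Subgroup.mem_set_normalizer_iff]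
        intro h
        simp only [SetLike.mem_coe, Set.mem_singleton_iff]
        constructor
        · rintro rfl; rw [hcomm b hb h ha, mul_inv_cancel_right]
        · intro e
          have e2 : b * h * b⁻¹ = b * a * b⁻¹ := by rw [e, hcomm b hb a ha, mul_inv_cancel_right]
          exact mul_left_cancel (mul_right_cancel e2)
      obtain ⟨n, hn, hny⟩ := Transfer.burnside_fusion_sets P (X := ({y} : Set G)) (Y := ({y'} : Set G))
        (hsing y hy) (hsing y' hy') w⁻¹ (fun z => by
          simp only [Set.mem_singleton_iff, inv_inv]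
          constructor
          · rintro rfl; rw [← hw']; group
          · intro h; rw [← hw', ← h]; group)
      have hny' : n * y * n⁻¹ = y' := (hny y).1 rfl
      have c1 : Wf.card = Nat.card Cy := by
        rw [Nat.card_eq_fintype_card, Fintype.card_subtype]
        refine Finset.card_bij' (fun a _ => a * w⁻¹) (fun b _ => b * w) (fun a ha => ?_)
          (fun b hb => ?_) (fun a _ => by simp) (fun b _ => by simp)
        · have ha' := (Finset.mem_filter.1 ha).2
          refine Finset.mem_filter.2 ⟨Finset.mem_univ _, Subgroup.mem_centralizer_singleton_iff.2 ?_⟩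
          calc a * w⁻¹ * y = a * w⁻¹ * (w * y' * w⁻¹) := by rw [hw']
            _ = a * y' * a⁻¹ * (a * w⁻¹) := by group
            _ = y * (a * w⁻¹) := by rw [ha']
        · have hb' := Subgroup.mem_centralizer_singleton_iff.1 (Finset.mem_filter.1 hb).2
          refine Finset.mem_filter.2 ⟨Finset.mem_univ _, ?_⟩
          calc b * w * y' * (b * w)⁻¹ = b * (w * y' * w⁻¹) * b⁻¹ := by group
            _ = y := by rw [hw', hb', mul_inv_cancel_right]
      have c2 : Nf.card = Nat.card C := by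
        rw [Nat.card_eq_fintype_card, Fintype.card_subtype]
        refine Finset.card_bij' (fun a _ => n⁻¹ * a) (fun b _ => n * b) (fun a ha => ?_)
          (fun b hb => ?_) (fun a _ => by simp) (fun b _ => by simp)
        · obtain ⟨haN, ha'⟩ := (Finset.mem_filter.1 ha).2
          refine Finset.mem_filter.2 ⟨Finset.mem_univ _, ?_⟩
          rw [← hfrob y hy hy1]
          refine Subgroup.mem_inf.2 ⟨Subgroup.mem_centralizer_singleton_iff.2 ?_, mul_mem (inv_mem hn) haN⟩
          calc n⁻¹ * a * y = n⁻¹ * (a * y * a⁻¹) * a := by group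
            _ = n⁻¹ * (n * y * n⁻¹) * a := by rw [ha', hny']
            _ = y * (n⁻¹ * a) := by group
        · have hb'' : b ∈ Cy ⊓ Subgroup.normalizer ((P : Subgroup G) : Set G) := by
            rw [hCy, hfrob y hy hy1]; exact (Finset.mem_filter.1 hb).2
          have hb' := Subgroup.mem_centralizer_singleton_iff.1 hb''.1
          refine Finset.mem_filter.2 ⟨Finset.mem_univ _, mul_mem hn hb''.2, ?_⟩
          calc n * b * y * (n * b)⁻¹ = n * (b * y) * b⁻¹ * n⁻¹ := by group
            _ = y' := by rw [hb', ← hny']; group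
      rw [c1, c2]
    · rw [Finset.not_nonempty_iff_eq_empty] at hW
      have : Nf = ∅ := by
        rw [hNf, Finset.filter_eq_empty_iff]
        rintro n _ ⟨-, hn⟩
        have : n⁻¹ ∈ Wf := Finset.mem_filter.2 ⟨Finset.mem_univ _, by rw [← hn]; group⟩
        rw [hW] at this
        exact Finset.notMem_empty _ this
      rw [hW, this]; simp
  have ho0 : (o : ℂ) ≠ 0 := Nat.cast_ne_zero.2 (by rw [ho]; exact Nat.card_pos.ne')
  have keyC : (Wf.card : ℂ) * Nat.card C = (o : ℂ) * Nat.card P * Nf.card := by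
    rw [← Nat.cast_mul, key, hcard]; push_cast; ring
  refine mul_left_cancel₀ ho0 ?_
  linear_combination (Nat.card C : ℂ) * hsum + keyC

/-- A character in the principal block does not vanish on all of `P` minus one. -/
theorem exists_ne_zero [Fintype G] (hM : IsPModular p M) {χ : IrrCharacter G}
    (hχ : χ ∈ principalBlock M G) (hP : Nat.card P ≠ 1) :
    ∃ y ∈ (P : Subgroup G), y ≠ 1 ∧ (χ : G → ℂ) y ≠ 0 := by
  classical
  by_contra hall
  push Not at hall
  haveI := Fintype.ofFinite (P : Subgroup G)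
  set d := charDegree (χ : G → ℂ) with hd
  have hint := Block.isIntegral_average (G := G) (Char.isCharacter_of_isIrr χ.2)
    (S := (P : Subgroup G)) (g := 1) (fun s _ => Commute.one_left s)
  have hs : ∑ u : (P : Subgroup G), (χ : G → ℂ) (1 * (u : G)) = (d : ℂ) := by
    rw [Finset.sum_eq_single (1 : (P : Subgroup G))]
    · rw [Subgroup.coe_one, one_mul, Block.irr_one_eq_natCast]
    · intro u _ hu
      rw [one_mul]
      exact hall u u.2 fun h => hu (Subtype.ext h)
    · simp
  rw [hs] at hint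
  have hdvd : Nat.card (P : Subgroup G) ∣ d := Char.dvd_of_isIntegral_div Nat.card_pos.ne'
    (by rw [div_eq_inv_mul]; exact hint)
  rw [Sylow.card_eq_multiplicity P] at hdvd
  have hf := (hp.out.pow_dvd_iff_le_factorization (charDegree_pos χ.2).ne').1 hdvd
  rw [← hd] at hf
  have hnd : ¬ p ∣ Nat.card G / d := by
    intro hh
    have hdd : d ∣ Nat.card G := Char.charDegree_dvd_card χ.2
    have h0' : Nat.card G / d ≠ 0 :=
      Nat.div_ne_zero_iff.2 ⟨(charDegree_pos χ.2).ne', Nat.le_of_dvd Nat.card_pos hdd⟩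
    rw [hp.out.dvd_iff_one_le_factorization h0', Nat.factorization_div hdd,
      Finsupp.tsub_apply] at hh
    omega
  have hb := (S0914.result p M hM χ).1 hnd
  have hmem : Block.oneIrr G ∈ blockOf M (χ : G → ℂ) :=
    Block.sameBlock_symm (hχ : SameBlock M (Block.oneIrr G : G → ℂ) (χ : G → ℂ))
  rw [hb] at hmem
  have h1 : d = 1 := by
    rw [hd, ← Set.mem_singleton_iff.1 hmem]
    exact charDegree_eq_of_apply_one (by rw [Block.oneIrr_apply]; simp)
  rw [h1, Nat.dvd_one] at hdvd
  exact hP ((Sylow.card_eq_multiplicity P).trans hdvd)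

open Classical in
/-- The conjugates of a linear character. -/
noncomputable def orb [Fintype ((P : Subgroup G) →* ℂˣ)] (ψ : (P : Subgroup G) →* ℂˣ) :
    Finset ((P : Subgroup G) →* ℂˣ) :=
  Finset.univ.filter fun ψ' => Rel P ψ ψ'

/-- The structure of the principal block. -/
theorem ti_principal [Fintype G] (hM : IsPModular p M) (hab : IsMulCommutative P)
    (hP1 : Nat.card P ≠ 1) {m : ℕ} (hm2 : m + 1 < Nat.card P)
    (hCN : (Subgroup.centralizer ((P : Subgroup G) : Set G)).relIndex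
      (Subgroup.normalizer ((P : Subgroup G) : Set G)) = m)
    (hfrob : ∀ y : G, y ∈ (P : Subgroup G) → y ≠ 1 → Subgroup.centralizer ({y} : Set G) ⊓
      Subgroup.normalizer ((P : Subgroup G) : Set G) = Subgroup.centralizer ((P : Subgroup G) : Set G)) :
    ∃ (X : Finset (IrrCharacter G)) (a : IrrCharacter G → ℤ) (d δ : ℤ)
      (ι : Type u) (_ : Fintype ι) (rep : ι → ((P : Subgroup G) →* ℂˣ))
      (μ : ι → IrrCharacter G),
      (δ = 1 ∨ δ = -1) ∧ Function.Injective μ ∧ (∀ i, μ i ∉ X) ∧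
      (∀ χ, χ ∈ principalBlock M G ↔ χ ∈ X ∨ ∃ i, μ i = χ) ∧
      (∀ i, rep i ≠ 1) ∧ (∀ ψ, ψ ≠ 1 → ∃! i, Rel P (rep i) ψ) ∧
      Fintype.card ι * m = Nat.card P - 1 ∧ 2 ≤ Fintype.card ι ∧
      (∀ χ ∈ X, a χ ≠ 0) ∧ Block.oneIrr G ∈ X ∧ a (Block.oneIrr G) = 1 ∧
      (∀ χ ∈ X, ∀ y : G, y ∈ (P : Subgroup G) → y ≠ 1 → (χ : G → ℂ) y = a χ) ∧
      (∀ i, ∀ y : (P : Subgroup G), (y : G) ≠ 1 → (μ i : G → ℂ) y =
        (d : ℂ) + (δ : ℂ) * ∑ᶠ ψ' ∈ {ψ' | Rel P (rep i) ψ'}, ((ψ' y : ℂˣ) : ℂ)) ∧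
      ((Fintype.card ι : ℤ) * d ^ 2 - 2 * δ * d + ∑ χ ∈ X, a χ ^ 2 = m) ∧
      (∀ i j, ∀ g : G, ¬ p ∣ orderOf g → (μ i : G → ℂ) g = (μ j : G → ℂ) g) ∧
      (∀ i, ∀ g : G, ¬ p ∣ orderOf g → ((Fintype.card ι : ℂ) * d - δ) * (μ i : G → ℂ) g +
        ∑ χ ∈ X, (a χ : ℂ) * (χ : G → ℂ) g = 0) := by
  classical
  have hcomm : ∀ a ∈ (P : Subgroup G), ∀ b ∈ (P : Subgroup G), a * b = b * a :=
    fun a ha b hb => congrArg Subtype.val (hab.1.1 ⟨a, ha⟩ ⟨b, hb⟩)
  have hcP : ∀ a b : (P : Subgroup G), a * b = b * a := hab.1.1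
  haveI : Fintype (P : Subgroup G) := Fintype.ofFinite _
  haveI : Fintype ((P : Subgroup G) →* ℂˣ) := Fintype.ofFinite _
  set Λ := (P : Subgroup G) →* ℂˣ
  set N := Subgroup.normalizer ((P : Subgroup G) : Set G) with hN
  set C := Subgroup.centralizer ((P : Subgroup G) : Set G) with hC
  have hCle : C ≤ N := Subgroup.centralizer_le_normalizer _
  have hm : m * Nat.card C = Nat.card N := by
    rw [← hCN, Subgroup.relIndex, ← (C.subgroupOf N).card_mul_index,
      Nat.card_congr (Subgroup.subgroupOfEquivOfLe hCle).toEquiv, mul_comm]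
  have hm0 : 0 < m := Nat.pos_of_mul_pos_right (hm ▸ (Nat.card_pos : 0 < Nat.card N))
  set q : ℂ := (Nat.card P : ℂ) with hq
  have hq0 : q ≠ 0 := Nat.cast_ne_zero.2 Nat.card_pos.ne'
  -- orthogonality of linear characters
  have hbij := lin_bijective (H := (P : Subgroup G)) hcP
  have hrow : ∀ ψ φ : Λ, q⁻¹ * ∑ y : (P : Subgroup G), (ψ y : ℂ) * conj ((φ y : ℂ)) =
      if ψ = φ then 1 else 0 := by
    intro ψ φ
    have h := classInner_irrCharacter (lin ψ) (lin φ)
    simp only [classInner, lin_apply] at h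
    rw [hq, h]
    simp only [hbij.1.eq_iff]
  have hcolP : ∀ y : (P : Subgroup G), ∑ ψ : Λ, (ψ y : ℂ) = if y = 1 then q else 0 := by
    intro y
    rw [← sum_degree_mul y]
    refine Fintype.sum_bijective lin hbij _ _ fun ψ => ?_
    simp
  have hone1 : ∀ y : (P : Subgroup G), (((1 : Λ) y : ℂˣ) : ℂ) = 1 := fun y => rfl
  have hLcard : Fintype.card Λ = Nat.card P := by
    have := hcolP 1
    simp only [map_one, Units.val_one, Finset.sum_const, Finset.card_univ, nsmul_eq_mul, mul_one,
      if_true, hq, Nat.cast_inj] at this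
    exact this
  -- the action on characters is free
  have hfree : ∀ (ψ : Λ), ψ ≠ 1 → ∀ (n : G) (hn : n ∈ N), ψ.comp (cj P n hn) = ψ → n ∈ C := by
    intro ψ hψ n hn h
    by_contra hnC
    let β : ↥(P : Subgroup G) → ↥(P : Subgroup G) := fun w => cj P n hn w * w⁻¹
    have hinj : Function.Injective β := by
      intro w w' e
      have h1 : cj P n hn (w * w'⁻¹) = w * w'⁻¹ := by
        rw [map_mul, map_inv]
        have e' : cj P n hn w = cj P n hn w' * w'⁻¹ * w := mul_inv_eq_iff_eq_mul.1 e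
        rw [e', mul_assoc (cj P n hn w'), hcP (w'⁻¹) w, hcP (cj P n hn w') (w * w'⁻¹),
          mul_inv_cancel_right]
      by_contra hne
      have hd : ((w * w'⁻¹ : (P : Subgroup G)) : G) ≠ 1 := fun e1 =>
        hne (mul_inv_eq_one.1 (Subtype.ext e1))
      refine hnC ?_
      rw [← hfrob _ (w * w'⁻¹).2 hd]
      exact Subgroup.mem_inf.2 ⟨Subgroup.mem_centralizer_singleton_iff.2
        (mul_inv_eq_iff_eq_mul.1 (congrArg Subtype.val h1)), hn⟩
    have hsurj := Finite.surjective_of_injective hinj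
    refine hψ (MonoidHom.ext fun v => ?_)
    obtain ⟨w, rfl⟩ := hsurj v
    rw [map_mul, map_inv, ← MonoidHom.comp_apply, h, mul_inv_cancel, MonoidHom.one_apply]
  have hcompC : ∀ (ψ : Λ) (n : G) (hn : n ∈ N), n ∈ C → ψ.comp (cj P n hn) = ψ := by
    intro ψ n hn hnC
    refine MonoidHom.ext fun w => congrArg ψ (Subtype.ext ?_)
    rw [cj_coe, ← Subgroup.mem_centralizer_iff.1 hnC w w.2, mul_inv_cancel_right]
  -- counting elements of the normalizer
  let act : ↥N → Λ → Λ := fun n φ => φ.comp (cj P n n.2)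
  have hfib : ∀ ψ φ : Λ, ψ ≠ 1 → ((Finset.univ.filter fun n : N => act n φ = ψ).card : ℂ) =
      if Rel P ψ φ then (Nat.card C : ℂ) else 0 := by
    intro ψ φ hψ
    split_ifs with h
    · obtain ⟨n₀, hn₀, h₀⟩ := (rel_iff P ψ φ).1 h
      rw [Nat.cast_inj, Nat.card_eq_fintype_card, Fintype.card_subtype]
      refine Finset.card_bij' (fun n _ => n₀⁻¹ * (n : G)) (fun c hc => ⟨n₀ * c,
        mul_mem hn₀ (hCle (Finset.mem_filter.1 hc).2)⟩) (fun n hn => ?_) (fun c hc => ?_)
        (fun n _ => by ext; simp) (fun c _ => by simp)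
      · have e : φ.comp (cj P n n.2) = ψ := (Finset.mem_filter.1 hn).2
        refine Finset.mem_filter.2 ⟨Finset.mem_univ _, hfree ψ hψ _ (mul_mem (inv_mem hn₀) n.2) ?_⟩
        refine MonoidHom.ext fun w => ?_
        conv_rhs => rw [← e]
        rw [h₀, MonoidHom.comp_apply, MonoidHom.comp_apply, MonoidHom.comp_apply]
        congr 1
        ext; simp [mul_assoc]
      · refine Finset.mem_filter.2 ⟨Finset.mem_univ _, ?_⟩
        have hcC := (Finset.mem_filter.1 hc).2
        conv_rhs => rw [← hcompC ψ c (hCle hcC) hcC, h₀]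
        refine MonoidHom.ext fun w => ?_
        show φ _ = φ _
        congr 1
        ext; simp [mul_assoc]
    · rw [Nat.cast_eq_zero, Finset.card_eq_zero, Finset.filter_eq_empty_iff]
      intro n _ e
      exact h ((rel_iff P ψ φ).2 ⟨n, n.2, e.symm⟩)
  have horb : ∀ ψ : Λ, ψ ≠ 1 → (orb P ψ).card = m := by
    intro ψ hψ
    have h := Finset.card_eq_sum_card_fiberwise (s := (Finset.univ : Finset N))
      (t := orb P ψ) (f := fun n : N => ψ.comp (cj P ((n : G)⁻¹) (inv_mem n.2)))
      (fun n _ => Finset.mem_filter.2 ⟨Finset.mem_univ _, (rel_iff P _ _).2 ⟨n, n.2,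
        MonoidHom.ext fun w => congrArg ψ (Subtype.ext (by simp [mul_assoc]))⟩⟩)
    rw [Finset.sum_congr rfl (g := fun _ => Nat.card C) fun φ hφ => ?_, Finset.sum_const,
      Finset.card_univ, ← Nat.card_eq_fintype_card, ← hm, smul_eq_mul] at h
    · exact (Nat.eq_of_mul_eq_mul_right Nat.card_pos h).symm
    · have hrel : Rel P ψ φ := (Finset.mem_filter.1 hφ).2
      have hφ1 : φ ≠ 1 := fun e => hψ (rel_one P (e ▸ hrel))
      have h1 := hfib φ ψ hφ1
      rw [if_pos (rel_symm P hrel), Nat.cast_inj] at h1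
      rw [← h1]
      refine Finset.card_bij' (fun n _ => n⁻¹) (fun n _ => n⁻¹) (fun n hn => ?_) (fun n hn => ?_)
        (fun n _ => inv_inv n) (fun n _ => inv_inv n)
      · refine Finset.mem_filter.2 ⟨Finset.mem_univ _, ?_⟩
        rw [← (Finset.mem_filter.1 hn).2]
        rfl
      · refine Finset.mem_filter.2 ⟨Finset.mem_univ _, ?_⟩
        rw [← (Finset.mem_filter.1 hn).2]
        exact MonoidHom.ext fun w => congrArg ψ (Subtype.ext (by simp))
  -- the vectors
  set S := Finset.univ.filter (fun χ : IrrCharacter G => χ ∈ principalBlock M G) with hSdef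
  have hS : ∀ χ, χ ∈ S ↔ χ ∈ principalBlock M G := fun χ => by simp [hSdef]
  have hrest : ∀ χ : IrrCharacter G, IsCharacter (P : Subgroup G) (fun y : (P : Subgroup G) => (χ : G → ℂ) y) :=
    fun χ => isCharacter_restrict (isCharacter_of_isIrr χ.2) _
  have hbint : ∀ (χ : IrrCharacter G) (ψ : Λ), ∃ z : ℤ,
      q⁻¹ * ∑ y : (P : Subgroup G), (χ : G → ℂ) y * (conj ((ψ y : ℂ)) - 1) = z := by
    intro χ ψ
    obtain ⟨n1, h1⟩ := classInner_natCast (hrest χ) (isCharacter_of_isIrr (lin ψ).2)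
    obtain ⟨n2, h2⟩ := classInner_natCast (hrest χ) (isCharacter_of_isIrr (lin (1 : Λ)).2)
    refine ⟨(n1 : ℤ) - n2, ?_⟩
    push_cast
    rw [← h1, ← h2]
    simp only [classInner, lin_apply, MonoidHom.one_apply, Units.val_one, map_one, mul_one]
    rw [hq, ← mul_sub, ← Finset.sum_sub_distrib]
    exact congrArg _ (Finset.sum_congr rfl fun y _ => by ring)
  choose b hb using hbint
  have hb1 : ∀ χ, b χ 1 = 0 := fun χ => by
    have h := hb χ 1
    have e : ((b χ 1 : ℤ) : ℂ) = ((0 : ℤ) : ℂ) := by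
      rw [← h]
      have : ∀ y : (P : Subgroup G), (((1 : (P : Subgroup G) →* ℂˣ) y : ℂˣ) : ℂ) = 1 := fun y => rfl
      simp [this]
    exact_mod_cast e
  have hval : ∀ (χ : IrrCharacter G) (y : (P : Subgroup G)), y ≠ 1 →
      (χ : G → ℂ) y = ∑ ψ : Λ, (b χ ψ : ℂ) * (ψ y : ℂ) := by
    intro χ y hy
    have h := congrFun (eq_sum_classInner_smul (isClassFunction_of_isCharacter (hrest χ))) y
    simp only [Finset.sum_apply, Pi.smul_apply, smul_eq_mul] at h
    rw [h, ← Fintype.sum_bijective lin hbij (fun ψ => classInner (fun w : (P : Subgroup G) => (χ : G → ℂ) w)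
      (lin ψ : ↥(P : Subgroup G) → ℂ) * (ψ y : ℂ)) _ (fun ψ => rfl)]
    simp only [← hb, mul_sub, Finset.sum_sub_distrib, sub_mul, mul_one, hcolP, if_neg hy,
      ← Finset.mul_sum, mul_zero, sub_zero]
    rfl
  have hbconj : ∀ χ ψ, (b χ ψ : ℂ) = q⁻¹ * ∑ y : (P : Subgroup G),
      conj ((χ : G → ℂ) y) * ((ψ y : ℂ) - 1) := by
    intro χ ψ
    have h := congrArg conj (hb χ ψ)
    rw [map_intCast] at h
    rw [← h]
    simp [map_sum, hq]
  have hgram : ∀ ψ φ : Λ, ψ ≠ 1 → φ ≠ 1 →
      ∑ χ ∈ S, b χ ψ * b χ φ = (if Rel P ψ φ then 1 else 0) + (m : ℤ) := by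
    intro ψ φ hψ hφ
    have hc0 : (Nat.card C : ℂ) ≠ 0 := Nat.cast_ne_zero.2 Nat.card_pos.ne'
    have key : ((∑ χ ∈ S, b χ ψ * b χ φ : ℤ) : ℂ) * Nat.card C =
        ((((if Rel P ψ φ then 1 else 0) + (m : ℤ)) : ℤ) : ℂ) * Nat.card C := by
      set w : ↥N → ↥(P : Subgroup G) → ℂ := fun n y => ((φ (cj P n n.2 y) : ℂˣ) : ℂ) - 1 with hw
      have hL : ((∑ χ ∈ S, b χ ψ * b χ φ : ℤ) : ℂ) * Nat.card C =
          q⁻¹ * ∑ n : N, ∑ y : (P : Subgroup G), ((ψ y : ℂ) - 1) * conj (w n y) := by
        push_cast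
        calc (∑ χ ∈ S, (b χ ψ : ℂ) * (b χ φ : ℂ)) * Nat.card C
            = q⁻¹ * q⁻¹ * ∑ y : (P : Subgroup G), ∑ y' : (P : Subgroup G),
                ((ψ y : ℂ) - 1) * (conj ((φ y' : ℂ)) - 1) *
                ((Nat.card C : ℂ) * ∑ χ ∈ S, (χ : G → ℂ) y' * conj ((χ : G → ℂ) y)) := by
              rw [Finset.sum_mul]
              simp only [Finset.mul_sum]
              rw [Finset.sum_congr rfl fun y _ => Finset.sum_comm, Finset.sum_comm]
              refine Finset.sum_congr rfl fun χ _ => ?_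
              rw [hbconj χ ψ, ← hb χ φ]
              simp only [Finset.mul_sum, Finset.sum_mul]
              rw [Finset.sum_comm]
              exact Finset.sum_congr rfl fun y _ => Finset.sum_congr rfl fun y' _ => by ring
          _ = q⁻¹ * q⁻¹ * ∑ y : (P : Subgroup G), ∑ y' : (P : Subgroup G),
                ((ψ y : ℂ) - 1) * (conj ((φ y' : ℂ)) - 1) *
                (q * ∑ n : N, if cj P n n.2 y = y' then 1 else 0) := by
              congr 1
              refine Finset.sum_congr rfl fun y _ => Finset.sum_congr rfl fun y' _ => ?_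
              by_cases hy : y = 1
              · subst hy; simp
              congr 1
              rw [column_orth P hM hcomm hfrob S hS y.2 (fun e => hy (Subtype.ext e)) y'.2,
                Finset.sum_boole, hq]
              congr 2
              refine Finset.card_bij' (fun n hn => ⟨n, (Finset.mem_filter.1 hn).2.1⟩)
                (fun n _ => (n : G)) (fun n hn => ?_) (fun n hn => ?_) (fun n _ => rfl) (fun n _ => rfl)
              · exact Finset.mem_filter.2 ⟨Finset.mem_univ _,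
                  Subtype.ext (Finset.mem_filter.1 hn).2.2⟩
              · exact Finset.mem_filter.2 ⟨Finset.mem_univ _, n.2,
                  congrArg Subtype.val (Finset.mem_filter.1 hn).2⟩
          _ = q⁻¹ * ∑ n : N, ∑ y : (P : Subgroup G), ((ψ y : ℂ) - 1) * conj (w n y) := by
              conv_rhs => rw [Finset.sum_comm]
              simp only [Finset.mul_sum]
              refine Finset.sum_congr rfl fun y _ => ?_
              rw [Finset.sum_comm]
              refine Finset.sum_congr rfl fun n _ => ?_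
              rw [Finset.sum_eq_single (cj P n n.2 y)]
              · rw [if_pos rfl, hw]
                field_simp
                simp [map_sub]
              · intro y' _ hne; rw [if_neg (Ne.symm hne)]; simp
              · simp
      rw [hL, Finset.mul_sum]
      have hn : ∀ n : N, q⁻¹ * ∑ y : (P : Subgroup G), ((ψ y : ℂ) - 1) * conj (w n y) =
          (if act n φ = ψ then 1 else 0) + 1 := by
        intro n
        have hne : act n φ ≠ 1 := fun e => hφ (rel_one P (rel_symm P ((rel_iff P 1 φ).2 ⟨n, n.2, e.symm⟩)))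
        have e1 := hrow ψ (act n φ)
        have e2 := hrow ψ 1
        have e3 := hrow 1 (act n φ)
        have e4 := hrow (1 : Λ) 1
        rw [if_neg hψ] at e2
        rw [if_neg (Ne.symm hne)] at e3
        rw [if_pos rfl] at e4
        simp only [hone1, map_one, mul_one, one_mul] at e2 e3 e4
        have hexp : ∀ y : (P : Subgroup G), ((ψ y : ℂ) - 1) * conj (w n y) =
            (ψ y : ℂ) * conj (((act n φ) y : ℂ)) - (ψ y : ℂ) - conj (((act n φ) y : ℂ)) + 1 := by
          intro y
          have hact : ((act n φ) y : ℂ) = ((φ (cj P n n.2 y) : ℂˣ) : ℂ) := rfl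
          rw [hact]
          simp only [hw, map_sub, map_one]
          ring
        rw [Finset.sum_congr rfl fun y _ => hexp y, Finset.sum_add_distrib, Finset.sum_sub_distrib,
          Finset.sum_sub_distrib, mul_add, mul_sub, mul_sub, e1, e2, e3, e4]
        simp [eq_comm]
      rw [Finset.sum_congr rfl fun n _ => hn n, Finset.sum_add_distrib, Finset.sum_boole,
        hfib ψ φ hψ, Finset.sum_const, Finset.card_univ, ← Nat.card_eq_fintype_card, ← hm]
      split_ifs <;> push_cast <;> simp <;> ring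
    exact_mod_cast mul_right_cancel₀ hc0 key
  have hbreg : ∀ (ψ : Λ) (g : G), ¬ p ∣ orderOf g → ∑ χ ∈ S, (b χ ψ : ℂ) * (χ : G → ℂ) g = 0 := by
    intro ψ g hg
    simp only [hbconj, Finset.sum_mul, Finset.mul_sum]
    rw [Finset.sum_comm]
    refine Finset.sum_eq_zero fun y _ => ?_
    by_cases hy : y = 1
    · subst hy; simp
    have h := Block.weak_orthogonality hM (B := principalBlock M G) Block.isPBlock_principalBlock hg
      (show p ∣ orderOf (y : G) by
        obtain ⟨k, hk⟩ := Block.isPElem_of_mem P.2 y.2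
        rcases Nat.eq_zero_or_pos k with rfl | hk0
        · exact absurd (Subtype.ext (orderOf_eq_one_iff.1 (by simpa using hk))) hy
        · exact hk ▸ dvd_pow_self p hk0.ne')
    rw [← Finset.sum_filter, ← hSdef] at h
    have e : ∀ χ : IrrCharacter G, q⁻¹ * (conj ((χ : G → ℂ) y) * ((ψ y : ℂ) - 1)) * (χ : G → ℂ) g =
        (q⁻¹ * ((ψ y : ℂ) - 1)) * ((χ : G → ℂ) g * conj ((χ : G → ℂ) y)) := fun χ => by ring
    simp only [e, ← Finset.mul_sum, h, mul_zero]
  have hbone : ∀ ψ : Λ, ψ ≠ 1 → b (Block.oneIrr G) ψ = -1 := by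
    intro ψ hψ
    have h := hb (Block.oneIrr G) ψ
    have e2 := hrow 1 ψ
    have e4 := hrow (1 : Λ) 1
    rw [if_neg (Ne.symm hψ)] at e2
    rw [if_pos rfl] at e4
    simp only [hone1, map_one, mul_one, one_mul] at e2 e4
    simp only [Block.oneIrr_apply, one_mul, Finset.sum_sub_distrib, mul_sub, e2, e4] at h
    have : ((b (Block.oneIrr G) ψ : ℤ) : ℂ) = ((-1 : ℤ) : ℂ) := by rw [← h]; push_cast; ring
    exact_mod_cast this
  have hbinv : ∀ (χ : IrrCharacter G) (ψ φ : Λ), Rel P ψ φ → b χ ψ = b χ φ := by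
    intro χ ψ φ h
    obtain ⟨n, hn, rfl⟩ := (rel_iff P ψ φ).1 h
    have e : ((b χ (φ.comp (cj P n hn)) : ℤ) : ℂ) = ((b χ φ : ℤ) : ℂ) := by
      rw [← hb, ← hb]
      congr 1
      refine Fintype.sum_bijective (cj P n hn) ?_ _ _ fun w => ?_
      · refine Finite.injective_iff_bijective.1 fun x x' e => Subtype.ext ?_
        exact mul_left_cancel (mul_right_cancel (congrArg Subtype.val e))
      · rw [MonoidHom.comp_apply]
        congr 1
        exact (isClassFunction_of_isIrr χ.2 (w : G) n).symm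
    exact_mod_cast e
  -- orbit representatives
  let st : Setoid Λ := ⟨Rel P, ⟨rel_refl P, fun h => rel_symm P h, fun h h' => rel_trans P h h'⟩⟩
  let rp : Λ → Λ := fun ψ => (Quotient.mk st ψ).out
  have hrp : ∀ ψ, Rel P (rp ψ) ψ := fun ψ => Quotient.exact (Quotient.out_eq (Quotient.mk st ψ))
  have hrpeq : ∀ ψ φ, Rel P ψ φ → rp ψ = rp φ := fun ψ φ h =>
    congrArg Quotient.out (Quotient.sound (s := st) h)
  let ι := {ψ : Λ // rp ψ = ψ ∧ ψ ≠ 1}
  have hne : ∀ i : ι, i.1 ≠ 1 := fun i => i.2.2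
  have huniq : ∀ ψ : Λ, ψ ≠ 1 → ∃! i : ι, Rel P i.1 ψ := by
    intro ψ hψ
    refine ⟨⟨rp ψ, ?_, fun e => hψ (rel_one P (rel_symm P (e ▸ hrp ψ)))⟩, hrp ψ, fun i hi => ?_⟩
    · exact hrpeq _ _ (hrp ψ)
    · exact Subtype.ext ((i.2.1.symm).trans (hrpeq _ _ hi))
  have hrel : ∀ i j : ι, Rel P i.1 j.1 ↔ i = j := fun i j =>
    ⟨fun h => Subtype.ext (i.2.1.symm.trans ((hrpeq _ _ h).trans j.2.1)), fun h => h ▸ rel_refl P _⟩
  have hdecomp : ∀ f : Λ → ℂ, ∑ ψ ∈ Finset.univ.filter (fun ψ : Λ => ψ ≠ 1), f ψ =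
      ∑ i : ι, ∑ ψ ∈ orb P i.1, f ψ := by
    intro f
    rw [← Finset.sum_biUnion]
    · congr 1
      ext ψ
      simp only [Finset.mem_filter, Finset.mem_univ, true_and, Finset.mem_biUnion, orb]
      constructor
      · intro h; obtain ⟨i, hi, -⟩ := huniq ψ h; exact ⟨i, hi⟩
      · rintro ⟨i, hi⟩ rfl; exact hne i (rel_one P hi)
    · intro i _ j _ hij
      rw [Function.onFun, Finset.disjoint_left]
      intro ψ h1 h2
      exact hij ((hrel i j).1 (rel_trans P (Finset.mem_filter.1 h1).2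
        (rel_symm P (Finset.mem_filter.1 h2).2)))
  have hnecard : (Finset.univ.filter (fun ψ : Λ => ψ ≠ 1)).card = Nat.card P - 1 := by
    rw [Finset.filter_ne', Finset.card_erase_of_mem (Finset.mem_univ _), Finset.card_univ, hLcard]
  have htm : Fintype.card ι * m = Nat.card P - 1 := by
    have h := hdecomp fun _ => (1 : ℂ)
    simp only [Finset.sum_const, nsmul_eq_mul, mul_one] at h
    rw [Finset.sum_congr rfl (g := fun _ => (m : ℂ)) (fun i _ => by rw [horb _ (hne i)]),
      Finset.sum_const, Finset.card_univ, nsmul_eq_mul, hnecard, ← Nat.cast_mul, Nat.cast_inj] at h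
    exact h.symm
  have ht : 2 ≤ Fintype.card ι := by
    by_contra hlt
    have : Fintype.card ι * m ≤ 1 * m := Nat.mul_le_mul_right m (by omega)
    omega
  obtain ⟨i₀⟩ : Nonempty ι := Fintype.card_pos_iff.1 (by omega)
  -- coherence
  set τ : ι → G → ℂ := fun i g => ∑ χ ∈ S, ((b χ i.1 - b χ i₀.1 : ℤ) : ℂ) * (χ : G → ℂ) g with hτ
  have hτclass : ∀ i, IsClassFunction G (τ i) := fun i g h => by
    simp only [hτ]
    exact Finset.sum_congr rfl fun χ _ => by rw [isClassFunction_of_isIrr χ.2 g h]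
  have hτcoef : ∀ i (χ : IrrCharacter G), classInner (τ i) (χ : G → ℂ) =
      if χ ∈ S then ((b χ i.1 - b χ i₀.1 : ℤ) : ℂ) else 0 := by
    intro i χ
    have e : τ i = ∑ φ ∈ S, ((b φ i.1 - b φ i₀.1 : ℤ) : ℂ) • (φ : G → ℂ) := by
      funext g; simp [hτ, Finset.sum_apply]
    rw [e, classInner_sum_left]
    simp only [classInner_smul_left, classInner_irrCharacter, mul_ite, mul_one, mul_zero,
      Finset.sum_ite_eq']
  have hτgram : ∀ i j, classInner (τ i) (τ j) =
      ((∑ χ ∈ S, (b χ i.1 - b χ i₀.1) * (b χ j.1 - b χ i₀.1) : ℤ) : ℂ) := by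
    intro i j
    rw [classInner_eq_sum (hτclass j)]
    simp only [hτcoef, apply_ite (starRingEnd ℂ), map_zero, map_intCast]
    push_cast
    rw [← Finset.sum_subset (Finset.subset_univ S) (fun χ _ h => by simp [h])]
    exact Finset.sum_congr rfl fun χ hχ => by simp [hχ]
  obtain ⟨ε, hεpm, μ, hμinj, hμ⟩ := exists_coherent_family i₀ τ
    (by funext g; simp [hτ])
    (fun i => isGeneralizedCharacter_of_intCast (hτclass i) fun χ =>
      ⟨if χ ∈ S then b χ i.1 - b χ i₀.1 else 0, by rw [hτcoef]; split_ifs <;> simp⟩)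
    (fun i => by
      have h1 : ¬ p ∣ orderOf (1 : G) := Block.regular_one
      have e1 := hbreg i.1 1 h1
      have e2 := hbreg i₀.1 1 h1
      simp only [hτ, Int.cast_sub, sub_mul, Finset.sum_sub_distrib]
      rw [e1, e2, sub_zero])
    (fun i j hi hj => by
      have hexp : ∀ (a a' c c' : ι), ∑ χ ∈ S, (b χ a.1 - b χ c.1) * (b χ a'.1 - b χ c'.1) =
          ((if a = a' then 1 else 0) + (m : ℤ)) - ((if a = c' then 1 else 0) + (m : ℤ)) -
          ((if c = a' then 1 else 0) + (m : ℤ)) + ((if c = c' then 1 else 0) + (m : ℤ)) := by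
        intro a a' c c'
        have e : ∀ x y : ι, ∑ χ ∈ S, b χ x.1 * b χ y.1 = (if x = y then 1 else 0) + (m : ℤ) :=
          fun x y => by rw [hgram _ _ (hne x) (hne y)]; simp only [hrel]
        rw [← e, ← e, ← e, ← e, ← Finset.sum_sub_distrib, ← Finset.sum_sub_distrib,
          ← Finset.sum_add_distrib]
        exact Finset.sum_congr rfl fun χ _ => by ring
      rw [hτgram, hexp]
      simp only [if_neg hi, if_neg (Ne.symm hj), if_true]
      exact ⟨fun h => by subst h; simp, fun h => by simp [h]⟩)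
  obtain ⟨ε', hε', hεc⟩ : ∃ e : ℤ, (e = 1 ∨ e = -1) ∧ ε = e := by
    rcases hεpm with h | h
    · exact ⟨1, Or.inl rfl, by simp [h]⟩
    · exact ⟨-1, Or.inr rfl, by simp [h]⟩
  -- the common vector
  set γ : IrrCharacter G → ℤ := fun χ => b χ i₀.1 - (if μ i₀ = χ then ε' else 0) with hγ
  have hdiff : ∀ i (χ : IrrCharacter G), (if χ ∈ S then b χ i.1 - b χ i₀.1 else 0) =
      (if μ i = χ then ε' else 0) - (if μ i₀ = χ then ε' else 0) := by
    intro i χ
    have h := hτcoef i χ
    rw [hμ i, classInner_smul_left, classInner_sub_left, classInner_irrCharacter,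
      classInner_irrCharacter, hεc] at h
    have : (((if χ ∈ S then b χ i.1 - b χ i₀.1 else 0 : ℤ)) : ℂ) =
        (((if μ i = χ then ε' else 0) - (if μ i₀ = χ then ε' else 0) : ℤ) : ℂ) := by
      rw [apply_ite (fun z : ℤ => (z : ℂ)), Int.cast_zero, ← h]
      split_ifs <;> simp
    exact_mod_cast this
  have hμS : ∀ i, μ i ∈ S := by
    obtain ⟨j, hj⟩ := Fintype.exists_ne_of_one_lt_card (show 1 < Fintype.card ι by omega) i₀
    intro i
    by_contra hn
    have hε0 : ε' ≠ 0 := by rcases hε' with h | h <;> simp [h]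
    by_cases hi : i = i₀
    · subst hi
      have h := hdiff j (μ i)
      rw [if_neg hn, if_neg fun e => hj (hμinj e), if_pos rfl] at h
      exact hε0 (by linarith)
    · have h := hdiff i (μ i)
      rw [if_neg hn, if_pos rfl, if_neg fun e => hi (hμinj e).symm] at h
      exact hε0 (by linarith)
  have hbγ : ∀ i, ∀ χ ∈ S, b χ i.1 = γ χ + (if μ i = χ then ε' else 0) := by
    intro i χ hχ
    have h := hdiff i χ
    rw [if_pos hχ] at h
    simp only [hγ]; linarith
  have hε2 : ε' * ε' = 1 := by rcases hε' with h | h <;> simp [h]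
  have hsq : ∀ i, (∑ χ ∈ S, γ χ ^ 2) + 2 * ε' * γ (μ i) = m := by
    intro i
    have h := hgram _ _ (hne i) (hne i)
    rw [if_pos (rel_refl P _), Finset.sum_congr rfl (g := fun χ => γ χ ^ 2 +
      (if μ i = χ then 2 * ε' * γ χ + 1 else 0)) fun χ hχ => by
        rw [hbγ i χ hχ]; split_ifs
        · linear_combination hε2
        · ring,
      Finset.sum_add_distrib, Finset.sum_ite_eq, if_pos (hμS i)] at h
    linarith
  set d' := γ (μ i₀) with hd'
  have hγμ : ∀ i, γ (μ i) = d' := by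
    intro i
    have h1 := hsq i
    have h2 := hsq i₀
    have : (2 * ε') * γ (μ i) = (2 * ε') * d' := by linarith
    exact mul_left_cancel₀ (by rcases hε' with h | h <;> simp [h]) this
  set X := S.filter (fun χ => ∀ i, μ i ≠ χ) with hX
  have hsumX : ∀ f : IrrCharacter G → ℂ, ∑ χ ∈ S, f χ = ∑ i, f (μ i) + ∑ χ ∈ X, f χ := by
    intro f
    rw [← Finset.sum_filter_add_sum_filter_not S (fun χ => ∀ i, μ i ≠ χ), add_comm]
    congr 1
    rw [← Finset.sum_image (f := f) (fun i _ j _ h => hμinj h)]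
    refine Finset.sum_congr ?_ fun _ _ => rfl
    ext χ
    simp only [Finset.mem_filter, Finset.mem_image, Finset.mem_univ, true_and, not_forall, not_not]
    exact ⟨fun h => h.2, fun h => ⟨by obtain ⟨i, rfl⟩ := h; exact hμS i, h⟩⟩
  have hfilt : ∀ (y : (P : Subgroup G)) (i : ι), ∑ᶠ ψ' ∈ {ψ' | Rel P i.1 ψ'}, ((ψ' y : ℂˣ) : ℂ) =
      ∑ ψ ∈ orb P i.1, (ψ y : ℂ) := by
    intro y i
    rw [finsum_mem_eq_finite_toFinset_sum _ (Set.toFinite _)]
    refine Finset.sum_congr ?_ fun _ _ => rfl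
    ext; simp [orb]
  have hexpand : ∀ χ ∈ S, ∀ y : (P : Subgroup G), y ≠ 1 → (χ : G → ℂ) y =
      -(γ χ : ℂ) + (ε' : ℂ) * ∑ i : ι, if μ i = χ then ∑ ψ ∈ orb P i.1, (ψ y : ℂ) else 0 := by
    intro χ hχ y hy
    rw [hval χ y hy, ← Finset.sum_filter_add_sum_filter_not Finset.univ (fun ψ : Λ => ψ ≠ 1),
      hdecomp]
    have h1 : ∑ ψ ∈ Finset.univ.filter (fun ψ : Λ => ¬ ψ ≠ 1), (b χ ψ : ℂ) * (ψ y : ℂ) = 0 :=
      Finset.sum_eq_zero fun ψ hψ => by
        rw [not_not.1 (Finset.mem_filter.1 hψ).2, hb1]; simp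
    rw [h1, add_zero, Finset.sum_congr rfl fun i _ => Finset.sum_congr rfl fun ψ hψ => by
      rw [← hbinv χ _ ψ (Finset.mem_filter.1 hψ).2, hbγ i χ hχ]]
    have hall : ∑ i : ι, ∑ ψ ∈ orb P i.1, (ψ y : ℂ) = -1 := by
      have := hcolP y
      rw [if_neg hy, ← Finset.sum_filter_add_sum_filter_not Finset.univ (fun ψ : Λ => ψ ≠ 1),
        hdecomp, Finset.sum_eq_single_of_mem (1 : Λ) (by simp) (fun ψ hψ hne' =>
          absurd (not_not.1 (Finset.mem_filter.1 hψ).2) hne')] at this
      simp only [hone1] at this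
      linear_combination this
    have e : ∀ i : ι, ∑ ψ ∈ orb P i.1, ((γ χ + (if μ i = χ then ε' else 0) : ℤ) : ℂ) * (ψ y : ℂ) =
        (γ χ : ℂ) * (∑ ψ ∈ orb P i.1, (ψ y : ℂ)) +
        (ε' : ℂ) * (if μ i = χ then ∑ ψ ∈ orb P i.1, (ψ y : ℂ) else 0) := by
      intro i
      rw [← Finset.mul_sum]
      split_ifs <;> push_cast <;> ring
    rw [Finset.sum_congr rfl fun i _ => e i, Finset.sum_add_distrib, ← Finset.mul_sum, hall,
      ← Finset.mul_sum]
    ring
  have hXval : ∀ χ ∈ X, ∀ y : G, y ∈ (P : Subgroup G) → y ≠ 1 → (χ : G → ℂ) y = ((-γ χ : ℤ) : ℂ) := by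
    intro χ hχ y hy hy1
    obtain ⟨hχS, hχμ⟩ := Finset.mem_filter.1 hχ
    have h := hexpand χ hχS ⟨y, hy⟩ fun e => hy1 (congrArg Subtype.val e)
    simp only [if_neg (hχμ _), Finset.sum_const_zero, mul_zero, add_zero] at h
    rw [h]; push_cast; rfl
  have hone : Block.oneIrr G ∈ X := by
    refine Finset.mem_filter.2 ⟨(hS _).2 Block.oneIrr_mem, fun i hi => ?_⟩
    obtain ⟨j, hj⟩ := Fintype.exists_ne_of_one_lt_card (show 1 < Fintype.card ι by omega) i
    have h1 := hbγ i _ ((hS _).2 Block.oneIrr_mem)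
    have h2 := hbγ j _ ((hS _).2 Block.oneIrr_mem)
    rw [hbone _ (hne i), if_pos hi] at h1
    rw [hbone _ (hne j), if_neg fun e => hj (hμinj (e.trans hi.symm))] at h2
    rcases hε' with h | h <;> omega
  have hg1 : γ (Block.oneIrr G) = -1 := by
    have h := hbγ i₀ _ ((hS _).2 Block.oneIrr_mem)
    rw [hbone _ (hne i₀), if_neg ((Finset.mem_filter.1 hone).2 i₀), add_zero] at h
    exact h.symm
  refine ⟨X, fun χ => -γ χ, -d', ε', ι, inferInstance, fun i => i.1, μ, hε', hμinj,
    fun i h => (Finset.mem_filter.1 h).2 i rfl, ?_, hne, huniq, htm, ht, ?_, hone, by simp [hg1],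
    hXval, ?_, ?_, ?_, ?_⟩
  · intro χ
    rw [← hS]
    constructor
    · intro h
      by_cases he : ∃ i, μ i = χ
      · exact Or.inr he
      · exact Or.inl (Finset.mem_filter.2 ⟨h, fun i hi => he ⟨i, hi⟩⟩)
    · rintro (h | ⟨i, rfl⟩)
      · exact (Finset.mem_filter.1 h).1
      · exact hμS i
  · intro χ hχ h0
    obtain ⟨y, hy, hy1, hne'⟩ := exists_ne_zero P hM ((hS χ).1 (Finset.mem_filter.1 hχ).1) hP1
    rw [hXval χ hχ y hy hy1, show -γ χ = 0 from h0, Int.cast_zero] at hne'
    exact hne' rfl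
  · intro i y hy
    rw [hfilt, hexpand _ (hμS i) y fun e => hy (by rw [e]; rfl)]
    simp only [hμinj.eq_iff, hγμ]
    rw [Finset.sum_eq_single i (fun j _ hj => if_neg hj) (fun h => absurd (Finset.mem_univ i) h),
      if_pos rfl]
    push_cast; ring
  · have h := hsq i₀
    rw [← hd'] at h
    have e : ((∑ χ ∈ S, γ χ ^ 2 : ℤ) : ℂ) = (((Fintype.card ι : ℤ) * d' ^ 2 +
        ∑ χ ∈ X, γ χ ^ 2 : ℤ) : ℂ) := by
      push_cast
      rw [hsumX]
      congr 1
      rw [Finset.sum_congr rfl (g := fun _ => (d' : ℂ) ^ 2) fun i _ => by rw [hγμ], Finset.sum_const,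
        Finset.card_univ, nsmul_eq_mul]
    have e' : ∑ χ ∈ S, γ χ ^ 2 = (Fintype.card ι : ℤ) * d' ^ 2 + ∑ χ ∈ X, γ χ ^ 2 := by
      exact_mod_cast e
    rw [e'] at h
    simp only [neg_sq]
    linear_combination h
  · intro i j g hg
    have key : ∀ k, (μ k : G → ℂ) g = (μ i₀ : G → ℂ) g := by
      intro k
      have h : τ k g = 0 := by
        have e1 := hbreg k.1 g hg
        have e2 := hbreg i₀.1 g hg
        simp only [hτ, Int.cast_sub, sub_mul, Finset.sum_sub_distrib]
        rw [e1, e2, sub_zero]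
      rw [hμ k, hεc] at h
      simp only [Pi.smul_apply, Pi.sub_apply, smul_eq_mul] at h
      have hne' : (ε' : ℂ) ≠ 0 := by rcases hε' with h' | h' <;> simp [h']
      exact sub_eq_zero.1 ((mul_eq_zero.1 h).resolve_left hne')
    rw [key i, key j]
  · intro i g hg
    have h := hbreg i.1 g hg
    rw [hsumX, Finset.sum_congr rfl (g := fun j => (((d' : ℂ) + if j = i then (ε' : ℂ) else 0) *
      (μ j : G → ℂ) g)) fun j _ => by
        rw [hbγ i _ (hμS j), hγμ]; simp only [hμinj.eq_iff, eq_comm]; split_ifs <;> push_cast <;> ring,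
      Finset.sum_congr rfl (g := fun χ => (γ χ : ℂ) * (χ : G → ℂ) g) fun χ hχ => by
        rw [hbγ i χ (Finset.mem_filter.1 hχ).1, if_neg ((Finset.mem_filter.1 hχ).2 i), add_zero]] at h
    simp only [add_mul, Finset.sum_add_distrib, ite_mul, zero_mul] at h
    rw [Finset.sum_eq_single (f := fun j => if j = i then (ε' : ℂ) * (μ j : G → ℂ) g else 0) i
      (fun j _ hj => if_neg hj) (fun h => absurd (Finset.mem_univ i) h), if_pos rfl] at h
    have hsame : ∀ j, (μ j : G → ℂ) g = (μ i : G → ℂ) g := by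
      intro j
      have hne' : (ε' : ℂ) ≠ 0 := by rcases hε' with h' | h' <;> simp [h']
      have hz : ∀ k, (μ k : G → ℂ) g = (μ i₀ : G → ℂ) g := by
        intro k
        have h : τ k g = 0 := by
          have e1 := hbreg k.1 g hg
          have e2 := hbreg i₀.1 g hg
          simp only [hτ, Int.cast_sub, sub_mul, Finset.sum_sub_distrib]
          rw [e1, e2, sub_zero]
        rw [hμ k, hεc] at h
        simp only [Pi.smul_apply, Pi.sub_apply, smul_eq_mul] at h
        exact sub_eq_zero.1 ((mul_eq_zero.1 h).resolve_left hne')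
      rw [hz j, hz i]
    rw [Finset.sum_congr rfl (g := fun _ => (d' : ℂ) * (μ i : G → ℂ) g) fun j _ => by rw [hsame],
      Finset.sum_const, Finset.card_univ, nsmul_eq_mul] at h
    simp only [Int.cast_neg, neg_mul, Finset.sum_neg_distrib]
    linear_combination -h

end Cfsg.Agent.Lib.Char.ATI
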