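import Cfsg.Agent.Lib.Char.Kernel
import Cfsg.Agent.Lib.Char.Induced
import Cfsg.Agent.Lib.CharAux
import Cfsg.Agent.Lib.CharTools.Basic
import Cfsg.Agent.Lib.CharClifford.Basic
import Cfsg.Agent.Lib.Hall.Basic
import Mathlib.GroupTheory.Frattini

/-!
# The theorem of Broline and Garrison on kernels of characters
-/

set_option autoImplicit false

open scoped ComplexConjugate

namespace Cfsg.Agent.Lib.BrolineGarrison

open Cfsg Cfsg.Agent.Lib Cfsg.Agent.Lib.Char

universe u

variable {G : Type u} [Group G] [Finite G]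

open scoped Classical in
/-- If the average of an irreducible character over a normal subgroup is nonzero, the subgroup
lies in the kernel. -/
theorem le_ker_of_vanishes {χ : G → ℂ} (h : IsIrrCharacter G χ) (L : Subgroup G) [L.Normal]
    (hv : ∀ x ∈ L, χ x ≠ 0 → χ x = χ 1) : ∀ x ∈ L, χ x = χ 1 := by
  classical
  have := Fintype.ofFinite G
  rcases CharTools.sum_normal_eq_zero_or_const h L with h' | h'
  · exact h'
  exfalso
  have h1 : χ 1 = (charDegree χ : ℂ) := CharAux.charDegree_eq (isCharacter_of_isIrr h)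
  have hpos : 0 < charDegree χ := CharAux.charDegree_pos h
  have e : ∑ x ∈ Finset.univ.filter (· ∈ L), χ x =
      ((Finset.univ.filter (fun x => x ∈ L ∧ χ x ≠ 0)).card : ℂ) * (charDegree χ : ℂ) := by
    rw [← Finset.sum_filter_ne_zero, Finset.filter_filter]
    rw [Finset.sum_congr rfl (g := fun _ => (charDegree χ : ℂ)) fun x hx => by
      rw [Finset.mem_filter] at hx
      rw [hv x hx.2.1 hx.2.2, h1]]
    simp
  rw [e] at h'
  rcases mul_eq_zero.1 h' with h'' | h''
  · rw [Nat.cast_eq_zero, Finset.card_eq_zero] at h''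
    have : (1 : G) ∈ Finset.univ.filter (fun x => x ∈ L ∧ χ x ≠ 0) := by
      rw [Finset.mem_filter]
      exact ⟨Finset.mem_univ _, L.one_mem, by rw [h1]; exact_mod_cast hpos.ne'⟩
    rw [h''] at this
    simp at this
  · exact hpos.ne' (by exact_mod_cast h'')

omit [Finite G] in
theorem isIrr_restrict_of_sup [Finite G] {χ : G → ℂ} (hχ : IsIrrCharacter G χ) {K H : Subgroup G}
    [K.Normal] (hK : ∀ k ∈ K, χ k = χ 1) (hKH : K ⊔ H = ⊤) :
    IsIrrCharacter ↥H (fun h : ↥H => χ h) := by
  obtain ⟨η, hη, he⟩ := exists_irr_deflation hχ K hK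
  have hs : Function.Surjective ((QuotientGroup.mk' K).comp H.subtype) := by
    intro q
    obtain ⟨g, rfl⟩ := QuotientGroup.mk_surjective q
    have hg : g ∈ H ⊔ K := by rw [sup_comm, hKH]; exact Subgroup.mem_top g
    obtain ⟨a, ha, b, hb, rfl⟩ := Subgroup.mem_sup_of_normal_right.1 hg
    refine ⟨⟨a, ha⟩, ?_⟩
    simp [QuotientGroup.mk_mul_of_mem _ hb]
  have := isIrrCharacter_comp hη _ hs
  rwa [show η ∘ (QuotientGroup.mk' K).comp H.subtype = fun h : ↥H => χ h from
    funext fun h => he h] at this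

/-- The engine: a proper subgroup supplementing the kernel produces a larger character with a
smaller kernel, unless every character over the restriction extends it. -/
theorem dichotomy {χ : G → ℂ} (hχ : IsIrrCharacter G χ) {K H : Subgroup G}
    (hK : ∀ g : G, g ∈ K ↔ χ g = χ 1) (hH : IsCoatom H) (hKH : K ⊔ H = ⊤) [K.Normal] :
    (∃ ψ : IrrCharacter G, charDegree χ < charDegree (ψ : G → ℂ) ∧ ∃ L : Subgroup G,
      (∀ g : G, g ∈ L ↔ (ψ : G → ℂ) g = (ψ : G → ℂ) 1) ∧ L < K) ∨
    ((H ⊓ K).Normal ∧ ∀ x ∈ H, x ∉ H.normalCore → χ x = 0) := by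
  classical
  have := Fintype.ofFinite G
  have := Fintype.ofFinite ↥H
  set θ : ↥H → ℂ := fun h => χ h with hθdef
  have hθ : IsIrrCharacter ↥H θ := isIrr_restrict_of_sup hχ (fun k hk => (hK k).1 hk) hKH
  have hθc := isCharacter_of_isIrr hθ
  have hχc := isCharacter_of_isIrr hχ
  have hKle : ¬ K ≤ H := fun hle => hH.1 (by rwa [sup_eq_right.2 hle] at hKH)
  let S : Finset (IrrCharacter G) :=
    Finset.univ.filter fun ψ => classInner (indFun H θ) (ψ : G → ℂ) ≠ 0
  have hdec : ∀ ψ ∈ S, ∃ r : ↥H → ℂ, IsCharacter ↥H r ∧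
      ∀ h : ↥H, (ψ : G → ℂ) h = θ h + r h := by
    intro ψ hψ
    have hres : IsCharacter ↥H (fun h : ↥H => (ψ : G → ℂ) h) :=
      isCharacter_restrict (isCharacter_of_isIrr ψ.2) H
    obtain ⟨m, hm⟩ := isCharacter_eq_sum hres
    have hne := (Finset.mem_filter.1 hψ).2
    rw [classInner_indFun H θ (isClassFunction_of_isIrr ψ.2)] at hne
    have hpos : 0 < m ⟨θ, hθ⟩ := by
      by_contra h0
      apply hne
      rw [hm, classInner_sum_right]
      refine Finset.sum_eq_zero fun φ _ => ?_
      rw [classInner_smul_right]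
      by_cases hφ : φ = ⟨θ, hθ⟩
      · subst hφ
        rw [Nat.eq_zero_of_not_pos h0]
        simp
      · rw [classInner_irr_ne hθ φ.2 fun e => hφ (Subtype.ext e.symm), mul_zero]
    refine ⟨∑ φ : IrrCharacter ↥H, ((if φ = ⟨θ, hθ⟩ then m φ - 1 else m φ) • (φ : ↥H → ℂ)),
      isCharacter_sum _ _ fun φ _ => isCharacter_nsmul (isCharacter_of_isIrr φ.2) _, fun h => ?_⟩
    have := congrFun hm h
    simp only [Finset.sum_apply, Pi.smul_apply, smul_eq_mul] at this
    rw [this]
    simp only [Finset.sum_apply, Pi.smul_apply, nsmul_eq_mul, Pi.mul_apply, Pi.natCast_apply]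
    rw [← Finset.add_sum_erase Finset.univ (fun φ : IrrCharacter ↥H => (m φ : ℂ) * (φ : ↥H → ℂ) h)
      (Finset.mem_univ ⟨θ, hθ⟩), ← Finset.add_sum_erase Finset.univ
      (fun φ : IrrCharacter ↥H => ((if φ = ⟨θ, hθ⟩ then m φ - 1 else m φ : ℕ) : ℂ) *
        (φ : ↥H → ℂ) h) (Finset.mem_univ ⟨θ, hθ⟩)]
    have hsame : ∀ φ ∈ Finset.univ.erase (⟨θ, hθ⟩ : IrrCharacter ↥H),
        ((if φ = ⟨θ, hθ⟩ then m φ - 1 else m φ : ℕ) : ℂ) * (φ : ↥H → ℂ) h =
          (m φ : ℂ) * (φ : ↥H → ℂ) h := fun φ hφ => by rw [if_neg (Finset.ne_of_mem_erase hφ)]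
    rw [Finset.sum_congr rfl hsame, if_pos rfl, Nat.cast_sub hpos]
    push_cast
    ring
  have hdeg : ∀ ψ ∈ S, charDegree χ ≤ charDegree (ψ : G → ℂ) ∧
      (charDegree χ = charDegree (ψ : G → ℂ) → ∀ h : ↥H, (ψ : G → ℂ) h = θ h) := by
    intro ψ hψ
    obtain ⟨r, hr, he⟩ := hdec ψ hψ
    have h1 := he 1
    rw [OneMemClass.coe_one, CharAux.charDegree_eq (isCharacter_of_isIrr ψ.2),
      show θ 1 = χ 1 from rfl, CharAux.charDegree_eq hχc, CharAux.charDegree_eq hr] at h1
    have h2 : charDegree (ψ : G → ℂ) = charDegree χ + charDegree r := by exact_mod_cast h1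
    refine ⟨by omega, fun heq h => ?_⟩
    have hr0 : r h = 0 := by
      have hb := norm_apply_le hr h
      rw [CharAux.charDegree_eq hr, show charDegree r = 0 by omega, Nat.cast_zero, norm_zero] at hb
      exact norm_le_zero_iff.1 hb
    rw [he h, hr0, add_zero]
  have hker : ∀ ψ ∈ S, ∀ g ∈ H, (ψ : G → ℂ) g = (ψ : G → ℂ) 1 → g ∈ K := by
    intro ψ hψ g hg hgk
    obtain ⟨r, hr, he⟩ := hdec ψ hψ
    rw [hK]
    have e1 := he ⟨g, hg⟩
    have e2 := he 1
    rw [OneMemClass.coe_one] at e2
    have hb1 := norm_apply_le hθc ⟨g, hg⟩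
    have hb2 := norm_apply_le hr ⟨g, hg⟩
    rw [CharAux.charDegree_eq hθc, Complex.norm_natCast] at hb1
    rw [CharAux.charDegree_eq hr, Complex.norm_natCast] at hb2
    have hsum : θ ⟨g, hg⟩ + r ⟨g, hg⟩ = θ 1 + r 1 := by rw [← e1, ← e2, hgk]
    rw [CharAux.charDegree_eq hθc, CharAux.charDegree_eq hr] at hsum
    have hre := congrArg Complex.re hsum
    simp only [Complex.add_re, Complex.natCast_re] at hre
    have h3 := (Complex.re_le_norm (θ ⟨g, hg⟩)).trans hb1
    have h4 := (Complex.re_le_norm (r ⟨g, hg⟩)).trans hb2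
    have h5 : (θ ⟨g, hg⟩).re = charDegree θ := by linarith
    have h6 : (θ ⟨g, hg⟩).im = 0 := by
      have hn := Complex.sq_norm (θ ⟨g, hg⟩)
      rw [Complex.normSq_apply, h5] at hn
      nlinarith [norm_nonneg (θ ⟨g, hg⟩)]
    have h7 : θ ⟨g, hg⟩ = θ 1 := by
      rw [CharAux.charDegree_eq hθc]
      exact Complex.ext (by simp [h5]) (by simp [h6])
    exact h7
  by_cases hbig : ∃ ψ ∈ S, charDegree χ < charDegree (ψ : G → ℂ)
  · left
    obtain ⟨ψ, hψ, hlt⟩ := hbig
    have hψc := isCharacter_of_isIrr ψ.2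
    haveI : (charKer (ψ : G → ℂ)).Normal := charKer_normal hψc
    refine ⟨ψ, hlt, charKer (ψ : G → ℂ), fun g => mem_charKer hψc, ?_⟩
    have hLH : charKer (ψ : G → ℂ) ≤ H := by
      by_contra hn
      have htop : charKer (ψ : G → ℂ) ⊔ H = ⊤ :=
        hH.2 _ (lt_of_le_of_ne le_sup_right fun e => hn (e ▸ le_sup_left))
      have hirr := isIrr_restrict_of_sup ψ.2 (fun k hk => (mem_charKer hψc).1 hk) htop
      have hne := (Finset.mem_filter.1 hψ).2
      rw [classInner_indFun H θ (isClassFunction_of_isIrr ψ.2)] at hne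
      have heq : θ = fun h : ↥H => (ψ : G → ℂ) h := by
        by_contra hne'
        exact hne (classInner_irr_ne hθ hirr hne')
      have h1 := congrFun heq 1
      simp only [hθdef, OneMemClass.coe_one] at h1
      rw [CharAux.charDegree_eq hχc, CharAux.charDegree_eq hψc] at h1
      exact hlt.ne (by exact_mod_cast h1)
    exact lt_of_le_of_ne (fun g hg => hker ψ hψ g (hLH hg) ((mem_charKer hψc).1 hg))
      fun e => hKle (e ▸ hLH)
  · right
    push Not at hbig
    have heq : ∀ ψ ∈ S, ∀ h : ↥H, (ψ : G → ℂ) h = θ h := fun ψ hψ =>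
      (hdeg ψ hψ).2 (le_antisymm (hdeg ψ hψ).1 (hbig ψ hψ))
    have hone : ∀ ψ ∈ S, classInner (indFun H θ) (ψ : G → ℂ) = 1 := by
      intro ψ hψ
      rw [classInner_indFun H θ (isClassFunction_of_isIrr ψ.2),
        show (fun h : ↥H => (ψ : G → ℂ) h) = θ from funext (heq ψ hψ), classInner_irr_self hθ]
    have hind : ∀ g : G, indFun H θ g = ∑ ψ ∈ S, (ψ : G → ℂ) g := by
      intro g
      rw [eq_sum_classInner_smul (isClassFunction_indFun H θ), Finset.sum_apply]
      rw [← Finset.sum_subset (Finset.subset_univ S) fun ψ _ hψ => by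
        have : classInner (indFun H θ) (ψ : G → ℂ) = 0 := by simpa [S] using hψ
        simp [this]]
      exact Finset.sum_congr rfl fun ψ hψ => by simp [hone ψ hψ]
    have hNG : (Nat.card ↥H : ℂ) ≠ 0 := card_ne_zero_complex _
    have hval : ∀ x ∈ H, (∑ g : G, extendByZero H θ (g⁻¹ * x * g)) = (Nat.card G : ℂ) * χ x := by
      intro x hx
      have e1 := hind x
      have e2 := hind 1
      rw [Finset.sum_congr rfl fun ψ hψ => heq ψ hψ ⟨x, hx⟩] at e1
      rw [Finset.sum_congr rfl (g := fun _ => θ 1) fun ψ hψ => by simpa using heq ψ hψ 1] at e2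
      simp only [Finset.sum_const, nsmul_eq_mul] at e1 e2
      rw [indFun_one] at e2
      have hθ1 : θ 1 ≠ 0 := irr_degree_ne_zero hθ
      have hidx : (S.card : ℂ) = (H.index : ℂ) := by
        exact (mul_right_cancel₀ hθ1 e2).symm
      rw [hidx, indFun] at e1
      rw [inv_mul_eq_iff_eq_mul₀ hNG] at e1
      rw [e1, ← Subgroup.card_mul_index H, Nat.cast_mul]
      simp [hθdef]
      ring
    have hvanish : ∀ x ∈ H, x ∉ H.normalCore → χ x = 0 := by
      intro x hx hxc
      by_contra hne
      apply hxc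
      intro b
      by_contra hb
      have e := hval x hx
      have hterm : ∀ g : G, extendByZero H θ (g⁻¹ * x * g) =
          if g⁻¹ * x * g ∈ H then χ x else 0 := by
        intro g
        split_ifs with hg
        · rw [extendByZero_mem H θ hg]
          show χ (g⁻¹ * x * g) = χ x
          simpa using isClassFunction_of_isCharacter hχc x g⁻¹
        · exact extendByZero_not_mem H θ hg
      simp only [hterm, ← Finset.sum_filter, Finset.sum_const, nsmul_eq_mul] at e
      have hc := mul_right_cancel₀ hne e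
      have hlt : (Finset.univ.filter fun g : G => g⁻¹ * x * g ∈ H).card < Nat.card G := by
        rw [Nat.card_eq_fintype_card, ← Finset.card_univ]
        refine Finset.card_lt_card ⟨Finset.subset_univ _, fun hsub => hb ?_⟩
        have := (Finset.mem_filter.1 (hsub (Finset.mem_univ b⁻¹))).2
        simpa using this
      exact hlt.ne (by exact_mod_cast hc)
    refine ⟨⟨fun n hn g => ?_⟩, hvanish⟩
    have hnK : g * n * g⁻¹ ∈ K := Subgroup.Normal.conj_mem inferInstance n hn.2 g
    refine ⟨?_, hnK⟩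
    have hcore : n ∈ H.normalCore := by
      by_contra hc
      have h0 := hvanish n hn.1 hc
      rw [(hK n).1 hn.2] at h0
      exact irr_degree_ne_zero hχ h0
    exact hcore g

omit [Finite G] in
/-- A nontrivial solvable group has a nontrivial `p`-core for some prime. -/
theorem exists_pCore_ne_bot_of_solvable [Finite G] [Group.IsSolvable G] [Nontrivial G] :
    ∃ p : Nat.Primes, pCore (p : ℕ) G ≠ ⊥ := by
  by_contra hc
  push Not at hc
  have hF : fittingSubgroup G = ⊥ := by
    rw [Hall.fittingSubgroup_eq_iSup_pCore]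
    simp [hc]
  obtain ⟨n, hn⟩ := (Group.isSolvable_def (G := G)).1 inferInstance
  have key : ∀ k, derivedSeries G k = ⊥ → derivedSeries G 0 = ⊥ := by
    intro k
    induction k with
    | zero => exact id
    | succ k ih =>
      intro hk
      refine ih ?_
      haveI : (derivedSeries G k).Normal := derivedSeries_normal G k
      haveI : IsMulCommutative ↥(derivedSeries G k) := by
        refine ⟨⟨fun a b => Subtype.ext ?_⟩⟩
        have h := Subgroup.commutator_mem_commutator a.2 b.2
        rw [← derivedSeries_succ, hk, Subgroup.mem_bot, commutatorElement_eq_one_iff_mul_comm] at h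
        exact h
      letI : CommGroup ↥(derivedSeries G k) := IsMulCommutative.instCommGroup
      have := Hall.le_fittingSubgroup (N := derivedSeries G k) CommGroup.isNilpotent
      rwa [hF, le_bot_iff] at this
  have := key n hn
  rw [derivedSeries_zero] at this
  exact top_ne_bot this

omit [Finite G] in
theorem exists_sylow_not_normal [Finite G] {M : Subgroup G} (hM : ¬ Group.IsNilpotent ↥M) :
    ∃ p : ℕ, p.Prime ∧ ∃ P : Sylow p ↥M, ¬ ((P : Subgroup ↥M).map M.subtype).Normal := by
  by_contra hc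
  push Not at hc
  refine hM ?_
  refine ((Group.isNilpotent_of_finite_tfae (G := ↥M)).out 0 3).2 ?_
  intro p hp P
  have hn := hc p hp.out P
  rw [← Subgroup.comap_map_eq_self_of_injective M.subtype_injective (P : Subgroup ↥M)]
  exact hn.comap _

theorem main {χ : G → ℂ} (hχ : IsIrrCharacter G χ) (K : Subgroup G) [K.Normal]
    (hK : ∀ g : G, g ∈ K ↔ χ g = χ 1)
    (h : ¬ K ≤ fittingSubgroup G ∨
      (K = fittingSubgroup G ∧ Group.IsSolvable (G ⧸ K) ∧ K ≠ ⊤)) :
    ∃ ψ : IrrCharacter G, charDegree χ < charDegree (ψ : G → ℂ) ∧ ∃ L : Subgroup G,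
      (∀ g : G, g ∈ L ↔ (ψ : G → ℂ) g = (ψ : G → ℂ) 1) ∧ L < K := by
  classical
  rcases h with hKF | ⟨hKF, hsol, hKtop⟩
  · have hnil : ¬ Group.IsNilpotent ↥K := fun hn => hKF (Hall.le_fittingSubgroup hn)
    obtain ⟨p, hp, P, hP⟩ := exists_sylow_not_normal hnil
    haveI := Fact.mk hp
    set P0 := (P : Subgroup ↥K).map K.subtype with hP0
    have hN : Subgroup.normalizer (P0 : Set G) ≠ ⊤ := fun e =>
      hP (Subgroup.normalizer_eq_top_iff.1 e)
    obtain ⟨H, hH, hNH⟩ := (eq_top_or_exists_le_coatom _).resolve_left hN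
    have hfr : Subgroup.normalizer (P0 : Set G) ⊔ K = ⊤ := Sylow.normalizer_sup_eq_top P
    have hKH : K ⊔ H = ⊤ := by
      rw [eq_top_iff, ← hfr]
      exact sup_le (hNH.trans le_sup_right) le_sup_left
    refine (dichotomy hχ hK hH hKH).resolve_right ?_
    rintro ⟨hTn, -⟩
    haveI := hTn
    have hP0T : P0 ≤ H ⊓ K := le_inf (Subgroup.le_normalizer.trans hNH) (Subgroup.map_subtype_le _)
    have hTK : H ⊓ K ≤ K := inf_le_right
    let PT : Sylow p ↥(H ⊓ K) :=
      (IsPGroup.of_equiv (P.2.map K.subtype)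
        (Subgroup.subgroupOfEquivOfLe hP0T).symm).toSylow (by
          intro hd
          apply P.not_dvd_index
          refine hd.trans ?_
          have e : P0.relIndex K = (P : Subgroup ↥K).index := by
            rw [Subgroup.relIndex, hP0, Subgroup.subgroupOf,
              Subgroup.comap_map_eq_self_of_injective K.subtype_injective]
          rw [← e]
          exact Dvd.intro _ (Subgroup.relIndex_mul_relIndex P0 (H ⊓ K) K hP0T hTK))
    have hfr' := Sylow.normalizer_sup_eq_top PT
    rw [show ((PT : Subgroup ↥(H ⊓ K)).map (H ⊓ K).subtype) = P0 from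
      Subgroup.map_subgroupOf_eq_of_le hP0T] at hfr'
    exact hH.1 (eq_top_iff.2 (hfr' ▸ sup_le hNH inf_le_left))
  · haveI : Nontrivial (G ⧸ K) := by
      rw [QuotientGroup.nontrivial_iff]
      exact hKtop
    obtain ⟨⟨p, hp⟩, hcore⟩ := exists_pCore_ne_bot_of_solvable (G := G ⧸ K)
    haveI := Fact.mk hp
    obtain ⟨M, ⟨hMn, hKM, hMle⟩, hMmin⟩ := Set.Finite.exists_minimal
      (s := {M : Subgroup G | M.Normal ∧ K < M ∧ M ≤ (pCore p (G ⧸ K)).comap (QuotientGroup.mk' K)})
      (Set.toFinite _) ⟨_, (Hall.pCore_normal p).comap _, by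
        refine lt_of_le_of_ne (fun k hk => ?_) fun e => hcore ?_
        · rw [Subgroup.mem_comap]
          simp [(QuotientGroup.eq_one_iff k).2 hk]
        · have := congrArg (Subgroup.map (QuotientGroup.mk' K)) e
          rwa [Subgroup.map_comap_eq_self_of_surjective (QuotientGroup.mk'_surjective K),
            QuotientGroup.map_mk'_self, eq_comm] at this, le_rfl⟩
    haveI := hMn
    have hKnil : Group.IsNilpotent ↥K := hKF ▸ Hall.fittingSubgroup_isNilpotent
    have hMnil : ¬ Group.IsNilpotent ↥M := fun hn =>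
      hKM.not_ge (hKF ▸ Hall.le_fittingSubgroup hn)
    -- M is K times a Sylow p-subgroup
    obtain ⟨P⟩ : Nonempty (Sylow p ↥M) := inferInstance
    set P0 := (P : Subgroup ↥M).map M.subtype with hP0
    have hP0M : P0 ≤ M := Subgroup.map_subtype_le _
    have hKP : K ⊔ P0 = M := by
      refine le_antisymm (sup_le hKM.le hP0M) fun m hm => ?_
      have hsub : ((K.subgroupOf M) ⊔ (P : Subgroup ↥M)) = ⊤ := by
        rw [← Subgroup.index_eq_one]
        have h1 : ((K.subgroupOf M) ⊔ (P : Subgroup ↥M)).index ∣ (P : Subgroup ↥M).index :=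
          Subgroup.index_dvd_of_le le_sup_right
        have h2 : ((K.subgroupOf M) ⊔ (P : Subgroup ↥M)).index ∣ (K.subgroupOf M).index :=
          Subgroup.index_dvd_of_le le_sup_left
        obtain ⟨j, hj⟩ : ∃ j, (K.subgroupOf M).index = p ^ j := by
          have hpg : IsPGroup p (↥M ⧸ K.subgroupOf M) := by
            intro q
            obtain ⟨⟨x, hx⟩, rfl⟩ := QuotientGroup.mk_surjective q
            obtain ⟨j, hj⟩ := Hall.isPGroup_pCore p ⟨_, hMle hx⟩
            refine ⟨j, ?_⟩
            rw [← QuotientGroup.mk_pow, QuotientGroup.eq_one_iff, Subgroup.mem_subgroupOf,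
              SubgroupClass.coe_pow, ← QuotientGroup.eq_one_iff, QuotientGroup.mk_pow]
            exact congrArg Subtype.val hj
          obtain ⟨j, hj⟩ := IsPGroup.iff_card.1 hpg
          exact ⟨j, by rw [Subgroup.index_eq_card, hj]⟩
        rw [hj] at h2
        exact Nat.eq_one_of_dvd_coprimes
          (((hp.coprime_iff_not_dvd.2 P.not_dvd_index).pow_left j)) h2 h1
      have : (⟨m, hm⟩ : ↥M) ∈ (K.subgroupOf M) ⊔ (P : Subgroup ↥M) := hsub ▸ Subgroup.mem_top _
      have h' := Subgroup.mem_map_of_mem M.subtype this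
      rw [Subgroup.map_sup, Subgroup.map_subgroupOf_eq_of_le hKM.le] at h'
      exact h'
    have hP0n : ¬ P0.Normal := by
      intro hn
      apply hKM.not_ge
      rw [← hKP, sup_le_iff, hKF]
      exact ⟨le_rfl, Hall.le_fittingSubgroup (P.2.map M.subtype).isNilpotent⟩
    have hN : Subgroup.normalizer (P0 : Set G) ≠ ⊤ := fun e =>
      hP0n (Subgroup.normalizer_eq_top_iff.1 e)
    obtain ⟨H, hH, hNH⟩ := (eq_top_or_exists_le_coatom _).resolve_left hN
    have hP0H : P0 ≤ H := Subgroup.le_normalizer.trans hNH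
    have hfr : Subgroup.normalizer (P0 : Set G) ⊔ M = ⊤ := Sylow.normalizer_sup_eq_top P
    have hKH : K ⊔ H = ⊤ := by
      rw [eq_top_iff, ← hfr]
      exact sup_le (hNH.trans le_sup_right) (hKP ▸ sup_le le_sup_left (hP0H.trans le_sup_right))
    refine (dichotomy hχ hK hH hKH).resolve_right ?_
    rintro ⟨hTn, hvan⟩
    have hNM : H.normalCore ⊓ M ≤ K := by
      by_contra hnot
      set D := H.normalCore ⊓ M with hD
      haveI : D.Normal := Subgroup.normal_inf_normal _ _
      have hDK : K ⊔ D = M := by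
        refine le_antisymm (sup_le hKM.le inf_le_right) (hMmin ⟨inferInstance, ?_, ?_⟩ ?_)
        · exact lt_of_le_of_ne le_sup_left fun e => hnot (e ▸ le_sup_right)
        · exact sup_le (hKM.le.trans hMle) (inf_le_right.trans hMle)
        · exact sup_le hKM.le inf_le_right
      -- every p-element of M lies in D
      have hPD : P0 ≤ D := by
        obtain ⟨Q, hQn⟩ : ∃ Q : Sylow p ↥K, (Q : Subgroup ↥K).Normal :=
          ⟨default, by
            have hall : ∀ (r : ℕ) (_ : Fact r.Prime) (Q : Sylow r ↥K), (Q : Subgroup ↥K).Normal :=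
              ((Group.isNilpotent_of_finite_tfae (G := ↥K)).out 0 3).1 hKnil
            exact hall p inferInstance _⟩
        haveI := Sylow.characteristic_of_normal Q hQn
        set Q0 := (Q : Subgroup ↥K).map K.subtype with hQ0
        haveI : Q0.Normal := ConjAct.normal_of_characteristic_of_normal
        have hQ0P : Q0 ≤ P0 := by
          have hQM : Q0 ≤ M := (Subgroup.map_subtype_le _).trans hKM.le
          haveI : (Q0.subgroupOf M).Normal := Subgroup.Normal.subgroupOf inferInstance M
          have : Q0.subgroupOf M ≤ (P : Subgroup ↥M) := by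
            refine (Hall.le_pCore ?_).trans (Hall.pCore_le_sylow P)
            exact (Q.2.map K.subtype).of_equiv (Subgroup.subgroupOfEquivOfLe hQM).symm
          intro q hq
          exact ⟨⟨q, hQM hq⟩, this hq, rfl⟩
        have hQ0D : Q0 ≤ D := le_inf (Subgroup.normal_le_normalCore.2 (hQ0P.trans hP0H))
          (hQ0P.trans hP0M)
        have hidx : ¬ p ∣ D.relIndex M := by
          have e : D.relIndex M = D.relIndex K := by
            rw [← hDK, Subgroup.relIndex_sup_right]
          rw [e]
          intro hd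
          apply Q.not_dvd_index
          have e' : Q0.relIndex K = (Q : Subgroup ↥K).index := by
            rw [Subgroup.relIndex, hQ0, Subgroup.subgroupOf,
              Subgroup.comap_map_eq_self_of_injective K.subtype_injective]
          rw [← e']
          exact hd.trans (Subgroup.relIndex_dvd_of_le_left _ hQ0D)
        rintro _ ⟨x, hx, rfl⟩
        obtain ⟨k, hk⟩ := P.2 ⟨x, hx⟩
        have hk' : x ^ p ^ k = 1 := by simpa using congrArg Subtype.val hk
        have hd : orderOf (QuotientGroup.mk x : ↥M ⧸ D.subgroupOf M) ∣ p ^ k :=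
          orderOf_dvd_of_pow_eq_one (by rw [← QuotientGroup.mk_pow, hk']; rfl)
        have hd' : orderOf (QuotientGroup.mk x : ↥M ⧸ D.subgroupOf M) ∣ D.relIndex M := by
          rw [Subgroup.relIndex, Subgroup.index_eq_card]
          exact orderOf_dvd_natCard _
        have h1 := Nat.eq_one_of_dvd_coprimes ((hp.coprime_iff_not_dvd.2 hidx).pow_left k) hd hd'
        rw [orderOf_eq_one_iff, QuotientGroup.eq_one_iff] at h1
        exact h1
      -- Frattini
      let PD : Sylow p ↥D :=
        ((P.2.map M.subtype).of_equiv (Subgroup.subgroupOfEquivOfLe hPD).symm).toSylow (by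
          intro hd
          apply P.not_dvd_index
          have e : P0.relIndex M = (P : Subgroup ↥M).index := by
            rw [Subgroup.relIndex, hP0, Subgroup.subgroupOf,
              Subgroup.comap_map_eq_self_of_injective M.subtype_injective]
          rw [← e]
          exact hd.trans (Dvd.intro _ (Subgroup.relIndex_mul_relIndex P0 D M hPD inf_le_right)))
      have hfr' := Sylow.normalizer_sup_eq_top PD
      rw [show ((PD : Subgroup ↥D).map D.subtype) = P0 from
        Subgroup.map_subgroupOf_eq_of_le hPD] at hfr'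
      exact hH.1 (eq_top_iff.2 (hfr' ▸ sup_le hNH (inf_le_left.trans (Subgroup.normalCore_le H))))
    -- the kernel of the restriction would contain P
    have hθ := isIrr_restrict_of_sup hχ (fun k hk => (hK k).1 hk) hKH
    haveI : (M.subgroupOf H).Normal := Subgroup.Normal.subgroupOf hMn H
    have hker := le_ker_of_vanishes hθ (M.subgroupOf H) (by
      intro x hx hne
      refine (hK x.1).1 (hNM ⟨?_, hx⟩)
      by_contra hc
      exact hne (hvan x.1 x.2 hc))
    exact hKM.not_ge (hKP ▸ sup_le le_rfl fun x hx =>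
      (hK x).2 (hker ⟨x, hP0H hx⟩ (hP0M hx)))

end Cfsg.Agent.Lib.BrolineGarrison
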