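import Cfsg.Agent.Lib.Char.Orthogonality

/-!
# Representations are determined by their characters
-/

set_option autoImplicit false

open Module

namespace Cfsg.Agent.Lib.Char

universe u v w

variable {G : Type u} [Group G] [Finite G]

/-- Representations of a finite group with equal characters are equivalent. -/
theorem equiv_of_character_eq : ∀ (n : ℕ) {V : Type v} {W : Type w} [AddCommGroup V] [Module ℂ V]
    [FiniteDimensional ℂ V] [AddCommGroup W] [Module ℂ W] [FiniteDimensional ℂ W]
    (ρ : Representation ℂ G V) (σ : Representation ℂ G W),
    finrank ℂ V = n → ρ.character = σ.character → Nonempty (ρ.Equiv σ) := by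
  classical
  have := Fintype.ofFinite G
  intro n
  induction n using Nat.strong_induction_on with
  | _ n ih =>
    intro V W _ _ _ _ _ _ ρ σ hn h
    have hdim : finrank ℂ V = finrank ℂ W := by
      have := congrFun h 1
      simpa using this
    rcases Nat.eq_zero_or_pos (finrank ℂ V) with h0 | hpos
    · have : Subsingleton V := finrank_zero_iff.mp h0
      have : Subsingleton W := finrank_zero_iff.mp (hdim ▸ h0)
      exact ⟨Representation.Equiv.mk (LinearEquiv.ofSubsingleton V W)
        fun g => Subsingleton.elim _ _⟩
    · obtain ⟨U, hU⟩ : ∃ U : Subrepresentation ρ, U.toRepresentation.IsIrreducible := by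
        let P : Set ℕ := {k | ∃ U : Subrepresentation ρ, U.toSubmodule ≠ ⊥ ∧
          finrank ℂ U.toSubmodule = k}
        have hne : P.Nonempty := ⟨_, ⊤, (Submodule.one_le_finrank_iff).mp (by
          show 1 ≤ finrank ℂ (⊤ : Submodule ℂ V)
          rw [finrank_top]; exact hpos), rfl⟩
        obtain ⟨k, ⟨U, hUb, hUk⟩, hmin⟩ :=
          WellFounded.has_min (wellFounded_lt (α := ℕ)) P hne
        refine ⟨U, ?_⟩
        rcases irreducible_or_split U.toRepresentation with h0' | hirr | ⟨A, B, hc, hA, hB⟩
        · exact absurd (Submodule.finrank_eq_zero.mp h0') hUb
        · exact hirr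
        · exfalso
          let A' : Subrepresentation ρ := ⟨A.toSubmodule.map U.toSubmodule.subtype, by
            rintro g _ ⟨x, hx, rfl⟩
            exact ⟨U.toRepresentation g x, A.apply_mem_toSubmodule g hx, rfl⟩⟩
          have hfin : finrank ℂ A'.toSubmodule = finrank ℂ A.toSubmodule :=
            (Submodule.equivMapOfInjective _ U.toSubmodule.injective_subtype _).finrank_eq.symm
          by_cases hA0 : A.toSubmodule = ⊥
          · rw [hA0] at hc
            rw [eq_top_of_bot_isCompl hc, finrank_top] at hB
            exact lt_irrefl _ hB
          · exact hmin _ ⟨A', fun e => hA0 (Submodule.finrank_eq_zero.mp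
              (hfin ▸ Submodule.finrank_eq_zero.mpr e)), rfl⟩ (hUk ▸ hfin ▸ hA)
      obtain ⟨U', hc⟩ := exists_isCompl_subrep ρ U
      have hsum := character_isCompl ρ U U' hc
      have hHom : finrank ℂ (Representation.IntertwiningMap U.toRepresentation σ) ≠ 0 := by
        intro h0
        have h1 := classInner_character U.toRepresentation σ
        rw [h0, ← h, hsum, classInner_add_left,
          classInner_irr_self (isIrrCharacter_character U.toRepresentation),
          classInner_character] at h1
        have h2 : ((1 + finrank ℂ (Representation.IntertwiningMap U.toRepresentation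
            U'.toRepresentation) : ℕ) : ℂ) = ((0 : ℕ) : ℂ) := by push_cast; rw [Nat.cast_zero] at h1; exact h1
        exact absurd (Nat.cast_injective h2) (by omega)
      obtain ⟨f, hf⟩ : ∃ f : Representation.IntertwiningMap U.toRepresentation σ, f ≠ 0 := by
        by_contra hall
        push Not at hall
        have : Subsingleton (Representation.IntertwiningMap U.toRepresentation σ) :=
          ⟨fun a b => (hall a).trans (hall b).symm⟩
        exact hHom finrank_zero_of_subsingleton
      have hinj : Function.Injective f :=
        (Representation.IsIrreducible.injective_or_eq_zero f).resolve_right hf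
      let B : Subrepresentation σ := f.range
      obtain ⟨B', hBc⟩ := exists_isCompl_subrep σ B
      have eB : U.toRepresentation.Equiv B.toRepresentation :=
        Representation.Equiv.mk (LinearEquiv.ofInjective f.toLinearMap hinj) fun g => by
          ext x
          exact f.isIntertwining _ _ g x
      have h' : U'.toRepresentation.character = B'.toRepresentation.character := by
        have hB := character_isCompl σ B B' hBc
        rw [← h, hsum, Representation.char_iso eB] at hB
        exact add_left_cancel hB
      have hlt : finrank ℂ U'.toSubmodule < n := by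
        rw [← hn, ← Submodule.finrank_add_eq_of_isCompl hc]
        have : 0 < finrank ℂ U.toSubmodule := by
          refine Nat.pos_of_ne_zero fun e => ?_
          have hh := irr_degree_ne_zero (isIrrCharacter_character U.toRepresentation)
          rw [Representation.char_one, e] at hh
          exact hh Nat.cast_zero
        omega
      obtain ⟨e'⟩ := ih _ hlt U'.toRepresentation B'.toRepresentation rfl h'
      let e : V ≃ₗ[ℂ] W := (Submodule.prodEquivOfIsCompl _ _ hc).symm.trans
        ((eB.toLinearEquiv.prodCongr e'.toLinearEquiv).trans
          (Submodule.prodEquivOfIsCompl _ _ hBc))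
      refine ⟨Representation.Equiv.mk e fun g => LinearMap.ext fun v => ?_⟩
      obtain ⟨⟨a, b⟩, rfl⟩ := (Submodule.prodEquivOfIsCompl _ _ hc).surjective v
      have hab : ρ g ((Submodule.prodEquivOfIsCompl _ _ hc) (a, b)) =
          (Submodule.prodEquivOfIsCompl _ _ hc)
            (U.toRepresentation g a, U'.toRepresentation g b) := by
        simp [map_add]
        rfl
      simp only [LinearMap.comp_apply, LinearEquiv.coe_coe, e, LinearEquiv.trans_apply, hab,
        LinearEquiv.symm_apply_apply, LinearEquiv.prodCongr_apply]
      have ha : eB.toLinearEquiv (U.toRepresentation g a) =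
          B.toRepresentation g (eB.toLinearEquiv a) :=
        eB.toIntertwiningMap.isIntertwining _ _ g a
      have hb : e'.toLinearEquiv (U'.toRepresentation g b) =
          B'.toRepresentation g (e'.toLinearEquiv b) :=
        e'.toIntertwiningMap.isIntertwining _ _ g b
      rw [ha, hb]
      simp [map_add]
      rfl

end Cfsg.Agent.Lib.Char
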