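import Cfsg.Agent.Lib.Block.Singular
import Cfsg.Agent.Lib.Block.Principal
import Cfsg.Agent.Lib.Block.Defect
import Cfsg.Agent.Lib.Block.Exist
import Cfsg.Agent.Lib.Char.Burnside
import Cfsg.Agent.Lib.Char.Linear
import Cfsg.Agent.Lib.Ito
import Cfsg.Agent.Lib.Components.Cores
import Cfsg.Agent.Lib.Struct4.Basic
import Cfsg.Agent.Lib.Hall.Solvable

/-!
# An element with prime power class size generates a solvable normal closure
-/

set_option linter.unusedSectionVars false
set_option linter.style.haveILetI false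

namespace Cfsg.Agent.Lib.Kazarin

open Cfsg Cfsg.Agent.Lib
open scoped ComplexConjugate

universe u

variable {G : Type u} [Group G] [Finite G]

omit [Finite G] in
lemma redC_root_eq_one {q r : ℕ} {M : Ideal AlgInt} [M.IsPrime] (hM : IsPModular q M)
    (hr : r.Prime) (hrq : r ≠ q) {z : ℂ} (hz : z ^ r = 1) (h : Block.redC M z = 1) : z = 1 := by
  by_contra hne
  have hzl : z ∈ Block.locRing M :=
    Block.integral_mem_locRing (IsIntegral.of_pow hr.pos (by rw [hz]; exact isIntegral_one))
  have hsum : ∑ i ∈ Finset.range r, z ^ i = 0 := by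
    rw [geom_sum_eq hne, hz, sub_self, zero_div]
  have h0 : Block.redC M ((r : ℕ) : ℂ) = 0 := by
    have := congrArg (Block.redC M) hsum
    rw [Block.redC_zero, Block.redC_sum _ (fun i _ => pow_mem hzl i)] at this
    rw [Block.redC_natCast]
    have he : ∀ i : ℕ, Block.redC M (z ^ i) = 1 := by
      intro i
      induction i with
      | zero => rw [pow_zero, Block.redC_one]
      | succ i ih => rw [pow_succ, Block.redC_mul (pow_mem hzl i) hzl, ih, h, one_mul]
    simpa [he] using this
  rw [Block.redC_natCast_eq_zero_iff hM] at h0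
  exact hrq ((Nat.prime_dvd_prime_iff_eq hM.1 hr).1 h0).symm

/-- The key counting argument. -/
theorem key (N : Subgroup G) [N.Normal] (hNs : ¬ Group.IsSolvable ↥N)
    (hmin : ∀ L : Subgroup G, L.Normal → L ≠ ⊥ → N ≤ L)
    (y : G) {r : ℕ} (hr : r.Prime) (hy : orderOf y = r)
    (hC : y ∉ Subgroup.centralizer (N : Set G)) (htop : N ⊔ Subgroup.zpowers y = ⊤)
    {p k : ℕ} (hp : p.Prime)
    (hcl : (Subgroup.centralizer ({y} : Set G)).index = p ^ k) : False := by
  classical
  have := Fintype.ofFinite G
  obtain ⟨q, hq, hqN, hqp, hqr⟩ : ∃ q, q.Prime ∧ q ∣ Nat.card ↥N ∧ q ≠ p ∧ q ≠ r := by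
    by_contra hc
    push Not at hc
    exact hNs (Char.isSolvable_of_card_eq_two_primes hp hr _ ↥N rfl fun s hs hd =>
      or_iff_not_imp_left.2 (hc s hs hd))
  have : Fact q.Prime := ⟨hq⟩
  obtain ⟨⟨g, hgN⟩, hg⟩ := exists_prime_orderOf_dvd_card' q hqN
  rw [Subgroup.orderOf_mk] at hg
  obtain ⟨M, hM⟩ := Block.exists_isPModular hq
  have : M.IsMaximal := hM.2.1
  set B := principalBlock M G with hB
  have hBb : IsPBlock M B := Block.isPBlock_principalBlock
  have hcomm : ∀ a b : G ⧸ N, a * b = b * a := by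
    have hgen : ∀ a : G ⧸ N, a ∈ Subgroup.zpowers (QuotientGroup.mk' N y) := by
      intro a
      obtain ⟨x, rfl⟩ := QuotientGroup.mk'_surjective N a
      obtain ⟨n, hn, w, hw, rfl⟩ := Subgroup.mem_sup_of_normal_left.1
        (show x ∈ N ⊔ Subgroup.zpowers y by rw [htop]; exact Subgroup.mem_top x)
      obtain ⟨i, rfl⟩ := hw
      refine ⟨i, ?_⟩
      simp [(QuotientGroup.eq_one_iff n).2 hn]
    intro a b
    obtain ⟨i, rfl⟩ := hgen a
    obtain ⟨j, rfl⟩ := hgen b
    exact (Commute.zpow_zpow (Commute.refl _) i j).eq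
  have hp0 : Block.redC M ((p ^ k : ℕ) : ℂ) ≠ 0 := by
    rw [Ne, Block.redC_natCast_eq_zero_iff hM]
    exact fun h => hqp ((Nat.prime_dvd_prime_iff_eq hq hp).1 (hq.dvd_of_dvd_pow h))
  have key : ∀ χ : IrrCharacter G, χ ∈ B → χ ≠ Block.oneIrr G →
      ∃ d : ℕ, (χ : G → ℂ) 1 = ((p * d : ℕ) : ℂ) := by
    intro χ hχ hne
    have hc := Char.isCharacter_of_isIrr χ.2
    obtain ⟨n, hn⟩ := Char.exists_natDegree hc
    by_contra hnd
    have hn0 : (n : ℂ) ≠ 0 := hn ▸ Char.irr_degree_ne_zero χ.2
    have hcop : Nat.Coprime n (Subgroup.centralizer ({y} : Set G)).index := by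
      rw [hcl]
      refine Nat.Coprime.pow_right k (Nat.coprime_comm.1 (hp.coprime_iff_not_dvd.2 ?_))
      rintro ⟨d, rfl⟩
      exact hnd ⟨d, hn⟩
    -- congruence of central characters at `y`
    have hcc : Block.redC M (centralChar (χ : G → ℂ) y) = Block.redC M ((p ^ k : ℕ) : ℂ) := by
      have h1 : MemLocalIdeal M (centralChar (fun _ : G => (1 : ℂ)) y - centralChar (χ : G → ℂ) y) :=
        hχ y
      have h2 : centralChar (fun _ : G => (1 : ℂ)) y = ((p ^ k : ℕ) : ℂ) := by
        simp [centralChar, hcl]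
      rw [h2] at h1
      exact ((Block.redC_eq_iff (Block.nat_mem _) (Block.centralChar_mem_locRing χ y)).2 h1).symm
    have hker := Char.charKer_normal hc
    by_cases hK : N ≤ Char.charKer (χ : G → ℂ)
    · obtain ⟨ψ, hψ, hψe⟩ := Char.exists_irr_deflation χ.2 N fun x hx =>
        (Char.mem_charKer hc).1 (hK hx)
      have := Fintype.ofFinite (G ⧸ N)
      have h11 : (χ : G → ℂ) 1 = 1 := by
        rw [← hψe, QuotientGroup.mk_one]
        exact Ito.apply_one_of_abelian hcomm hψ
      obtain ⟨l, hl⟩ := Char.exists_hom_of_degree_one hc h11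
      have hlr : (l y : ℂ) ^ r = 1 := by
        rw [← Units.val_pow_eq_pow_val, ← map_pow, ← hy, pow_orderOf_eq_one, map_one, Units.val_one]
      have hy1 : (l y : ℂ) = 1 := by
        refine redC_root_eq_one hM hr (Ne.symm hqr) hlr ?_
        rw [centralChar, hcl, h11, div_one, hl, Block.redC_mul (Block.nat_mem _)
          (Block.integral_mem_locRing (hl y ▸ Char.char_isIntegral hc y))] at hcc
        exact mul_left_cancel₀ hp0 (hcc.trans (mul_one _).symm)
      have hall : l = 1 := by
        rw [← MonoidHom.ker_eq_top_iff, eq_top_iff, ← htop, sup_le_iff, Subgroup.zpowers_le]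
        refine ⟨fun x hx => ?_, MonoidHom.mem_ker.2 (Units.ext (by simpa using hy1))⟩
        refine MonoidHom.mem_ker.2 (Units.ext ?_)
        rw [Units.val_one, ← hl, (Char.mem_charKer hc).1 (hK hx), h11]
      exact hne (Subtype.ext (funext fun x => by rw [hl, hall, Block.oneIrr_apply]; simp))
    · rcases Char.char_eq_zero_or_norm_eq χ.2 hn y hcop with h0 | hnorm
      · rw [centralChar, h0, mul_zero, zero_div, Block.redC_zero] at hcc
        exact hp0 hcc.symm
      · obtain ⟨χf, m, ρ, hρ, rfl⟩ := χ
        have hmn : m = n := by simpa using hn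
        simp only at hnorm hK hker
        have hscal := Char.apply_eq_smul_of_norm_eq ρ y (by rw [hnorm, ← hmn]; simp)
        obtain ⟨x, hxN, hxy⟩ : ∃ x ∈ N, y * x * y⁻¹ * x⁻¹ ≠ 1 := by
          by_contra hc'
          push Not at hc'
          exact hC (Subgroup.mem_centralizer_iff.2 fun x hx =>
            (commutatorElement_eq_one_iff_mul_comm.1 (hc' x hx)).symm)
        have hmem : y * x * y⁻¹ * x⁻¹ ∈ Char.charKer ρ.character := by
          refine (Char.mem_charKer hc).2 ?_
          have h1 : ρ (y * x * y⁻¹ * x⁻¹) = 1 := by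
            have hcm : ρ y * ρ x = ρ x * ρ y := by
              rw [hscal, smul_mul_assoc, mul_smul_comm, one_mul, mul_one]
            rw [map_mul, map_mul, map_mul, hcm, mul_assoc (ρ x), ← map_mul, mul_inv_cancel,
              map_one, mul_one, ← map_mul, mul_inv_cancel, map_one]
          show ρ.character _ = ρ.character 1
          rw [Representation.char_one]
          exact (Char.character_eq_degree_iff ρ _).2 h1
        refine hK (le_trans (hmin (Char.charKer ρ.character ⊓ N) inferInstance ?_) inf_le_left)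
        intro hbot
        refine hxy (Subgroup.mem_bot.1 (hbot ▸ Subgroup.mem_inf.2 ⟨hmem, ?_⟩))
        exact N.mul_mem (Subgroup.Normal.conj_mem inferInstance x hxN y) (N.inv_mem hxN)
  have hw := Block.weak_orthogonality hM hBb (x := (1 : G)) (y := g)
    (by rw [orderOf_one]; exact hq.not_dvd_one) (by rw [hg])
  rw [← Finset.add_sum_erase _ _ (Finset.mem_univ (Block.oneIrr G)),
    if_pos (Block.oneIrr_mem (M := M)), Block.oneIrr_apply, Block.oneIrr_apply, map_one, mul_one]
    at hw
  have hint : IsIntegral ℤ (((1 : ℕ) : ℂ) / (p : ℂ)) := by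
    rw [Nat.cast_one, eq_neg_of_add_eq_zero_left hw, neg_div, Finset.sum_div]
    refine (IsIntegral.sum _ fun χ hχ => ?_).neg
    by_cases h : χ ∈ B
    · rw [if_pos h]
      obtain ⟨d, hd⟩ := key χ h (Finset.mem_erase.1 hχ).1
      rw [hd, Nat.cast_mul, mul_assoc, mul_div_cancel_left₀ _ (Nat.cast_ne_zero.2 hp.ne_zero),
        ← Char.char_inv (Char.isCharacter_of_isIrr χ.2)]
      exact (isIntegral_algebraMap (x := (d : ℤ))).mul
        (Char.char_isIntegral (Char.isCharacter_of_isIrr χ.2) _)
    · rw [if_neg h, zero_div]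
      exact isIntegral_zero
  exact hp.not_dvd_one (Char.dvd_of_isIntegral_div hp.ne_zero hint)

/-- The class of the image of an element has size dividing the class size. -/
lemma index_centralizer_map_dvd {H : Type*} [Group H] [Finite H] {f : G →* H}
    (hf : Function.Surjective f) (x : G) :
    (Subgroup.centralizer ({f x} : Set H)).index ∣ (Subgroup.centralizer ({x} : Set G)).index := by
  refine dvd_trans (Subgroup.index_dvd_of_le ?_) (Subgroup.index_map_dvd _ hf)
  rintro _ ⟨c, hc, rfl⟩
  rw [Subgroup.mem_centralizer_singleton_iff, ← map_mul, ← map_mul,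
    Subgroup.mem_centralizer_singleton_iff.1 hc]

/-- Kazarin's theorem. -/
theorem isSolvable_normalClosure : ∀ (n : ℕ) (G : Type u) [Group G] [Finite G] (x : G) (p k : ℕ),
    Nat.card G = n → p.Prime → (Subgroup.centralizer ({x} : Set G)).index = p ^ k →
    Group.IsSolvable ↥(Subgroup.normalClosure ({x} : Set G)) := by
  intro n
  induction n using Nat.strong_induction_on with
  | _ n ih =>
  intro G _ _ x p k hn hp hcl
  by_contra hns
  set C := Subgroup.normalClosure ({x} : Set G) with hCdef
  have hCn : C.Normal := Subgroup.normalClosure_normal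
  have hCbot : C ≠ ⊥ := fun h => hns (by rw [h]; infer_instance)
  -- a quotient by a nontrivial normal subgroup sees a solvable image
  have hquot : ∀ L : Subgroup G, ∀ _ : L.Normal, L ≠ ⊥ →
      Group.IsSolvable ↥(C.map (QuotientGroup.mk' L)) := by
    intro L _ hL
    have hlt : Nat.card (G ⧸ L) < n := by
      rw [← hn, Subgroup.card_eq_card_quotient_mul_card_subgroup L]
      exact lt_mul_of_one_lt_right Nat.card_pos (L.one_lt_card_iff_ne_bot.2 hL)
    obtain ⟨j, -, hj⟩ := (Nat.dvd_prime_pow hp).1
      (hcl ▸ index_centralizer_map_dvd (QuotientGroup.mk'_surjective L) x)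
    have := ih _ hlt (G ⧸ L) (QuotientGroup.mk' L x) p j rfl hp hj
    rw [hCdef, Subgroup.map_normalClosure _ _ (QuotientGroup.mk'_surjective L), Set.image_singleton]
    exact this
  -- a normal subgroup of `C` meeting a nontrivial normal subgroup trivially is solvable
  have hsolv : ∀ L K : Subgroup G, ∀ _ : L.Normal, L ≠ ⊥ → K ≤ C → K ⊓ L = ⊥ →
      Group.IsSolvable ↥K := by
    intro L K _ hL hKC hd
    have := hquot L inferInstance hL
    let f : ↥K →* ↥(C.map (QuotientGroup.mk' L)) :=
      ((QuotientGroup.mk' L).comp K.subtype).codRestrict _ fun a =>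
        Subgroup.mem_map.2 ⟨a, hKC a.2, rfl⟩
    refine Group.isSolvable_of_isSolvable_injective (f := f) ?_
    rw [injective_iff_map_eq_one]
    intro a ha
    have : (a : G) ∈ L := (QuotientGroup.eq_one_iff (a : G)).1 (congrArg Subtype.val ha)
    exact Subtype.ext (Subgroup.mem_bot.1 (hd ▸ ⟨a.2, this⟩))
  obtain ⟨N, hNn, hNb, hNC, hNmin⟩ := Hall.exists_minimal_normal_le (N := C) hCbot
  have hNs : ¬ Group.IsSolvable ↥N := by
    intro h
    refine hns ?_
    let f : ↥C →* ↥(C.map (QuotientGroup.mk' N)) := (QuotientGroup.mk' N).subgroupMap C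
    have := hquot N inferInstance hNb
    refine (Group.isSolvable_iff_subgroup_quotient f.ker).2 ⟨?_, ?_⟩
    · refine Group.isSolvable_of_isSolvable_injective
        (f := (C.subtype.comp f.ker.subtype).codRestrict N fun a =>
          (QuotientGroup.eq_one_iff _).1 (congrArg Subtype.val (MonoidHom.mem_ker.1 a.2))) ?_
      intro a b hab
      exact Subtype.ext (Subtype.ext (congrArg Subtype.val hab :))
    · exact Group.isSolvable_of_isSolvable_injective
        (f := QuotientGroup.kerLift f) (QuotientGroup.kerLift_injective f)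
  have hmin : ∀ L : Subgroup G, L.Normal → L ≠ ⊥ → N ≤ L := by
    intro L hL hLb
    rcases hNmin (N ⊓ L) inferInstance inf_le_left with h | h
    · exact absurd (hsolv L N hL hLb hNC h) hNs
    · exact inf_eq_left.1 h
  have hCN : Subgroup.centralizer (N : Set G) = ⊥ := by
    by_contra h
    have hab : IsMulCommutative ↥N := ⟨⟨fun a b => Subtype.ext
      (Subgroup.mem_centralizer_iff.1 (hmin _ inferInstance h b.2) _ a.2)⟩⟩
    exact hNs (Group.isSolvable_of_comm fun a b => hab.is_comm.comm a b)
  have hx1 : x ≠ 1 := by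
    rintro rfl
    exact hCbot (by simp [hCdef, Subgroup.normalClosure_eq_bot_iff])
  obtain ⟨r, hr, hro⟩ := Nat.exists_prime_and_dvd
    (show orderOf x ≠ 1 by rwa [Ne, orderOf_eq_one_iff])
  set y := x ^ (orderOf x / r) with hy
  have hyo : orderOf y = r := orderOf_pow_orderOf_div (orderOf_pos x).ne' hro
  have hy1 : y ≠ 1 := by
    rw [Ne, ← orderOf_eq_one_iff, hyo]
    exact hr.ne_one
  have hyC : y ∉ Subgroup.centralizer (N : Set G) := fun h =>
    hy1 (Subgroup.mem_bot.1 (hCN ▸ h))
  obtain ⟨j, -, hj⟩ := (Nat.dvd_prime_pow hp).1 (hcl ▸ Subgroup.index_dvd_of_le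
    (show Subgroup.centralizer ({x} : Set G) ≤ Subgroup.centralizer ({y} : Set G) by
      intro c hc
      rw [Subgroup.mem_centralizer_singleton_iff] at hc ⊢
      exact (Commute.pow_right hc _).eq))
  set H := N ⊔ Subgroup.zpowers y with hH
  by_cases htop : H = ⊤
  · exact key N hNs hmin y hr hyo hyC htop hp hj
  set D := Subgroup.centralizer ({y} : Set G) with hD
  have hyD : Subgroup.zpowers y ≤ D := by
    rw [Subgroup.zpowers_le, hD, Subgroup.mem_centralizer_singleton_iff]
  let yH : ↥H := ⟨y, Subgroup.mem_sup_right (Subgroup.mem_zpowers y)⟩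
  have hlt : Nat.card ↥H < n := hn ▸ lt_of_le_of_ne (Subgroup.card_le_card_group H)
    fun e => htop (Subgroup.eq_top_of_card_eq H e)
  have hidx : (Subgroup.centralizer ({yH} : Set ↥H)).index ∣ p ^ j := by
    have he : Subgroup.centralizer ({yH} : Set ↥H) = D.subgroupOf H := by
      ext c
      rw [Subgroup.mem_subgroupOf, hD, Subgroup.mem_centralizer_singleton_iff,
        Subgroup.mem_centralizer_singleton_iff, Subtype.ext_iff]
      rfl
    rw [he, ← hj]
    show D.relIndex H ∣ D.index
    have h1 : D.relIndex H = D.relIndex (D ⊔ N) := by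
      refine le_antisymm (Subgroup.relIndex_le_of_le_right
        (sup_le le_sup_right (hyD.trans le_sup_left)) Subgroup.index_ne_zero_of_finite) ?_
      rw [Struct4.relIndex_sup_left_eq]
      exact Subgroup.relIndex_le_of_le_right le_sup_left Subgroup.index_ne_zero_of_finite
    rw [h1]
    exact Subgroup.relIndex_dvd_index_of_le le_sup_left
  obtain ⟨i, -, hi⟩ := (Nat.dvd_prime_pow hp).1 hidx
  have hE := ih _ hlt ↥H yH p i rfl hp hi
  set E := (Subgroup.normalClosure ({yH} : Set ↥H)).map H.subtype with hEdef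
  have hEs : Group.IsSolvable ↥E :=
    Group.isSolvable_of_surjective (f := H.subtype.subgroupMap _)
      (MonoidHom.subgroupMap_surjective _ _)
  -- `E ⊓ N` is a solvable normal subgroup of `N`
  have hsn : Group.IsSolvable ↥((E ⊓ N).subgroupOf N) := by
    have : Group.IsSolvable ↥(E ⊓ N) := Group.isSolvable_of_isSolvable_injective
      (f := Subgroup.inclusion inf_le_left) (Subgroup.inclusion_injective _)
    exact Group.isSolvable_of_isSolvable_injective
      (f := (Subgroup.subgroupOfEquivOfLe (inf_le_right : E ⊓ N ≤ N)).toMonoidHom)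
      (Subgroup.subgroupOfEquivOfLe (inf_le_right : E ⊓ N ≤ N)).injective
  have hnorm : ((E ⊓ N).subgroupOf N).Normal := by
    refine ⟨fun a ha b => ?_⟩
    obtain ⟨⟨c, hc, hca⟩, -⟩ := ha
    refine ⟨⟨⟨(b : G), Subgroup.mem_sup_left b.2⟩ * c * ⟨(b : G), Subgroup.mem_sup_left b.2⟩⁻¹,
      Subgroup.normalClosure_normal.conj_mem c hc _, ?_⟩, (b * a * b⁻¹).2⟩
    have : (c : G) = ((a : ↥N) : G) := hca
    simp [this]
  have hR : (Components.solRad ↥N).map N.subtype = ⊥ := by
    have hch : (Components.solRad ↥N).Characteristic := by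
      refine Subgroup.characteristic_iff_map_le.2 fun e => ?_
      have := (Subgroup.Normal.map (H := Components.solRad ↥N) inferInstance e.toMonoidHom
        e.surjective)
      have := Components.solRad_solvable (G := ↥N)
      exact Components.le_solRad (Group.isSolvable_of_surjective
        (f := e.toMonoidHom.subgroupMap _) (MonoidHom.subgroupMap_surjective _ _))
    rcases hNmin _ (ConjAct.normal_of_characteristic_of_normal (H := N) (K := Components.solRad ↥N)) (Subgroup.map_subtype_le _) with
      h | h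
    · exact h
    · refine absurd ?_ hNs
      have := Components.solRad_solvable (G := ↥N)
      have := Group.isSolvable_of_surjective (f := N.subtype.subgroupMap (Components.solRad ↥N))
        (MonoidHom.subgroupMap_surjective _ _)
      rw [← h]
      exact this
  obtain ⟨b, hbN, hb⟩ : ∃ b ∈ N, y * b * y⁻¹ * b⁻¹ ≠ 1 := by
    by_contra hc'
    push Not at hc'
    exact hyC (Subgroup.mem_centralizer_iff.2 fun b hb =>
      (commutatorElement_eq_one_iff_mul_comm.1 (hc' b hb)).symm)
  refine hb ?_
  have hmemN : y * b * y⁻¹ * b⁻¹ ∈ N :=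
    N.mul_mem (Subgroup.Normal.conj_mem inferInstance b hbN y) (N.inv_mem hbN)
  have hmemE : y * b * y⁻¹ * b⁻¹ ∈ E := by
    let bH : ↥H := ⟨b, Subgroup.mem_sup_left hbN⟩
    refine ⟨yH * (bH * yH⁻¹ * bH⁻¹), ?_, by simp [yH, bH, mul_assoc]⟩
    have hmem := Subgroup.subset_normalClosure (Set.mem_singleton yH)
    exact mul_mem hmem (Subgroup.normalClosure_normal.conj_mem _ (inv_mem hmem) _)
  have h2 : (⟨_, hmemN⟩ : ↥N) ∈ Components.solRad ↥N :=
    Components.le_solRad hsn (show (⟨_, hmemN⟩ : ↥N) ∈ (E ⊓ N).subgroupOf N from ⟨hmemE, hmemN⟩)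
  exact Subgroup.mem_bot.1 (hR ▸ Subgroup.mem_map_of_mem N.subtype h2)

end Cfsg.Agent.Lib.Kazarin
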