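import Cfsg.Agent.Lib.Block.Klein
import Cfsg.Agent.Lib.Char.FrobSchur
import Cfsg.Agent.Lib.CharTools.ClassMult
import Cfsg.Agent.Lib.CharAux
import Mathlib.GroupTheory.Transfer

/-!
# Counting involution pairs for Klein four Sylow 2-subgroups
-/

namespace Cfsg.Agent.Lib.Char

open Cfsg Cfsg.Agent.Lib
open scoped ComplexConjugate

set_option linter.unusedSectionVars false

universe u

variable {G : Type u} [Group G]

/-- A real irreducible character of odd degree has indicator one. -/
theorem fsInd_eq_one_of_odd [Fintype G] {χ : G → ℂ} (h : IsIrrCharacter G χ)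
    (hreal : ∀ s, (χ s).im = 0) (hodd : Odd (charDegree χ)) : fsInd χ = 1 := by
  classical
  obtain ⟨n, ρ, hρ, rfl⟩ := h
  have := hρ
  obtain ⟨hν, ⟨A, hA0, hA⟩, hT⟩ := (fsInd_spec ρ).2 hreal
  refine hν.resolve_right fun hneg => ?_
  have hn : Odd n := by
    have e : ρ.character 1 = (n : ℂ) := by simp
    rwa [charDegree_eq_of_apply_one e] at hodd
  have hinv := (mem_invariants_formRep ρ A).1 hA
  have hker : ∀ v, A.mulVec v = 0 → ∀ g, A.mulVec (ρ g v) = 0 := by
    intro v hv g
    have e := hinv g⁻¹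
    have hv' : ρ g⁻¹ (ρ g v) = v := by
      rw [← Module.End.mul_apply, ← map_mul, inv_mul_cancel, map_one, Module.End.one_apply]
    rw [← e, ← Matrix.mulVec_mulVec, LinearMap.toMatrix'_mulVec, hv', ← Matrix.mulVec_mulVec, hv,
      Matrix.mulVec_zero]
  let U : Subrepresentation ρ :=
    ⟨LinearMap.ker A.mulVecLin, fun g v hv => hker v hv g⟩
  have hT' := hT A hA
  rw [hneg, neg_one_smul] at hT'
  have hdet : A.det = 0 := by
    have e := congrArg Matrix.det hT'
    rw [Matrix.det_transpose, Matrix.det_neg, Fintype.card_fin, hn.neg_one_pow] at e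
    linear_combination e / 2
  rcases IsSimpleOrder.eq_bot_or_eq_top U with hU | hU
  · obtain ⟨v, hv0, hv⟩ := Matrix.exists_mulVec_eq_zero_iff.2 hdet
    exact hv0 (by
      have : v ∈ U.toSubmodule := hv
      rw [hU] at this
      exact this)
  · refine hA0 (Matrix.ext_iff_mulVec.2 fun v => ?_)
    have : v ∈ U.toSubmodule := by rw [hU]; trivial
    rw [Matrix.zero_mulVec]
    exact this

variable [Finite G]

/-- No normal 2-complement with `|G| = 4 g₀`: the Sylow group is four and fused. -/
theorem klein_of_no_complement {g₀ : ℕ} (hg₀ : Odd g₀) (hG : Nat.card G = 4 * g₀)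
    (hnc : ¬ ∃ N : Subgroup G, N.Normal ∧ Nat.card N = g₀) (P : Sylow 2 G) :
    Nat.card (P : Subgroup G) = 4 ∧ (∀ x : (P : Subgroup G), x * x = 1) ∧
      ∀ s t : G, orderOf s = 2 → orderOf t = 2 → IsConj s t := by
  classical
  haveI : Fact (Nat.Prime 2) := ⟨Nat.prime_two⟩
  have h2 : ¬ 2 ∣ g₀ := fun h => (Nat.not_even_iff_odd.2 hg₀) (even_iff_two_dvd.2 h)
  have hP : Nat.card (P : Subgroup G) = 4 := by
    rw [Sylow.card_eq_multiplicity, hG, Nat.factorization_mul (by norm_num) (by omega),
      Finsupp.add_apply, Nat.factorization_eq_zero_of_not_dvd h2, show (4 : ℕ) = 2 ^ 2 from rfl,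
      Nat.prime_two.factorization_pow, Finsupp.single_eq_same, add_zero]
  have hNC : ¬ Subgroup.normalizer ((P : Subgroup G) : Set G) ≤
      Subgroup.centralizer ((P : Subgroup G) : Set G) := by
    intro hN
    have hK := MonoidHom.ker_transferSylow_isComplement' P hN
    refine hnc ⟨(MonoidHom.transferSylow P hN).ker, MonoidHom.normal_ker _, ?_⟩
    have hm := hK.card_mul
    rw [hP, hG] at hm
    linarith
  obtain ⟨n, hn, hnC⟩ := SetLike.not_le_iff_exists.1 hNC
  have hcomm : ∀ a ∈ (P : Subgroup G), ∀ b ∈ (P : Subgroup G), Commute a b := by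
    intro a ha b hb
    have := IsPGroup.commutative_of_card_eq_prime_sq (p := 2) (G := (P : Subgroup G)) (by simpa using hP)
    exact congrArg Subtype.val (this ⟨a, ha⟩ ⟨b, hb⟩)
  obtain ⟨u, s, hus, hc, hup, hs⟩ := Block.exists_isPPart (p := 2) n
  obtain ⟨humem, hsmem⟩ := Block.exists_pow_of_parts hus hc hup hs
  have huN : Subgroup.zpowers u ≤ Subgroup.normalizer ((P : Subgroup G) : Set G) :=
    Subgroup.zpowers_le.2 ((Subgroup.zpowers_le.2 hn) humem)
  have huP : u ∈ (P : Subgroup G) := by
    have hsup : IsPGroup 2 ((P : Subgroup G) ⊔ Subgroup.zpowers u : Subgroup G) :=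
      P.2.to_sup_of_normal_left' (Block.IsPElem.isPGroup_zpowers hup) huN
    rw [← P.3 hsup le_sup_left]
    exact le_sup_right (a := (P : Subgroup G)) (Subgroup.mem_zpowers u)
  have hsN : s ∈ Subgroup.normalizer ((P : Subgroup G) : Set G) :=
    (Subgroup.zpowers_le.2 hn) hsmem
  have hsC : ∃ a ∈ (P : Subgroup G), s * a * s⁻¹ ≠ a := by
    by_contra h
    push Not at h
    refine hnC ?_
    rw [← hus]
    refine mul_mem (Subgroup.mem_centralizer_iff.2 fun b hb => (hcomm b hb u huP).eq)
      (Subgroup.mem_centralizer_iff.2 fun b hb => ?_)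
    exact (mul_inv_eq_iff_eq_mul.1 (h b hb)).symm
  obtain ⟨a, ha, hsa⟩ := hsC
  set b := s * a * s⁻¹ with hb
  have hbP : b ∈ (P : Subgroup G) := (Subgroup.mem_normalizer_iff.1 hsN a).1 ha
  set d := s * b * s⁻¹ with hd
  have hdP : d ∈ (P : Subgroup G) := (Subgroup.mem_normalizer_iff.1 hsN b).1 hbP
  have ha1 : a ≠ 1 := fun h => hsa (by rw [hb, h]; group)
  have hb1 : b ≠ 1 := fun h => ha1 (conj_eq_one_iff.1 h)
  have hd1 : d ≠ 1 := fun h => hb1 (conj_eq_one_iff.1 h)
  have hda : d ≠ a := by
    intro h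
    obtain ⟨k, hk⟩ : Odd (orderOf s) := Nat.odd_iff.2 (by omega)
    have hss : Commute (s * s) a := by
      show s * s * a = a * (s * s)
      calc s * s * a = d * (s * s) := by rw [hd, hb]; group
        _ = a * (s * s) := by rw [h]
    have e : s = (s * s) ^ (k + 1) := by
      rw [← pow_two, ← pow_mul, show 2 * (k + 1) = orderOf s + 1 by omega, pow_succ,
        pow_orderOf_eq_one, one_mul]
    have hsa' : Commute s a := by rw [e]; exact hss.pow_left _
    exact hsa (by rw [hb, hsa'.eq, mul_inv_cancel_right])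
  have hdb : d ≠ b := fun h => hsa (by
    have e : s * b * s⁻¹ = s * a * s⁻¹ := h.trans hb
    exact mul_left_cancel (mul_right_cancel e))
  have hall : ∀ x ∈ (P : Subgroup G), x ≠ 1 → x = a ∨ x = b ∨ x = d := by
    intro x hx hx1
    by_contra hne
    push Not at hne
    haveI := Fintype.ofFinite (P : Subgroup G)
    let T : Finset (P : Subgroup G) := {1, ⟨a, ha⟩, ⟨b, hbP⟩, ⟨d, hdP⟩, ⟨x, hx⟩}
    have hT : T.card = 5 := by
      simp only [T]
      rw [Finset.card_insert_of_notMem, Finset.card_insert_of_notMem,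
        Finset.card_insert_of_notMem, Finset.card_insert_of_notMem, Finset.card_singleton]
      all_goals simp only [Finset.mem_insert, Finset.mem_singleton, Subtype.ext_iff,
        Subgroup.coe_one, not_or]
      · exact fun h => hne.2.2 h.symm
      · exact ⟨fun h => hdb h.symm, fun h => hne.2.1 h.symm⟩
      · exact ⟨fun h => hsa h.symm, fun h => hda h.symm, fun h => hne.1 h.symm⟩
      · exact ⟨fun h => ha1 h.symm, fun h => hb1 h.symm, fun h => hd1 h.symm, fun h => hx1 h.symm⟩
    have := Finset.card_le_univ T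
    rw [hT, ← Nat.card_eq_fintype_card, hP] at this
    omega
  have hcj : ∀ x ∈ (P : Subgroup G), x ≠ 1 → IsConj a x := by
    intro x hx hx1
    rcases hall x hx hx1 with rfl | rfl | rfl
    · exact IsConj.refl _
    · exact isConj_iff.2 ⟨s, rfl⟩
    · exact (isConj_iff.2 ⟨s, rfl⟩ : IsConj a b).trans (isConj_iff.2 ⟨s, rfl⟩)
  obtain ⟨i₀, hi₀⟩ := exists_prime_orderOf_dvd_card' (G := (P : Subgroup G)) 2 ⟨2, by rw [hP]⟩
  have hi₁ : (i₀ : G) ≠ 1 := fun h => by
    rw [← Subgroup.orderOf_coe, h, orderOf_one] at hi₀; omega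
  have hord : ∀ x ∈ (P : Subgroup G), x ≠ 1 → orderOf x = 2 := fun x hx hx1 => by
    rw [Block.orderOf_of_isConj (((hcj _ i₀.2 hi₁).symm).trans (hcj x hx hx1)),
      Subgroup.orderOf_coe, hi₀]
  refine ⟨hP, fun x => ?_, fun s t hs ht => ?_⟩
  · by_cases hx : (x : G) = 1
    · exact Subtype.ext (by simp [hx])
    · exact Subtype.ext (by simpa [pow_two, hord _ x.2 hx] using pow_orderOf_eq_one (x : G))
  · have key : ∀ v : G, orderOf v = 2 → IsConj a v := by
      intro v hv
      have hz : IsPGroup 2 (Subgroup.zpowers v) :=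
        Block.IsPElem.isPGroup_zpowers ⟨1, by rw [hv, pow_one]⟩
      obtain ⟨Q, hQ⟩ := hz.exists_le_sylow
      obtain ⟨g, hg⟩ := MulAction.exists_smul_eq G Q P
      have hv' : g * v * g⁻¹ ∈ (P : Subgroup G) := by
        rw [← hg, Sylow.coe_subgroup_smul]
        exact Subgroup.smul_mem_pointwise_smul v (MulAut.conj g) (Q : Subgroup G)
          (hQ (Subgroup.mem_zpowers v))
      refine (hcj _ hv' fun h => ?_).trans (isConj_iff.2 ⟨g⁻¹, by group⟩)
      rw [conj_eq_one_iff] at h
      rw [h, orderOf_one] at hv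
      omega
    exact (key s hs).symm.trans (key t ht)

variable {M : Ideal AlgInt} [M.IsPrime]

open Cfsg.Agent.Lib.CharTools

/-- Class counting in the principal block with Klein four Sylow subgroup. -/
theorem klein_count [Fintype G] (hM : IsPModular 2 M) (P : Sylow 2 G)
    (hP : Nat.card (P : Subgroup G) = 4) (hexp : ∀ x : (P : Subgroup G), x * x = 1)
    (hone : ∀ s t : G, orderOf s = 2 → orderOf t = 2 → IsConj s t)
    {z : G} (hz : z ∈ (P : Subgroup G)) (hz2 : orderOf z = 2) :
    ∃ (S : Finset (IrrCharacter G)) (n : IrrCharacter G → ℤ) (o c : ℕ),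
      (∀ χ, χ ∈ S ↔ χ ∈ principalBlock M G) ∧
      (∀ χ ∈ S, n χ = 1 ∨ n χ = -1) ∧
      (∀ χ ∈ S, (χ : G → ℂ) z = (n χ : ℂ)) ∧
      (∀ χ ∈ S, Odd (charDegree (χ : G → ℂ))) ∧
      (∑ χ ∈ S, (n χ : ℂ) * (χ : G → ℂ) 1 = 0) ∧
      (∑ χ ∈ S, (n χ : ℂ) * fsInd (χ : G → ℂ) = 0) ∧
      (∀ χ ∈ S, ∀ ψ : IrrCharacter G, (ψ : G → ℂ) = (fun g => conj ((χ : G → ℂ) g)) → ψ ∈ S) ∧
      0 < c ∧ c ∣ o ∧
      Nat.card (Subgroup.centralizer ({z} : Set G)) = 4 * o ∧
      Nat.card (Subgroup.centralizer ((P : Subgroup G) : Set G)) = 4 * c ∧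
      (Nat.card G : ℂ) * (∑ χ ∈ S, (n χ : ℂ) / (χ : G → ℂ) 1) * (c : ℂ) ^ 2 = 32 * (o : ℂ) ^ 3 := by
  classical
  haveI : Fact (Nat.Prime 2) := ⟨Nat.prime_two⟩
  obtain ⟨S, n, hmem, hS4, -, -, hpm, hsing, hreg, -⟩ := Block.klein_principal P hP hexp hone hM
  have hz1 : z ≠ 1 := fun h => by rw [h, orderOf_one] at hz2; omega
  have hzz : z * z = 1 := by
    have := pow_orderOf_eq_one z
    rwa [hz2, pow_two] at this
  set C := Subgroup.centralizer ({z} : Set G) with hC
  obtain ⟨⟨k, hk⟩, hv⟩ := Block.centralizer_facts P hP hexp hz hz1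
  set O : Subgroup G := (pPrimeCore 2 C).map C.subtype with hO
  have hOC : O ≤ C := Subgroup.map_subtype_le _
  set o := Nat.card O with ho
  have hoC : o = Nat.card (pPrimeCore 2 C) := by
    rw [ho, hO, Subgroup.card_map_of_injective C.subtype_injective]
  have hodd : ¬ 2 ∣ o := by rw [hoC]; exact Hall.not_dvd_card_pPrimeCore Nat.prime_two
  have ho0 : 0 < o := Nat.card_pos
  have hcardC : Nat.card C = 4 * o := by
    have h1 := (pPrimeCore 2 C).card_mul_index
    rw [hk, ← hoC] at h1
    rw [← h1, Nat.factorization_mul ho0.ne' (by positivity), Finsupp.add_apply,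
      Nat.factorization_eq_zero_of_not_dvd hodd, Nat.prime_two.factorization_pow,
      Finsupp.single_eq_same, zero_add] at hv
    rw [← h1, hv]; ring
  have hinv : ∀ a ∈ (P : Subgroup G), a * a = 1 := fun a ha =>
    congrArg Subtype.val (hexp ⟨a, ha⟩)
  have hcomm : ∀ a ∈ (P : Subgroup G), ∀ b ∈ (P : Subgroup G), Commute a b := by
    intro a ha b hb
    have ea : a⁻¹ = a := inv_eq_of_mul_eq_one_left (hinv a ha)
    have eb : b⁻¹ = b := inv_eq_of_mul_eq_one_left (hinv b hb)
    have eab := inv_eq_of_mul_eq_one_left (hinv _ (mul_mem ha hb))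
    rw [mul_inv_rev, ea, eb] at eab
    exact eab.symm
  have hPC : (P : Subgroup G) ≤ C := fun a ha =>
    Subgroup.mem_centralizer_singleton_iff.2 (hcomm a ha z hz).eq
  have hOn : ∀ g ∈ C, ∀ y ∈ O, g * y * g⁻¹ ∈ O := by
    rintro g hg y ⟨y', hy', rfl⟩
    exact ⟨⟨g, hg⟩ * y' * ⟨g, hg⟩⁻¹, Subgroup.Normal.conj_mem inferInstance y' hy' _, rfl⟩
  have hyodd : ∀ y ∈ O, ¬ 2 ∣ orderOf y := fun y hy h =>
    hodd (h.trans ((Subgroup.orderOf_mk _ hy).symm ▸ orderOf_dvd_natCard (⟨y, hy⟩ : O)))
  have hdisj : ∀ a ∈ (P : Subgroup G), a ∈ O → a = 1 := by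
    intro a ha haO
    have h1 : orderOf a ∣ 2 := orderOf_dvd_of_pow_eq_one (by rw [pow_two, hinv a ha])
    rcases (Nat.dvd_prime Nat.prime_two).1 h1 with h | h
    · exact orderOf_eq_one_iff.1 h
    · exact absurd (by rw [h]) (hyodd a haO)
  have hzy : ∀ y ∈ O, Commute z y := fun y hy =>
    (Subgroup.mem_centralizer_singleton_iff.1 (hOC hy) : y * z = z * y).symm
  have hpos : ∀ y ∈ O, 2 ∣ orderOf (z * y) := fun y hy => by
    rw [(hzy y hy).orderOf_mul_eq_mul_orderOf_of_coprime]
    · rw [hz2]; exact dvd_mul_right _ _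
    · rw [hz2]; exact (Nat.prime_two.coprime_iff_not_dvd).2 (hyodd y hy)
  have hypow : ∀ y ∈ O, y ^ o = 1 := fun y hy =>
    orderOf_dvd_iff_pow_eq_one.1 ((Subgroup.orderOf_mk _ hy).symm ▸ orderOf_dvd_natCard (⟨y, hy⟩ : O))
  have hzpow : z ^ o = z := by
    obtain ⟨i, hi⟩ : Odd o := Nat.odd_iff.2 (by omega)
    rw [hi, pow_succ, pow_mul, pow_two, hzz, one_pow, one_mul]
  have hzyo : ∀ y ∈ O, (z * y) ^ o = z := fun y hy => by
    rw [(hzy y hy).mul_pow, hzpow, hypow y hy, mul_one]
  -- factorisation `C = P O`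
  let φ : ↥(P : Subgroup G) × ↥O → C := fun q => ⟨(q.1 : G) * (q.2 : G), mul_mem (hPC q.1.2) (hOC q.2.2)⟩
  have hφi : Function.Injective φ := by
    rintro ⟨a, y⟩ ⟨a', y'⟩ h
    have h' : (a : G) * y = a' * y' := congrArg Subtype.val h
    have hm : (a' : G)⁻¹ * a ∈ O := by
      have : (a' : G)⁻¹ * a = y' * (y : G)⁻¹ := by
        rw [eq_mul_inv_iff_mul_eq, mul_assoc, h', inv_mul_cancel_left]
      rw [this]; exact mul_mem y'.2 (inv_mem y.2)
    have hea : (a : G) = a' :=
      (inv_mul_eq_one.1 (hdisj _ (mul_mem (inv_mem a'.2) a.2) hm)).symm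
    exact Prod.ext (Subtype.ext hea) (Subtype.ext (by rw [hea] at h'; exact mul_left_cancel h'))
  have hφ : Function.Bijective φ := (Nat.bijective_iff_injective_and_card φ).2
    ⟨hφi, by rw [Nat.card_prod, hP, hcardC]⟩
  -- the fixed subgroup
  set D := Subgroup.centralizer ((P : Subgroup G) : Set G) with hD
  set c := Nat.card (O ⊓ D : Subgroup G) with hc
  have hc0 : 0 < c := Nat.card_pos
  have hco : c ∣ o := Subgroup.card_dvd_of_le inf_le_left
  have hDC : D ≤ C := fun g hg =>
    Subgroup.mem_centralizer_singleton_iff.2 (Subgroup.mem_centralizer_iff.1 hg z hz).symm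
  have hPD : (P : Subgroup G) ≤ D := fun a ha =>
    Subgroup.mem_centralizer_iff.2 fun b hb => (hcomm b hb a ha).eq
  have hcardD : Nat.card D = 4 * c := by
    let ψ : ↥(P : Subgroup G) × ↥(O ⊓ D) → D :=
      fun q => ⟨(q.1 : G) * (q.2 : G), mul_mem (hPD q.1.2) q.2.2.2⟩
    have hψi : Function.Injective ψ := by
      rintro ⟨a, y⟩ ⟨a', y'⟩ h
      have := @hφi (a, ⟨y, y.2.1⟩) (a', ⟨y', y'.2.1⟩)
        (Subtype.ext (congrArg Subtype.val h :))
      simp only [Prod.mk.injEq, Subtype.mk.injEq] at this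
      exact Prod.ext this.1 (Subtype.ext this.2)
    have hψs : Function.Surjective ψ := by
      intro g
      obtain ⟨⟨a, y⟩, hay⟩ := hφ.2 ⟨g, hDC g.2⟩
      have e : (a : G) * y = g := congrArg Subtype.val hay
      have hyD : (y : G) ∈ D := by
        rw [show (y : G) = (a : G)⁻¹ * g by rw [← e, inv_mul_cancel_left]]
        exact mul_mem (inv_mem (hPD a.2)) g.2
      exact ⟨(a, ⟨y, y.2, hyD⟩), Subtype.ext e⟩
    rw [← Nat.card_eq_of_bijective ψ ⟨hψi, hψs⟩, Nat.card_prod, hP]
  -- averages over the cosets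
  set Of := Finset.univ.filter (fun y : G => y ∈ O) with hOf
  have hOfc : Of.card = o := by rw [hOf, ← Fintype.card_subtype, ← Nat.card_eq_fintype_card, ho]
  set T : IrrCharacter G → ℂ := fun χ => ∑ y ∈ Of, conj ((χ : G → ℂ) (z * y)) with hT
  have hTS : ∀ χ ∈ S, T χ = (o : ℂ) * n χ := fun χ hχ => by
    rw [hT]; dsimp only
    rw [Finset.sum_congr rfl (g := fun _ => (n χ : ℂ)) fun y hy => ?_, Finset.sum_const, hOfc,
      nsmul_eq_mul]
    rw [hsing χ hχ _ (hpos y (Finset.mem_filter.1 hy).2), map_intCast]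
  have hcol : ∀ g : G, ∑ χ : IrrCharacter G, (χ : G → ℂ) g * T χ =
      ∑ y ∈ Of, ((Finset.univ.filter fun w : G => w * g * w⁻¹ = z * y).card : ℂ) := by
    intro g
    simp only [hT, Finset.mul_sum]
    rw [Finset.sum_comm]
    refine Finset.sum_congr rfl fun y _ => ?_
    rw [card_conj_eq]
    split_ifs with h
    · rw [Char.sum_irr_mul_conj, if_pos h]
      have e := CharAux.card_conj_mul_card_centralizer (z * y)
      have e' : Nat.card G = (Finset.univ.filter fun x => IsConj x (z * y)).card *
          Nat.card (Subgroup.centralizer ({z * y} : Set G)) := by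
        rw [← e]
      have hne : (((Finset.univ.filter fun x => IsConj x (z * y)).card : ℕ) : ℂ) ≠ 0 :=
        Nat.cast_ne_zero.2 (Finset.card_ne_zero.2
          ⟨z * y, Finset.mem_filter.2 ⟨Finset.mem_univ _, IsConj.refl _⟩⟩)
      rw [div_eq_iff hne, ← Nat.cast_mul, Nat.cast_inj, e', mul_comm]
    · rw [Char.sum_irr_mul_conj, if_neg h]
  -- conjugation by elements of the centraliser: the normsq of the averages
  have hnorm : ∑ χ : IrrCharacter G, ‖T χ‖ ^ 2 = 4 * (o : ℝ) ^ 2 := by
    have hfix : ∀ y ∈ Of, ∑ y' ∈ Of,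
        ((Finset.univ.filter fun w : G => w * (z * y) * w⁻¹ = z * y').card : ℂ) =
        (Nat.card C : ℂ) := by
      intro y hy
      have hyO := (Finset.mem_filter.1 hy).2
      rw [← Nat.cast_sum, Nat.cast_inj, ← Finset.card_biUnion, Nat.card_eq_fintype_card,
        Fintype.card_subtype]
      · congr 1
        ext w
        simp only [Finset.mem_biUnion, Finset.mem_filter, Finset.mem_univ, true_and, hOf]
        constructor
        · rintro ⟨y', hy', hw⟩
          have e := congrArg (· ^ o) hw
          simp only [conj_pow, hzyo _ hy', hzyo _ hyO] at e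
          exact Subgroup.mem_centralizer_singleton_iff.2 (mul_inv_eq_iff_eq_mul.1 e)
        · intro hw
          refine ⟨w * y * w⁻¹, hOn w hw y hyO, ?_⟩
          rw [← mul_assoc w z y, (Subgroup.mem_centralizer_singleton_iff.1 hw : w * z = z * w)]
          group
      · intro y₁ _ y₂ _ hne
        exact Finset.disjoint_filter.2 fun w _ h1 h2 => hne (mul_left_cancel (h1.symm.trans h2))
    have h : ((∑ χ : IrrCharacter G, ‖T χ‖ ^ 2 : ℝ) : ℂ) = ((4 * (o : ℝ) ^ 2 : ℝ) : ℂ) := by
      push_cast
      calc (∑ χ : IrrCharacter G, (‖T χ‖ : ℂ) ^ 2)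
          = ∑ χ : IrrCharacter G, ∑ y ∈ Of, (χ : G → ℂ) (z * y) * T χ := by
            refine Finset.sum_congr rfl fun χ _ => ?_
            rw [← Complex.conj_mul', ← Finset.sum_mul]
            congr 1
            simp [hT, map_sum]
        _ = ∑ y ∈ Of, ∑ χ : IrrCharacter G, (χ : G → ℂ) (z * y) * T χ := Finset.sum_comm
        _ = ∑ y ∈ Of, (Nat.card C : ℂ) :=
            Finset.sum_congr rfl fun y hy => (hcol _).trans (hfix y hy)
        _ = 4 * (o : ℂ) ^ 2 := by
            rw [Finset.sum_const, hOfc, hcardC, nsmul_eq_mul]; push_cast; ring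
    exact_mod_cast h
  have hT0 : ∀ χ, χ ∉ S → T χ = 0 := by
    intro χ hχ
    rw [← Finset.sum_add_sum_compl S, Finset.sum_congr rfl (g := fun _ => (o : ℝ) ^ 2)
      fun ψ hψ => ?_, Finset.sum_const, hS4, nsmul_eq_mul] at hnorm
    · have h0 : ∑ ψ ∈ Sᶜ, ‖T ψ‖ ^ 2 = 0 := by push_cast at hnorm; linarith
      have := (Finset.sum_eq_zero_iff_of_nonneg fun _ _ => sq_nonneg _).1 h0 χ (by simpa using hχ)
      simpa using this
    · rw [hTS ψ hψ]
      rcases hpm ψ hψ with h | h <;> simp [h]
  have hproj : ∀ f : IrrCharacter G → ℂ, ∑ χ, f χ * T χ = (o : ℂ) * ∑ χ ∈ S, (n χ : ℂ) * f χ := by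
    intro f
    rw [← Finset.sum_subset (Finset.subset_univ S) (fun χ _ h => by rw [hT0 χ h, mul_zero]),
      Finset.mul_sum]
    exact Finset.sum_congr rfl fun χ hχ => by rw [hTS χ hχ]; ring
  have hoC0 : (o : ℂ) ≠ 0 := Nat.cast_ne_zero.2 ho0.ne'
  refine ⟨S, n, o, c, hmem, hpm, fun χ hχ => hsing χ hχ z (by rw [hz2]), ?_, ?_, ?_, ?_,
    hc0, hco, hcardC, hcardD, ?_⟩
  · -- odd degrees
    intro χ hχ
    rw [← Nat.not_even_iff_odd]
    intro heven
    haveI := Fintype.ofFinite (P : Subgroup G)
    have hint := Block.isIntegral_average (G := G) (Char.isCharacter_of_isIrr χ.2)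
      (S := (P : Subgroup G)) (g := 1) (fun s _ => Commute.one_left s)
    have hs : ∑ u : (P : Subgroup G), (χ : G → ℂ) (1 * (u : G)) =
        (charDegree (χ : G → ℂ) : ℂ) + 3 * (n χ : ℂ) := by
      rw [Fintype.sum_eq_add_sum_compl (1 : (P : Subgroup G)), Subgroup.coe_one, one_mul,
        Block.irr_one_eq_natCast, Finset.sum_congr rfl (g := fun _ => (n χ : ℂ)) ?_,
        Finset.sum_const, Finset.card_compl, ← Nat.card_eq_fintype_card, hP, Finset.card_singleton]
      · simp
      · intro u hu
        rw [one_mul, hsing χ hχ u]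
        rw [Subgroup.orderOf_coe, orderOf_eq_prime (p := 2) (by rw [pow_two]; exact hexp u)
          (by simpa using hu)]
    rw [hs, hP] at hint
    obtain ⟨m, hm⟩ := exists_int_of_isIntegral
      (q := (((charDegree (χ : G → ℂ) : ℤ) + 3 * n χ : ℤ) : ℚ) / 4) (by
        push_cast at hint ⊢
        rwa [div_eq_inv_mul])
    rw [div_eq_iff (by norm_num)] at hm
    have h5 : (charDegree (χ : G → ℂ) : ℤ) + 3 * n χ = m * 4 := by exact_mod_cast hm
    obtain ⟨r, hr⟩ := heven
    rw [hr] at h5
    rcases hpm χ hχ with h | h <;> rw [h] at h5 <;> push_cast at h5 <;> omega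
  · exact hreg 1 (by simp)
  · -- square roots
    have h0 : ∀ y ∈ O, ∑ χ : IrrCharacter G, fsInd (χ : G → ℂ) * (χ : G → ℂ) (z * y) = 0 := by
      intro y hy
      rw [← card_sqrt_eq_sum, Nat.cast_eq_zero, Finset.card_eq_zero, Finset.filter_eq_empty_iff]
      intro g _ hg
      obtain ⟨u, s, hus, hc', hup, hs⟩ := Block.exists_isPPart (p := 2) g
      have hu2 := Block.sq_eq_one_of_pElem P hexp hup
      refine hs ?_
      have e : z * y = s * s := by
        rw [← hg, ← hus, hc'.symm.mul_mul_mul_comm, hu2, one_mul]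
      have h2 := hpos y hy
      rw [e] at h2
      exact h2.trans (by rw [← pow_two]; exact orderOf_pow_dvd 2)
    have h1 := hproj fun χ => fsInd (χ : G → ℂ)
    have h2 : ∑ χ : IrrCharacter G, fsInd (χ : G → ℂ) * T χ = 0 := by
      have e : (conj) (∑ y ∈ Of, ∑ χ : IrrCharacter G, fsInd (χ : G → ℂ) * (χ : G → ℂ) (z * y)) = 0 := by
        rw [Finset.sum_eq_zero fun y hy => h0 y (Finset.mem_filter.1 hy).2, map_zero]
      rw [← e, map_sum]
      simp only [map_sum, map_mul, hT, Finset.mul_sum, conj_fsInd (Subtype.prop _)]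
      exact Finset.sum_comm
    rw [h2] at h1
    exact (mul_eq_zero.1 h1.symm).resolve_left hoC0
  · intro χ hχ ψ hψ
    by_contra hns
    have h := hT0 ψ hns
    have e : T ψ = conj (T χ) := by simp [hT, hψ, map_sum]
    rw [h, hTS χ hχ] at e
    rcases hpm χ hχ with h' | h'
    · simp [h'] at e
      exact hoC0 e.symm
    · simp [h'] at e
      omega
  · -- the pairs of involutions
    set F := Finset.univ.filter (fun q : G × G =>
      IsConj q.1 z ∧ IsConj q.2 z ∧ z * (q.1 * q.2) ∈ O) with hF
    set idx : ℂ := ((Subgroup.centralizer ({z} : Set G)).index : ℂ) with hidx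
    have hiC : idx * (4 * o : ℂ) = Nat.card G := by
      rw [hidx, ← C.card_mul_index, hcardC, hC]; push_cast; ring
    have hleft : ∑ u : G, ∑ v : G, classInd z u * classInd z v *
        ∑ χ : IrrCharacter G, (χ : G → ℂ) (u * v) * T χ =
        (o : ℂ) * idx ^ 2 * ∑ χ ∈ S, (n χ : ℂ) / (χ : G → ℂ) 1 := by
      calc ∑ u : G, ∑ v : G, classInd z u * classInd z v *
            ∑ χ : IrrCharacter G, (χ : G → ℂ) (u * v) * T χ
          = ∑ χ : IrrCharacter G, (∑ u : G, ∑ v : G,
              classInd z u * classInd z v * (χ : G → ℂ) (u * v)) * T χ := by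
            simp only [Finset.mul_sum, Finset.sum_mul]
            rw [Finset.sum_congr rfl fun u _ => Finset.sum_comm, Finset.sum_comm]
            exact Finset.sum_congr rfl fun χ _ => Finset.sum_congr rfl fun u _ =>
              Finset.sum_congr rfl fun v _ => by ring
        _ = ∑ χ : IrrCharacter G,
              (idx * idx * ((χ : G → ℂ) z * (χ : G → ℂ) z) / (χ : G → ℂ) 1) * T χ :=
            Finset.sum_congr rfl fun χ _ => by rw [sum_classes_mul χ.2]
        _ = (o : ℂ) * idx ^ 2 * ∑ χ ∈ S, (n χ : ℂ) / (χ : G → ℂ) 1 := by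
            rw [hproj, mul_assoc, Finset.mul_sum, Finset.mul_sum, Finset.mul_sum]
            refine Finset.sum_congr rfl fun χ hχ => ?_
            rw [hsing χ hχ z (by rw [hz2])]
            rcases hpm χ hχ with h' | h' <;> rw [h'] <;> push_cast <;> ring
    have hright : ∑ u : G, ∑ v : G, classInd z u * classInd z v *
        ∑ χ : IrrCharacter G, (χ : G → ℂ) (u * v) * T χ = (Nat.card G : ℂ) * F.card := by
      have hconv : ∀ u v, classInd z u * classInd z v *
          ∑ χ : IrrCharacter G, (χ : G → ℂ) (u * v) * T χ =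
          ∑ w : G, classInd z u * classInd z v *
            (if z * (w * (u * v) * w⁻¹) ∈ O then 1 else 0) := by
        intro u v
        rw [← Finset.mul_sum, hcol]
        congr 1
        rw [← Nat.cast_sum, ← Finset.card_biUnion, Finset.sum_boole, Nat.cast_inj]
        · congr 1
          ext w
          simp only [Finset.mem_biUnion, Finset.mem_filter, Finset.mem_univ, true_and, hOf]
          constructor
          · rintro ⟨y, hy, hw⟩
            rwa [hw, ← mul_assoc, hzz, one_mul]
          · intro h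
            exact ⟨_, h, by rw [← mul_assoc z z, hzz, one_mul]⟩
        · intro y₁ _ y₂ _ hne
          exact Finset.disjoint_filter.2 fun w _ h1 h2 => hne (mul_left_cancel (h1.symm.trans h2))
      simp only [hconv]
      rw [Finset.sum_congr rfl fun u _ => Finset.sum_comm, Finset.sum_comm]
      have hw : ∀ w : G, ∑ u : G, ∑ v : G, classInd z u * classInd z v *
          (if z * (w * (u * v) * w⁻¹) ∈ O then 1 else 0) = (F.card : ℂ) := by
        intro w
        rw [← (MulAut.conj w⁻¹).toEquiv.sum_comp]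
        simp only [MulEquiv.toEquiv_eq_coe, EquivLike.coe_coe, MulAut.conj_apply, inv_inv]
        rw [Finset.sum_congr rfl fun u _ => ((MulAut.conj w⁻¹).toEquiv.sum_comp _).symm]
        simp only [MulEquiv.toEquiv_eq_coe, EquivLike.coe_coe, MulAut.conj_apply, inv_inv]
        rw [hF, ← Finset.sum_boole, Fintype.sum_prod_type]
        refine Finset.sum_congr rfl fun u _ => Finset.sum_congr rfl fun v _ => ?_
        have e : w * (w⁻¹ * u * w * (w⁻¹ * v * w)) * w⁻¹ = u * v := by group
        rw [e]
        have hu := classInd_conj z u w⁻¹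
        have hv := classInd_conj z v w⁻¹
        rw [inv_inv] at hu hv
        rw [hu, hv]
        by_cases h1 : IsConj u z <;> by_cases h2 : IsConj v z <;>
          by_cases h3 : z * (u * v) ∈ O <;>
          simp [classInd, h1, h2, h3, -isConj_iff]
      rw [Finset.sum_congr rfl fun w _ => hw w, Finset.sum_const, Finset.card_univ,
        ← Nat.card_eq_fintype_card, nsmul_eq_mul]
    -- involutions in a coset
    have hord2 : ∀ {u : G}, IsConj u z → orderOf u = 2 := fun {u} h => by
      rw [Block.orderOf_of_isConj h.symm, hz2]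
    have hinvs : ∀ {u : G}, IsConj u z → u * u = 1 ∧ u ≠ 1 := fun {u} h => by
      have h2 := hord2 h
      refine ⟨?_, fun h1 => ?_⟩
      · have := pow_orderOf_eq_one u; rwa [h2, pow_two] at this
      · rw [h1, orderOf_one] at h2; omega
    set I : G → Finset G := fun a => Finset.univ.filter fun u : G =>
      IsConj u z ∧ a * u ∈ O with hI
    have hIcard : ∀ a ∈ (P : Subgroup G), a ≠ 1 → a ≠ z → (I a).card * c = o := by
      intro a ha ha1 haz
      have haa := hinv a ha
      have haC := hPC ha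
      have himg : I a = Of.image (fun y => y * a * y⁻¹) := by
        ext u
        simp only [hI, hOf, Finset.mem_image, Finset.mem_filter, Finset.mem_univ, true_and]
        constructor
        · rintro ⟨hu, hau⟩
          set y := a * u with hy
          have huy : u = a * y := by rw [hy, ← mul_assoc, haa, one_mul]
          have hu2 := (hinvs hu).1
          have hay : a * y * a = y⁻¹ := by
            refine eq_inv_of_mul_eq_one_left ?_
            rw [huy] at hu2
            rw [← hu2]; simp [mul_assoc]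
          obtain ⟨i, hi⟩ : Odd o := Nat.odd_iff.2 (by omega)
          set w := y ^ (i + 1) with hw
          have hww : w * w = y := by
            rw [hw, ← pow_add, show i + 1 + (i + 1) = o + 1 by omega, pow_succ, hypow y hau, one_mul]
          have hconj : a * w * a = w⁻¹ := by
            rw [hw, ← inv_pow, ← hay]
            have := (conj_pow (i := i + 1) (a := a) (b := y)).symm
            rwa [inv_eq_of_mul_eq_one_left haa] at this
          refine ⟨w⁻¹, inv_mem (pow_mem hau _), ?_⟩
          rw [inv_inv, huy, ← hww, ← hconj]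
          simp only [mul_assoc]
          rw [← mul_assoc a a, haa, one_mul]
        · rintro ⟨y, hy, rfl⟩
          refine ⟨(isConj_iff.2 ⟨y⁻¹, by group⟩ : IsConj (y * a * y⁻¹) a).trans
            (hone a z (orderOf_eq_prime (by rw [pow_two, haa]) ha1) hz2), ?_⟩
          have h1 := hOn a haC y hy
          rw [inv_eq_of_mul_eq_one_left haa] at h1
          rw [← mul_assoc, ← mul_assoc]
          exact O.mul_mem h1 (O.inv_mem hy)
      have hfib : ∀ u ∈ I a, (Of.filter fun y => y * a * y⁻¹ = u).card = c := by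
        intro u hu
        rw [himg, Finset.mem_image] at hu
        obtain ⟨y₀, hy₀, rfl⟩ := hu
        have hy₀' := (Finset.mem_filter.1 hy₀).2
        rw [hc, Nat.card_eq_fintype_card, Fintype.card_subtype]
        refine Finset.card_bij (fun y _ => y₀⁻¹ * y) (fun y hy => ?_) (fun y _ y' _ h => mul_left_cancel h)
          (fun w hw => ?_)
        · simp only [hOf, Finset.mem_filter, Finset.mem_univ, true_and] at hy
          refine Finset.mem_filter.2 ⟨Finset.mem_univ _, Subgroup.mem_inf.2 ⟨O.mul_mem (O.inv_mem hy₀') hy.1, ?_⟩⟩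
          have hwa : Commute (y₀⁻¹ * y) a := by
            show y₀⁻¹ * y * a = a * (y₀⁻¹ * y)
            calc y₀⁻¹ * y * a = y₀⁻¹ * (y * a * y⁻¹) * y := by group
              _ = a * (y₀⁻¹ * y) := by rw [hy.2]; group
          have hwz : Commute (y₀⁻¹ * y) z :=
            (hzy _ (mul_mem (inv_mem hy₀') hy.1)).symm
          refine Subgroup.mem_centralizer_iff.2 fun b hb => ?_
          have hcases : b = 1 ∨ b = z ∨ b = a ∨ b = a * z := by
            by_contra hne
            push Not at hne
            haveI := Fintype.ofFinite (P : Subgroup G)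
            let T5 : Finset (P : Subgroup G) :=
              {1, ⟨z, hz⟩, ⟨a, ha⟩, ⟨a * z, mul_mem ha hz⟩, ⟨b, hb⟩}
            have hT5 : T5.card = 5 := by
              have e1 : a * z ≠ 1 := fun h => haz (by
                rw [← inv_eq_of_mul_eq_one_left h, inv_eq_of_mul_eq_one_left hzz])
              have e2 : a * z ≠ z := fun h => ha1 (mul_eq_right.1 h)
              have e3 : a * z ≠ a := fun h => hz1 (mul_eq_left.1 h)
              simp only [T5]
              rw [Finset.card_insert_of_notMem, Finset.card_insert_of_notMem,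
                Finset.card_insert_of_notMem, Finset.card_insert_of_notMem, Finset.card_singleton]
              all_goals simp only [Finset.mem_insert, Finset.mem_singleton, Subtype.ext_iff,
                Subgroup.coe_one, not_or]
              · exact fun h => hne.2.2.2 h.symm
              · exact ⟨fun h => e3 h.symm, fun h => hne.2.2.1 h.symm⟩
              · exact ⟨fun h => haz h.symm, fun h => e2 h.symm, fun h => hne.2.1 h.symm⟩
              · exact ⟨fun h => hz1 h.symm, fun h => ha1 h.symm, fun h => e1 h.symm, fun h => hne.1 h.symm⟩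
            have := Finset.card_le_univ T5
            rw [hT5, ← Nat.card_eq_fintype_card, hP] at this
            omega
          rcases hcases with rfl | rfl | rfl | rfl
          · exact (Commute.one_left _).eq
          · exact hwz.symm.eq
          · exact hwa.symm.eq
          · exact (hwa.mul_right hwz).symm.eq
        · obtain ⟨hwO, hwD⟩ := (Finset.mem_filter.1 hw).2
          refine ⟨y₀ * w, Finset.mem_filter.2 ⟨Finset.mem_filter.2
            ⟨Finset.mem_univ _, mul_mem hy₀' hwO⟩, ?_⟩, inv_mul_cancel_left _ _⟩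
          have : a * w = w * a := Subgroup.mem_centralizer_iff.1 hwD a ha
          calc y₀ * w * a * (y₀ * w)⁻¹ = y₀ * (w * a) * w⁻¹ * y₀⁻¹ := by group
            _ = y₀ * a * y₀⁻¹ := by rw [← this]; group
      have := Finset.card_eq_sum_card_image (fun y => y * a * y⁻¹) Of
      rw [← himg, Finset.sum_congr rfl hfib, Finset.sum_const, smul_eq_mul, hOfc] at this
      exact this.symm
    -- the pairs
    set A := Finset.univ.filter (fun a : G => a ∈ (P : Subgroup G) ∧ a ≠ 1 ∧ a ≠ z) with hA
    have hAcard : A.card = 2 := by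
      have hs : Finset.univ.filter (fun a : G => a ∈ (P : Subgroup G)) = insert 1 (insert z A) := by
        ext a
        simp only [hA, Finset.mem_insert, Finset.mem_filter, Finset.mem_univ, true_and]
        constructor
        · intro h
          by_cases h1 : a = 1
          · exact Or.inl h1
          by_cases h2 : a = z
          · exact Or.inr (Or.inl h2)
          exact Or.inr (Or.inr ⟨h, h1, h2⟩)
        · rintro (rfl | rfl | ⟨h, -, -⟩)
          exacts [one_mem _, hz, h]
      have := congrArg Finset.card hs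
      rw [Finset.card_insert_of_notMem (by simp [hA, hz1.symm]),
        Finset.card_insert_of_notMem (by simp [hA]), ← Fintype.card_subtype,
        ← Nat.card_eq_fintype_card] at this
      have h4 : Nat.card {a // a ∈ (P : Subgroup G)} = 4 := hP
      omega
    have hFset : F = A.biUnion fun a => I a ×ˢ I (a * z) := by
      ext ⟨u, v⟩
      simp only [hF, hA, hI, Finset.mem_biUnion, Finset.mem_product, Finset.mem_filter,
        Finset.mem_univ, true_and]
      constructor
      · rintro ⟨hu, hv, huv⟩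
        obtain ⟨hu2, hu1⟩ := hinvs hu
        obtain ⟨hv2, hv1⟩ := hinvs hv
        set y := z * (u * v) with hy
        have hg : u * v = z * y := by rw [hy, ← mul_assoc, hzz, one_mul]
        have huz : u * z * u⁻¹ = z := by
          have e : u * (z * y) * u⁻¹ = (z * y)⁻¹ := by
            rw [← hg, mul_inv_rev, inv_eq_of_mul_eq_one_left hu2, inv_eq_of_mul_eq_one_left hv2,
              ← mul_assoc, hu2, one_mul]
          have e2 := congrArg (· ^ o) e
          simp only [conj_pow, inv_pow, hzyo y huv] at e2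
          rw [e2, inv_eq_of_mul_eq_one_left hzz]
        have huC : u ∈ C := Subgroup.mem_centralizer_singleton_iff.2 (mul_inv_eq_iff_eq_mul.1 huz)
        obtain ⟨⟨a, w⟩, haw⟩ := hφ.2 ⟨u, huC⟩
        have e : (a : G) * w = u := congrArg Subtype.val haw
        have hau : (a : G) * u ∈ O := by
          rw [← e, ← mul_assoc, hinv a a.2, one_mul]; exact w.2
        have hvv : v = u * (z * y) := by rw [← hg, ← mul_assoc, hu2, one_mul]
        have hazv : (a : G) * z * v ∈ O := by
          have hzu : Commute z u := (Subgroup.mem_centralizer_singleton_iff.1 huC : u * z = z * u).symm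
          rw [hvv, show (a : G) * z * (u * (z * y)) = a * (z * u) * z * y by group, hzu.eq,
            show (a : G) * (u * z) * z * y = a * u * (z * z) * y by group, hzz, mul_one]
          exact mul_mem hau huv
        refine ⟨a, ⟨a.2, fun h1 => ?_, fun h1 => ?_⟩, ⟨hu, hau⟩, hv, hazv⟩
        · rw [h1, one_mul] at e
          exact hyodd u (e ▸ w.2) (by rw [hord2 hu])
        · rw [h1, hzz, one_mul] at hazv
          exact hyodd v hazv (by rw [hord2 hv])
      · rintro ⟨a, ⟨ha, -, -⟩, ⟨hu, hau⟩, hv, hav⟩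
        refine ⟨hu, hv, ?_⟩
        have haC := hPC ha
        have hza : Commute z a := (hcomm a ha z hz).symm
        have h1 := hOn _ (mul_mem haC (hPC hz)) _ hau
        have e : z * (u * v) = (a * z) * (a * u) * (a * z)⁻¹ * (a * z * v) := by
          rw [mul_inv_rev]
          calc z * (u * v) = z * (a * a) * (u * v) := by rw [hinv a ha, mul_one]
            _ = a * z * (a * u) * v := by
              rw [← mul_assoc z a a, hza.eq]; group
            _ = _ := by group
        rw [e]
        exact mul_mem h1 hav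
    have hFcard : F.card * c ^ 2 = 2 * o ^ 2 := by
      rw [hFset, Finset.card_biUnion, Finset.sum_mul,
        Finset.sum_congr rfl (g := fun _ => o ^ 2) fun a ha => ?_, Finset.sum_const, hAcard,
        smul_eq_mul]
      · obtain ⟨haP, ha1, haz⟩ := (Finset.mem_filter.1 ha).2
        rw [Finset.card_product, show (I a).card * (I (a * z)).card * c ^ 2 =
          (I a).card * c * ((I (a * z)).card * c) by ring, hIcard a haP ha1 haz,
          hIcard _ (mul_mem haP hz) (fun h => haz ?_) (fun h => ha1 (mul_eq_right.1 h))]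
        · ring
        · rw [← inv_eq_of_mul_eq_one_left h, inv_eq_of_mul_eq_one_left hzz]
      · intro a ha b hb hab
        rw [Function.onFun, Finset.disjoint_left]
        rintro ⟨u, v⟩ hu hu'
        have h1 := (Finset.mem_filter.1 (Finset.mem_product.1 hu).1).2.2
        have h2 := (Finset.mem_filter.1 (Finset.mem_product.1 hu').1).2.2
        have h3 := mul_mem h1 (inv_mem h2)
        rw [mul_inv_rev, mul_assoc, mul_inv_cancel_left] at h3
        have haP := (Finset.mem_filter.1 ha).2.1
        have hbP := (Finset.mem_filter.1 hb).2.1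
        exact hab (mul_inv_eq_one.1 (hdisj _ (mul_mem haP (inv_mem hbP)) h3))
    have hFC : (F.card : ℂ) * (c : ℂ) ^ 2 = 2 * (o : ℂ) ^ 2 := by exact_mod_cast hFcard
    have hidx0 : idx ≠ 0 := fun h => Char.card_ne_zero_complex G (by rw [← hiC, h, zero_mul])
    have key : (o : ℂ) * idx ^ 2 * (∑ χ ∈ S, (n χ : ℂ) / (χ : G → ℂ) 1) * (c : ℂ) ^ 2 =
        (Nat.card G : ℂ) * (2 * (o : ℂ) ^ 2) := by
      rw [← hleft, hright, mul_assoc, hFC]
    set Sg := ∑ χ ∈ S, (n χ : ℂ) / (χ : G → ℂ) 1
    rw [← hiC] at key ⊢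
    refine mul_left_cancel₀ (mul_ne_zero hidx0 hoC0) ?_
    linear_combination (4 * (o : ℂ)) * key

end Cfsg.Agent.Lib.Char
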