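import Cfsg.Agent.Lib.Char.KleinCount
import Cfsg.Agent.Lib.Char.Linear
import Cfsg.Agent.Lib.Char.Degree

/-!
# The three nontrivial characters of a Klein four principal block
-/

namespace Cfsg.Agent.Lib.Char

open Cfsg Cfsg.Agent.Lib
open scoped ComplexConjugate

universe u

variable {G : Type u} [Group G] [Finite G] {M : Ideal AlgInt}

/-- The data of `klein_count` for a named triple. -/
theorem klein_triple [Fintype G] (hM : IsPModular 2 M) {g₀ : ℕ} (hg₀ : Odd g₀)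
    (hG : Nat.card G = 4 * g₀) (hnc : ¬ ∃ N : Subgroup G, N.Normal ∧ Nat.card N = g₀)
    (P : Sylow 2 G) {J : G} (hJ : J ∈ (P : Subgroup G)) (hJ2 : orderOf J = 2)
    {χ₁ χ₂ χ₃ : IrrCharacter G} {ε₁ ε₂ ε₃ : ℤ}
    (hB : principalBlock M G = {χ : IrrCharacter G |
      (χ : G → ℂ) = (fun _ => 1) ∨ χ = χ₁ ∨ χ = χ₂ ∨ χ = χ₃})
    (hdist : (χ₁ : G → ℂ) ≠ (fun _ => 1) ∧ (χ₂ : G → ℂ) ≠ (fun _ => 1) ∧
      (χ₃ : G → ℂ) ≠ (fun _ => 1) ∧ χ₁ ≠ χ₂ ∧ χ₁ ≠ χ₃ ∧ χ₂ ≠ χ₃)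
    (hε : (ε₁ = 1 ∨ ε₁ = -1) ∧ (ε₂ = 1 ∨ ε₂ = -1) ∧ (ε₃ = 1 ∨ ε₃ = -1))
    (hval : (χ₁ : G → ℂ) J = ε₁ ∧ (χ₂ : G → ℂ) J = ε₂ ∧ (χ₃ : G → ℂ) J = ε₃) :
    ∃ o c : ℕ, 0 < c ∧ c ∣ o ∧ 0 < o ∧
      Nat.card (Subgroup.centralizer ({J} : Set G)) = 4 * o ∧
      Nat.card (Subgroup.centralizer ((P : Subgroup G) : Set G)) = 4 * c ∧
      (Odd (charDegree (χ₁ : G → ℂ)) ∧ Odd (charDegree (χ₂ : G → ℂ)) ∧
        Odd (charDegree (χ₃ : G → ℂ))) ∧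
      1 + ε₁ * charDegree (χ₁ : G → ℂ) + ε₂ * charDegree (χ₂ : G → ℂ) +
        ε₃ * charDegree (χ₃ : G → ℂ) = 0 ∧
      (Nat.card G : ℤ) * (((charDegree (χ₁ : G → ℂ) : ℤ) + ε₁) *
          ((charDegree (χ₂ : G → ℂ) : ℤ) + ε₂) * ((charDegree (χ₃ : G → ℂ) : ℤ) + ε₃)) *
          (c : ℤ) ^ 2 =
        32 * (o : ℤ) ^ 3 * (charDegree (χ₁ : G → ℂ) : ℤ) * charDegree (χ₂ : G → ℂ) *
          charDegree (χ₃ : G → ℂ) ∧
      (1 + (ε₁ : ℂ) * fsInd (χ₁ : G → ℂ) + (ε₂ : ℂ) * fsInd (χ₂ : G → ℂ) +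
        (ε₃ : ℂ) * fsInd (χ₃ : G → ℂ) = 0) ∧
      ∀ ψ : IrrCharacter G, (ψ = χ₁ ∨ ψ = χ₂ ∨ ψ = χ₃) → ∀ ψ' : IrrCharacter G,
        (ψ' : G → ℂ) = (fun g => conj ((ψ : G → ℂ) g)) → ψ' = χ₁ ∨ ψ' = χ₂ ∨ ψ' = χ₃ := by
  classical
  haveI := hM.2.1
  obtain ⟨hP, hexp, hone⟩ := klein_of_no_complement hg₀ hG hnc P
  obtain ⟨S, n, o, c, hmem, hpm, hval', hodd, hdeg, hfs, hconj, hc0, hco, hC, hD, hmain⟩ :=
    klein_count hM P hP hexp hone hJ hJ2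
  obtain ⟨h1, h2, h3, h12, h13, h23⟩ := hdist
  set one : IrrCharacter G := Block.oneIrr G with hone'
  have h1f : (one : G → ℂ) = fun _ => 1 := funext fun g => Block.oneIrr_apply g
  have hS : S = {one, χ₁, χ₂, χ₃} := by
    ext χ
    rw [hmem, hB, Set.mem_ofPred_eq]
    simp only [Finset.mem_insert, Finset.mem_singleton]
    constructor
    · rintro (h | h)
      · exact Or.inl (Subtype.ext (h.trans h1f.symm))
      · exact Or.inr h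
    · rintro (rfl | h)
      · exact Or.inl h1f
      · exact Or.inr h
  have ho1 : one ∈ S := by simp [hS]
  have hm1 : χ₁ ∈ S := by simp [hS]
  have hm2 : χ₂ ∈ S := by simp [hS]
  have hm3 : χ₃ ∈ S := by simp [hS]
  have e0 : n one = 1 := by
    have := hval' one ho1
    rw [h1f] at this
    beta_reduce at this
    exact_mod_cast this.symm
  have e1 : n χ₁ = ε₁ := by exact_mod_cast (hval' χ₁ hm1).symm.trans hval.1
  have e2 : n χ₂ = ε₂ := by exact_mod_cast (hval' χ₂ hm2).symm.trans hval.2.1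
  have e3 : n χ₃ = ε₃ := by exact_mod_cast (hval' χ₃ hm3).symm.trans hval.2.2
  have hn1 : one ≠ χ₁ := fun h => h1 (h ▸ h1f)
  have hn2 : one ≠ χ₂ := fun h => h2 (h ▸ h1f)
  have hn3 : one ≠ χ₃ := fun h => h3 (h ▸ h1f)
  have hexpand : ∀ f : IrrCharacter G → ℂ, ∑ χ ∈ S, f χ = f one + f χ₁ + f χ₂ + f χ₃ := by
    intro f
    rw [hS, Finset.sum_insert (by simp [hn1, hn2, hn3]), Finset.sum_insert (by simp [h12, h13]),
      Finset.sum_pair h23]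
    ring
  rw [hexpand, e0, e1, e2, e3, h1f, Block.irr_one_eq_natCast, Block.irr_one_eq_natCast,
    Block.irr_one_eq_natCast] at hdeg hmain
  rw [hexpand, e0, e1, e2, e3] at hfs
  have hfs1 : fsInd (one : G → ℂ) = 1 := by
    refine fsInd_eq_one_of_odd one.2 (fun s => by rw [h1f]; simp) (hodd one ho1)
  rw [hfs1] at hfs
  push_cast at hdeg hmain hfs
  have f1 := charDegree_pos χ₁.2
  have f2 := charDegree_pos χ₂.2
  have f3 := charDegree_pos χ₃.2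
  set a := charDegree (χ₁ : G → ℂ)
  set b := charDegree (χ₂ : G → ℂ)
  set d := charDegree (χ₃ : G → ℂ)
  have hrel : 1 + ε₁ * a + ε₂ * b + ε₃ * d = 0 := by
    have e : ((1 + ε₁ * a + ε₂ * b + ε₃ * d : ℤ) : ℂ) = ((0 : ℤ) : ℂ) := by
      push_cast; linear_combination hdeg
    exact_mod_cast e
  have hrelC : (1 : ℂ) + ε₁ * a + ε₂ * b + ε₃ * d = 0 := by exact_mod_cast hrel
  have hε' : (ε₁ : ℂ) * ε₁ = 1 ∧ (ε₂ : ℂ) * ε₂ = 1 ∧ (ε₃ : ℂ) * ε₃ = 1 := by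
    obtain ⟨u1, u2, u3⟩ := hε
    refine ⟨?_, ?_, ?_⟩
    · rcases u1 with rfl | rfl <;> simp
    · rcases u2 with rfl | rfl <;> simp
    · rcases u3 with rfl | rfl <;> simp
  have a0 : (a : ℂ) ≠ 0 := Nat.cast_ne_zero.2 f1.ne'
  have b0 : (b : ℂ) ≠ 0 := Nat.cast_ne_zero.2 f2.ne'
  have d0 : (d : ℂ) ≠ 0 := Nat.cast_ne_zero.2 f3.ne'
  refine ⟨o, c, hc0, hco, ?_, hC, hD, ⟨hodd χ₁ hm1, hodd χ₂ hm2, hodd χ₃ hm3⟩, hrel, ?_, ?_, ?_⟩
  · rcases Nat.eq_zero_or_pos o with h | h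
    · subst h
      have := Nat.card_pos (α := Subgroup.centralizer ({J} : Set G))
      omega
    · exact h
  · have e : (((Nat.card G : ℤ) * (((a : ℤ) + ε₁) * ((b : ℤ) + ε₂) * ((d : ℤ) + ε₃)) *
        (c : ℤ) ^ 2 : ℤ) : ℂ) = ((32 * (o : ℤ) ^ 3 * a * b * d : ℤ) : ℂ) := by
      push_cast
      have key : ((a : ℂ) + ε₁) * ((b : ℂ) + ε₂) * ((d : ℂ) + ε₃) =
          (1 + (ε₁ : ℂ) / a + ε₂ / b + ε₃ / d) * a * b * d := by
        field_simp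
        obtain ⟨u1, u2, u3⟩ := hε'
        linear_combination ((ε₁ : ℂ) * ε₂ * ε₃) * hrelC - (ε₂ : ℂ) * ε₃ * a * u1
          - (ε₁ : ℂ) * ε₃ * b * u2 - (ε₁ : ℂ) * ε₂ * d * u3
      rw [key]
      linear_combination ((a : ℂ) * b * d) * hmain
    exact_mod_cast e
  · linear_combination hfs
  · intro ψ hψ ψ' he
    have hS' : ψ' ∈ S := hconj ψ (by rcases hψ with rfl | rfl | rfl <;> assumption) ψ' he
    rw [hS] at hS'
    simp only [Finset.mem_insert, Finset.mem_singleton] at hS'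
    rcases hS' with rfl | h
    · exfalso
      have e : ∀ g, (ψ : G → ℂ) g = 1 := fun g => by
        have := congrFun he g
        rw [h1f] at this
        simpa using congrArg conj this.symm
      rcases hψ with rfl | rfl | rfl
      exacts [h1 (funext e), h2 (funext e), h3 (funext e)]
    · exact h

end Cfsg.Agent.Lib.Char
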