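import Cfsg.Agent.Lib.Char.FrobSchur
import Cfsg.Agent.Lib.Char.Clifford
import Cfsg.Agent.Lib.Char.BrauerPerm
import Cfsg.Agent.Lib.Char.Linear

/-!
# Strongly real characters above a normal subgroup of odd index
-/

set_option autoImplicit false

open Module
open scoped ComplexConjugate

namespace Cfsg.Agent.Lib.Char.OddIndexReal

open Cfsg Cfsg.Agent.Lib.Char

universe u

variable {G : Type u} [Group G] [Fintype G]

/-- The product formula `|G| χ g χ h = χ 1 ∑ₓ χ (x g x⁻¹ h)`. -/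
theorem mul_apply_eq {χ : G → ℂ} (hχ : IsIrrCharacter G χ) (g h : G) :
    (Nat.card G : ℂ) * χ g * χ h = χ 1 * ∑ x : G, χ (x * g * x⁻¹ * h) := by
  obtain ⟨n, ρ, hirr, rfl⟩ := hχ
  have := hirr
  set A : Module.End ℂ (Fin n → ℂ) := ∑ x : G, ρ (x * g * x⁻¹) with hA
  have hcomm : ∀ y, A * ρ y = ρ y * A := fun y => by
    simp only [hA, Finset.sum_mul, Finset.mul_sum, ← map_mul]
    exact (Fintype.sum_equiv (Equiv.mulLeft y) (fun x => ρ (y * (x * g * x⁻¹)))
      (fun x => ρ (x * g * x⁻¹ * y)) fun x => congrArg ρ (by rw [Equiv.coe_mulLeft]; group)).symm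
  obtain ⟨c, hc⟩ :=
    (Representation.IsIrreducible.algebraMap_intertwiningMap_bijective_of_isAlgClosed (ρ := ρ)).2
      ⟨A, fun y => hcomm y⟩
  have hc' : A = c • 1 := by
    have h' := congrArg Representation.IntertwiningMap.toLinearMap hc
    exact LinearMap.ext fun v => (congrArg (fun B : (Fin n → ℂ) →ₗ[ℂ] (Fin n → ℂ) => B v) h').symm
  have h1 : (Nat.card G : ℂ) * ρ.character g = c * n := by
    have ht := congrArg (LinearMap.trace ℂ (Fin n → ℂ)) hc'
    rw [hA, map_sum, map_smul, LinearMap.trace_one, Module.finrank_fin_fun, smul_eq_mul] at ht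
    rw [← ht]
    show _ = ∑ x : G, ρ.character (x * g * x⁻¹)
    rw [Finset.sum_congr rfl (g := fun _ => ρ.character g) fun x _ => ρ.char_conj g x,
      Finset.sum_const, Finset.card_univ, nsmul_eq_mul, Nat.card_eq_fintype_card]
  have h2 : ∑ x : G, ρ.character (x * g * x⁻¹ * h) = c * ρ.character h := by
    have ht := congrArg (fun B => LinearMap.trace ℂ (Fin n → ℂ) (B * ρ h)) hc'
    simp only [hA, Finset.sum_mul, ← map_mul, map_sum, smul_mul_assoc, one_mul, map_smul,
      smul_eq_mul] at ht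
    exact ht
  rw [h1, h2, Representation.char_one, Module.finrank_fin_fun]
  ring

variable (N : Subgroup G) [N.Normal] [Fintype N]

theorem mem_of_conj_mul_mem (hodd : Odd N.index) {g x : G} (h : x * g * x⁻¹ * g ∈ N) : g ∈ N := by
  have hc : IsConj (g : G ⧸ N) (g : G ⧸ N)⁻¹ := by
    refine isConj_iff.2 ⟨(x : G ⧸ N), ?_⟩
    rw [← QuotientGroup.mk_inv, ← QuotientGroup.mk_mul, ← QuotientGroup.mk_mul,
      eq_inv_iff_mul_eq_one, ← QuotientGroup.mk_mul, QuotientGroup.eq_one_iff]
    exact h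
  exact (QuotientGroup.eq_one_iff g).1 (eq_one_of_isConj_inv (G := G ⧸ N) hodd hc)

theorem mem_of_sq_mem (hodd : Odd N.index) {g : G} (h : g * g ∈ N) : g ∈ N :=
  mem_of_conj_mul_mem N hodd (x := 1) (by simpa using h)

/-- Off `N`, the weighted squares over a character of `N` cancel. -/
theorem sum_weight_sq_eq_zero (hodd : Odd N.index) (φ : N → ℂ) {g : G} (hg : g ∉ N) :
    ∑ χ : IrrCharacter G, classInner (fun n : N => (χ : G → ℂ) n) φ / (χ : G → ℂ) 1 *
      ((χ : G → ℂ) g * (χ : G → ℂ) g) = 0 := by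
  classical
  have hterm : ∀ χ : IrrCharacter G,
      classInner (fun n : N => (χ : G → ℂ) n) φ / (χ : G → ℂ) 1 *
        ((χ : G → ℂ) g * (χ : G → ℂ) g) =
      (Nat.card N : ℂ)⁻¹ * (Nat.card G : ℂ)⁻¹ * ∑ n : N, ∑ x : G,
        conj (φ n) * ((χ : G → ℂ) (x * g * x⁻¹ * g) * (χ : G → ℂ) n) := by
    intro χ
    have h1 := irr_degree_ne_zero χ.2
    have hG := card_ne_zero_complex G
    have h := mul_apply_eq χ.2 g g
    have h' : (χ : G → ℂ) g * (χ : G → ℂ) g =
        (Nat.card G : ℂ)⁻¹ * (χ : G → ℂ) 1 * ∑ x : G, (χ : G → ℂ) (x * g * x⁻¹ * g) := by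
      rw [mul_assoc (Nat.card G : ℂ)⁻¹, ← h, mul_assoc, inv_mul_cancel_left₀ hG]
    have hsum : ∑ n : N, ∑ x : G, conj (φ n) * ((χ : G → ℂ) (x * g * x⁻¹ * g) * (χ : G → ℂ) n) =
        (∑ n : N, (χ : G → ℂ) n * conj (φ n)) * ∑ x : G, (χ : G → ℂ) (x * g * x⁻¹ * g) := by
      rw [Finset.sum_mul_sum]
      exact Finset.sum_congr rfl fun n _ => Finset.sum_congr rfl fun x _ => by ring
    rw [hsum, h', classInner]
    field_simp
  rw [Finset.sum_congr rfl fun χ _ => hterm χ, ← Finset.mul_sum, Finset.sum_comm,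
    Finset.sum_eq_zero, mul_zero]
  intro n _
  rw [Finset.sum_comm]
  refine Finset.sum_eq_zero fun x _ => ?_
  rw [← Finset.mul_sum]
  have hz : ∑ χ : IrrCharacter G, (χ : G → ℂ) (x * g * x⁻¹ * g) * (χ : G → ℂ) n = 0 := by
    have h := sum_irr_mul_conj (x * g * x⁻¹ * g) ((n : G)⁻¹)
    rw [if_neg] at h
    · rw [← h]
      exact Finset.sum_congr rfl fun χ _ => by
        rw [char_inv (isCharacter_of_isIrr χ.2), Complex.conj_conj]
    · intro hc
      obtain ⟨c, hc⟩ := isConj_iff.1 hc.symm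
      refine hg (mem_of_conj_mul_mem N hodd (x := x) (hc ▸ ?_))
      exact (inferInstance : N.Normal).conj_mem _ (N.inv_mem n.2) c
  rw [hz, mul_zero]

/-- A strongly real character of a normal subgroup of odd index has a unique strongly real
character above it. -/
theorem unique_strongly_real (hodd : Odd N.index) {φ : N → ℂ} (hφ : IsIrrCharacter N φ)
    (hν : fsInd φ = 1) :
    ∃! χ : IrrCharacter G, fsInd (χ : G → ℂ) = 1 ∧
      classInner (fun n : N => (χ : G → ℂ) n) φ ≠ 0 := by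
  classical
  have hφreal : ∀ n, conj (φ n) = φ n := fun n => by
    rw [Complex.conj_eq_iff_im]
    by_contra h
    rw [(fsInd_irr hφ).2.2 ⟨n, h⟩] at hν
    exact zero_ne_one hν
  choose m hm using fun χ : IrrCharacter G =>
    classInner_natCast (isCharacter_restrict (isCharacter_of_isIrr χ.2) N) (isCharacter_of_isIrr hφ)
  set t := (orbit N φ).card with ht
  let w : IrrCharacter G → ℂ := fun χ =>
    (t : ℂ) * φ 1 * (classInner (fun n : N => (χ : G → ℂ) n) φ / (χ : G → ℂ) 1)
  let isRe : IrrCharacter G → Prop := fun χ => (fun g => conj ((χ : G → ℂ) g)) = (χ : G → ℂ)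
  have hw : ∀ χ, m χ ≠ 0 → w χ = 1 := by
    intro χ hne
    have hne' : classInner (fun n : N => (χ : G → ℂ) n) φ ≠ 0 := by
      rw [hm]; exact Nat.cast_ne_zero.2 hne
    have hd := clifford_degree N χ.2 hφ hne'
    rw [← card_orbit N φ (irr_degree_ne_zero hφ), ← ht] at hd
    show (t : ℂ) * φ 1 * _ = 1
    rw [mul_div_assoc', div_eq_one_iff_eq (irr_degree_ne_zero χ.2), hd]
    ring
  have hw0 : ∀ χ, m χ = 0 → w χ = 0 := fun χ h => by
    show (t : ℂ) * φ 1 * _ = 0
    rw [hm, h, Nat.cast_zero, zero_div, mul_zero]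
  have hre : ∀ χ : IrrCharacter G, classInner (χ : G → ℂ) (fun g => conj ((χ : G → ℂ) g)) =
      if isRe χ then 1 else 0 := fun χ => by
    rw [classInner_irr χ.2 (isIrrCharacter_conj χ.2)]
    exact if_congr ⟨fun h => h.symm, fun h => h.symm⟩ rfl rfl
  -- the weighted norm computed on `N` alone
  have hsum : ∑ χ : IrrCharacter G, w χ * classInner (χ : G → ℂ) (fun g => conj ((χ : G → ℂ) g)) =
      (Nat.card G : ℂ)⁻¹ * ∑ n : N, ∑ χ : IrrCharacter G,
        w χ * ((χ : G → ℂ) n * (χ : G → ℂ) n) := by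
    simp only [classInner, Complex.conj_conj]
    rw [Finset.sum_congr rfl fun χ _ => show w χ * ((Nat.card G : ℂ)⁻¹ *
        ∑ g : G, (χ : G → ℂ) g * (χ : G → ℂ) g) = (Nat.card G : ℂ)⁻¹ *
        ∑ g : G, w χ * ((χ : G → ℂ) g * (χ : G → ℂ) g) by rw [mul_left_comm, Finset.mul_sum _ _ (w χ)],
      ← Finset.mul_sum]
    congr 1
    rw [Finset.sum_comm]
    rw [← Finset.sum_subset (Finset.subset_univ ((Finset.univ : Finset G).filter (· ∈ N)))
      (fun g _ hg => by
        have hg' : g ∉ N := fun h => hg (Finset.mem_filter.2 ⟨Finset.mem_univ g, h⟩)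
        simp only [w, mul_assoc]
        rw [← Finset.mul_sum, ← Finset.mul_sum]
        have h0 := sum_weight_sq_eq_zero N hodd φ hg'
        rw [h0, mul_zero, mul_zero])]
    exact Finset.sum_subtype ((Finset.univ : Finset G).filter (· ∈ N)) (by simp)
      (fun g : G => ∑ χ : IrrCharacter G, w χ * ((χ : G → ℂ) g * (χ : G → ℂ) g))
  have hnorm : ∀ χ : IrrCharacter G, w χ * ∑ n : N, (χ : G → ℂ) n * (χ : G → ℂ) n =
      (Nat.card N : ℂ) * ((m χ : ℂ) * (m χ : ℂ) * t) := by
    intro χ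
    rcases eq_or_ne (m χ) 0 with h0 | h0
    · rw [hw0 χ h0, h0, zero_mul]
      simp
    rw [hw χ h0, one_mul]
    have hne' : classInner (fun n : N => (χ : G → ℂ) n) φ ≠ 0 := by
      rw [hm]; exact Nat.cast_ne_zero.2 h0
    have hcl := clifford N χ.2 hφ hne'
    rw [hm] at hcl
    have horb : ∀ ψ ∈ orbit N φ, IsIrrCharacter N ψ ∧ ∀ n, conj (ψ n) = ψ n := by
      intro ψ hψ
      obtain ⟨g, rfl⟩ := (mem_orbit N).1 hψ
      exact ⟨isIrrCharacter_conjChar N g hφ, fun n => hφreal _⟩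
    have hreal : ∀ n : N, conj ((χ : G → ℂ) n) = (χ : G → ℂ) n := fun n => by
      have e := congrFun hcl n
      simp only [Pi.smul_apply, smul_eq_mul, Finset.sum_apply] at e
      rw [e, map_mul, map_natCast, map_sum]
      congr 1
      exact Finset.sum_congr rfl fun ψ hψ => (horb ψ hψ).2 n
    have hn : classInner (fun n : N => (χ : G → ℂ) n) (fun n : N => (χ : G → ℂ) n) =
        (m χ : ℂ) * (m χ : ℂ) * t := by
      conv_lhs => rw [hcl]
      rw [classInner_smul_left, classInner_smul_right, map_natCast, classInner_sum_left,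
        Finset.sum_congr rfl (g := fun _ => (1 : ℂ)) fun ψ hψ => ?_]
      · rw [Finset.sum_const, nsmul_eq_mul, mul_one, mul_assoc, ht]
      · rw [classInner_sum_right, Finset.sum_congr rfl fun ψ' hψ' =>
          classInner_irr (horb ψ hψ).1 (horb ψ' hψ').1, Finset.sum_ite_eq, if_pos hψ]
    simp only [classInner, hreal] at hn
    rw [← hn, mul_inv_cancel_left₀ (card_ne_zero_complex N)]
  -- the norm of the induced character
  have hind : ∑ χ : IrrCharacter G, (m χ : ℂ) * (m χ : ℂ) =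
      (Nat.card N : ℂ)⁻¹ * (Nat.card (inertia N φ) : ℂ) := by
    rw [← classInner_indFun_self N hφ,
      classInner_eq_sum (isClassFunction_indFun N φ)]
    refine Finset.sum_congr rfl fun χ _ => ?_
    have e : classInner (indFun N φ) (χ : G → ℂ) = (m χ : ℂ) := by
      rw [classInner_conj_symm, classInner_indFun_right N φ (isClassFunction_of_isIrr χ.2), hm,
        map_natCast]
    rw [e, map_natCast]
  have hcount : ((Finset.univ.filter fun χ : IrrCharacter G => m χ ≠ 0 ∧ isRe χ).card : ℂ) = 1 := by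
    have h1 : ∑ χ : IrrCharacter G, w χ * classInner (χ : G → ℂ) (fun g => conj ((χ : G → ℂ) g)) =
        ((Finset.univ.filter fun χ : IrrCharacter G => m χ ≠ 0 ∧ isRe χ).card : ℂ) := by
      rw [← Finset.sum_boole]
      refine Finset.sum_congr rfl fun χ _ => ?_
      rw [hre]
      rcases eq_or_ne (m χ) 0 with h0 | h0
      · rw [hw0 χ h0, zero_mul, if_neg (fun h => h.1 h0)]
      · rw [hw χ h0, one_mul]
        exact if_congr ⟨fun h => ⟨h0, h⟩, fun h => h.2⟩ rfl rfl
    rw [← h1, hsum, Finset.sum_comm]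
    simp only [← Finset.mul_sum]
    rw [Finset.sum_congr rfl fun χ _ => hnorm χ, ← Finset.mul_sum, ← Finset.sum_mul, hind, ht,
      card_orbit N φ (irr_degree_ne_zero hφ), ← (inertia N φ).card_mul_index, Nat.cast_mul]
    have hN := card_ne_zero_complex N
    have hI := card_ne_zero_complex (inertia N φ)
    have hi : ((inertia N φ).index : ℂ) ≠ 0 :=
      Nat.cast_ne_zero.2 Subgroup.index_ne_zero_of_finite
    field_simp
  obtain ⟨χ₀, hχ₀⟩ := Finset.card_eq_one.1 (by exact_mod_cast hcount :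
    (Finset.univ.filter fun χ : IrrCharacter G => m χ ≠ 0 ∧ isRe χ).card = 1)
  have hmem : ∀ χ, (m χ ≠ 0 ∧ isRe χ) ↔ χ = χ₀ := fun χ => by
    have := Finset.ext_iff.1 hχ₀ χ
    simpa using this
  -- the indicator
  have hνsum : ∑ χ : IrrCharacter G, fsInd (χ : G → ℂ) * (m χ : ℂ) = 1 := by
    rw [← hν]
    have hr : ∀ n : N, ∑ χ : IrrCharacter G, fsInd (χ : G → ℂ) * (χ : G → ℂ) n =
        ∑ ψ : IrrCharacter N, fsInd (ψ : N → ℂ) * (ψ : N → ℂ) n := by
      intro n
      rw [← card_sqrt_eq_sum, ← card_sqrt_eq_sum, Nat.cast_inj]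
      refine Finset.card_bij' (fun s hs => ⟨s, mem_of_sq_mem N hodd
        ((Finset.mem_filter.1 hs).2 ▸ n.2)⟩) (fun s _ => (s : G)) ?_ ?_ ?_ ?_
      · intro s hs
        simp only [Finset.coe_filter, Finset.mem_filter, Finset.mem_univ, true_and, Set.mem_ofPred_eq] at hs ⊢
        exact Subtype.ext hs
      · intro s hs
        simp only [Finset.coe_filter, Finset.mem_filter, Finset.mem_univ, true_and, Set.mem_ofPred_eq] at hs ⊢
        exact congrArg Subtype.val hs
      · intros; rfl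
      · intros; rfl
    have h1 : classInner (fun n : N => ∑ χ : IrrCharacter G, fsInd (χ : G → ℂ) * (χ : G → ℂ) n) φ =
        ∑ χ : IrrCharacter G, fsInd (χ : G → ℂ) * (m χ : ℂ) := by
      simp only [← hm, classInner, Finset.mul_sum, Finset.sum_mul]
      rw [Finset.sum_comm]
      exact Finset.sum_congr rfl fun χ _ => Finset.sum_congr rfl fun n _ => by ring
    rw [← h1, funext hr, show (fun n : N => ∑ ψ : IrrCharacter N, fsInd (ψ : N → ℂ) * (ψ : N → ℂ) n) =
      ∑ ψ : IrrCharacter N, fsInd (ψ : N → ℂ) • (ψ : N → ℂ) from funext fun n => by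
        simp [Finset.sum_apply], classInner_sum_left]
    simp only [classInner_smul_left]
    rw [Finset.sum_eq_single (⟨φ, hφ⟩ : IrrCharacter N)]
    · rw [classInner_irr_self hφ, mul_one]
    · intro ψ _ hψ
      rw [classInner_irr_ne ψ.2 hφ fun h => hψ (Subtype.ext h), mul_zero]
    · intro h
      exact absurd (Finset.mem_univ _) h
  have hnotre : ∀ χ : IrrCharacter G, ¬ isRe χ → fsInd (χ : G → ℂ) = 0 := fun χ h => by
    refine (fsInd_irr χ.2).2.2 ?_
    by_contra hc
    push Not at hc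
    exact h (funext fun g => Complex.conj_eq_iff_im.2 (hc g))
  rw [Finset.sum_eq_single χ₀ (fun χ _ hne => by
    rcases eq_or_ne (m χ) 0 with h0 | h0
    · rw [h0, Nat.cast_zero, mul_zero]
    · rw [hnotre χ (fun h => hne ((hmem χ).1 ⟨h0, h⟩)), zero_mul])
    (fun h => absurd (Finset.mem_univ _) h)] at hνsum
  have hν0 : fsInd (χ₀ : G → ℂ) = 1 := by
    rcases (fsInd_irr χ₀.2).1 with h | h | h
    · rw [h, zero_mul] at hνsum
      exact absurd hνsum zero_ne_one
    · exact h
    · rw [h, neg_one_mul] at hνsum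
      have := congrArg Complex.re hνsum
      simp at this
      have h0 : (0 : ℝ) ≤ (m χ₀ : ℝ) := Nat.cast_nonneg _
      linarith
  refine ⟨χ₀, ⟨hν0, ?_⟩, ?_⟩
  · rw [hm]
    exact Nat.cast_ne_zero.2 ((hmem χ₀).2 rfl).1
  · rintro χ ⟨h1, h2⟩
    refine (hmem χ).1 ⟨fun h0 => h2 (by rw [hm, h0, Nat.cast_zero]), ?_⟩
    by_contra hre'
    rw [hnotre χ hre'] at h1
    exact zero_ne_one h1

end Cfsg.Agent.Lib.Char.OddIndexReal
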