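import Cfsg.Agent.Lib.Char.Order7920Tools
import Cfsg.Agent.S4502

/-!
# The characters of degree prime to eleven in a simple group of order 7920
-/

set_option autoImplicit false
set_option linter.unusedSectionVars false
set_option linter.style.haveILetI false

namespace Cfsg.Agent.Lib.Char.O7920

open Cfsg Cfsg.Agent.Lib Cfsg.Agent.Lib.Char Subgroup
open scoped ComplexConjugate

universe u

variable {G : Type u} [Group G] [Finite G]

theorem factorization_eq_one {p : ℕ} (hp : p.Prime) (hd : p ∣ 7920) (hd2 : ¬ p ^ 2 ∣ 7920) :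
    (7920 : ℕ).factorization p = 1 := by
  refine le_antisymm ?_ (hp.factorization_pos_of_dvd (by norm_num) hd)
  by_contra h
  exact hd2 ((hp.pow_dvd_iff_le_factorization (by norm_num)).2 (by omega))

theorem not_dvd_11 : ¬ 11 ^ 2 ∣ 7920 := by norm_num

theorem not_dvd_5 : ¬ 5 ^ 2 ∣ 7920 := by norm_num

theorem apply_eq_zero (hG : Nat.card G = 7920) {p : ℕ} (hp : p.Prime) (hd : p ∣ 7920)
    (hd2 : ¬ p ^ 2 ∣ 7920) (χ : IrrCharacter G) (hχ : p ∣ charDegree (χ : G → ℂ)) {x : G}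
    (hx : p ∣ orderOf x) : (χ : G → ℂ) x = 0 := by
  haveI := Fintype.ofFinite G
  exact apply_eq_zero_of_defect_zero χ.2 hp
    (by rw [hG, factorization_eq_one hp hd hd2, pow_one]; exact hχ) hx

/-- The principal character. -/
noncomputable def princ (G : Type u) [Group G] [Finite G] : IrrCharacter G := ⟨_, isIrrCharacter_one⟩

theorem princ_apply (g : G) : (princ G : G → ℂ) g = 1 := rfl

theorem princ_degree : charDegree (princ G : G → ℂ) = 1 := charDegree_one

theorem eq_princ (hperf : commutator G = ⊤) {χ : IrrCharacter G}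
    (h : charDegree (χ : G → ℂ) = 1) : χ = princ G := by
  have hc := card_charDegree_one (G := G)
  rw [hperf, index_top, Nat.card_eq_one_iff_unique] at hc
  haveI := hc.1
  exact congrArg Subtype.val
    (Subsingleton.elim (⟨χ, h⟩ : {χ : IrrCharacter G // charDegree (χ : G → ℂ) = 1})
      ⟨princ G, princ_degree⟩)

theorem one_lt_degree (hperf : commutator G = ⊤) {χ : IrrCharacter G} (h : χ ≠ princ G) :
    1 < charDegree (χ : G → ℂ) := by
  have h0 := charDegree_pos χ.2
  have h1 : charDegree (χ : G → ℂ) ≠ 1 := fun h' => h (eq_princ hperf h')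
  omega

/-- The complex conjugate character. -/
noncomputable def conjC (χ : IrrCharacter G) : IrrCharacter G := ⟨_, isIrrCharacter_conj χ.2⟩

theorem conjC_apply (χ : IrrCharacter G) (g : G) :
    (conjC χ : G → ℂ) g = conj ((χ : G → ℂ) g) := rfl

theorem conjC_degree (χ : IrrCharacter G) :
    charDegree (conjC χ : G → ℂ) = charDegree (χ : G → ℂ) := by
  refine charDegree_eq_of_apply_one ?_
  rw [conjC_apply, apply_one_eq_charDegree (isCharacter_of_isIrr χ.2), map_natCast]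

theorem exists_mem_ne_one {P : Subgroup G} {p : ℕ} (hp : p.Prime) (hP : Nat.card P = p) :
    ∃ x ∈ P, x ≠ 1 ∧ orderOf x = p := by
  haveI := Fact.mk hp
  obtain ⟨⟨x, hx⟩, ho⟩ := exists_prime_orderOf_dvd_card' (G := P) p (by rw [hP])
  rw [orderOf_mk] at ho
  exact ⟨x, hx, fun h => by rw [h, orderOf_one] at ho; exact hp.ne_one ho.symm, ho⟩

theorem card_classes_normalizer {p e : ℕ} [Fact p.Prime] (P : Sylow p G)
    (hP : Nat.card (P : Subgroup G) = p)
    (hC : centralizer ((P : Subgroup G) : Set G) = P)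
    (hN : Nat.card (normalizer ((P : Subgroup G) : Set G)) = p * e) :
    Nat.card (ConjClasses (normalizer ((P : Subgroup G) : Set G))) * e = e * e + (p - 1) := by
  set N := normalizer ((P : Subgroup G) : Set G) with hNdef
  haveI : ((P : Subgroup G).subgroupOf N).Normal := Subgroup.normal_in_normalizer
  refine card_classes_normal ((P : Subgroup G).subgroupOf N) ?_ ?_ hN
  · rw [Nat.card_congr (subgroupOfEquivOfLe le_normalizer).toEquiv, hP]
  · ext y
    rw [mem_subgroupOf, mem_centralizer_iff]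
    constructor
    · intro h
      refine hC.le ?_
      rw [mem_centralizer_iff]
      intro z hz
      exact congrArg Subtype.val (h ⟨z, le_normalizer hz⟩ (mem_subgroupOf.2 hz))
    · intro h z hz
      exact Subtype.ext (mem_centralizer_iff.1 (hC.ge h) _ (mem_subgroupOf.1 hz))

variable [IsSimpleGroup G]

/-- The number of characters of degree prime to eleven. -/
theorem card_eleven (hG : Nat.card G = 7920) [Fact (Nat.Prime 11)] (P : Sylow 11 G) :
    Nat.card {χ : IrrCharacter G // ¬ 11 ∣ charDegree (χ : G → ℂ)} = 7 := by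
  obtain ⟨hC, hN⟩ := eleven hG P
  rw [Cfsg.Agent.S4502.result 11 (by rw [hG]; norm_num) (by rw [hG]; norm_num) P]
  have := card_classes_normalizer (e := 5) P (card_sylow_eleven hG P) hC hN
  omega

/-- No element conjugates an element of order eleven to its inverse. -/
theorem not_isConj_inv (hG : Nat.card G = 7920) [Fact (Nat.Prime 11)] (P : Sylow 11 G) {x : G}
    (hx : x ∈ (P : Subgroup G)) (hx1 : x ≠ 1) : ¬ IsConj x x⁻¹ := by
  intro hcj
  obtain ⟨g, hg⟩ := isConj_iff.1 hcj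
  obtain ⟨hC, hN⟩ := eleven hG P
  have hP := card_sylow_eleven hG P
  have hgen : zpowers x = (P : Subgroup G) := eq_of_le_of_card_ge (zpowers_le.2 hx) (by
    rw [hP, Nat.card_zpowers]
    have h := orderOf_dvd_natCard (⟨x, hx⟩ : (P : Subgroup G))
    rw [hP, orderOf_mk] at h
    rcases (by norm_num : Nat.Prime 11).eq_one_or_self_of_dvd _ h with h' | h'
    · exact absurd (orderOf_eq_one_iff.1 h') hx1
    · exact h'.ge)
  have hgN : g ∈ normalizer ((P : Subgroup G) : Set G) := by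
    rw [← hgen]
    rw [mem_normalizer_iff]
    intro y
    have key : ∀ j : ℤ, g * x ^ j * g⁻¹ = x ^ (-j) := by
      intro j
      rw [← conj_zpow, hg, inv_zpow, zpow_neg]
    constructor
    · rintro ⟨j, rfl⟩
      exact ⟨-j, (key j).symm⟩
    · rintro ⟨j, hj⟩
      refine ⟨-j, ?_⟩
      have := key (-j)
      rw [neg_neg] at this
      exact mul_left_cancel (mul_right_cancel (this.trans hj))
  set h : normalizer ((P : Subgroup G) : Set G) := ⟨g, hgN⟩ with hh
  have hodd : Odd (orderOf g) := by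
    refine Odd.of_dvd_nat ?_ ((Subgroup.orderOf_coe h) ▸ orderOf_dvd_natCard h)
    rw [hN]; decide
  obtain ⟨j, hj⟩ := hodd
  have hsq : ∀ k : ℕ, (g ^ 2) ^ k * x * ((g ^ 2) ^ k)⁻¹ = x := by
    intro k
    induction k with
    | zero => simp
    | succ k ih =>
      rw [pow_succ' (g ^ 2)]
      calc g ^ 2 * (g ^ 2) ^ k * x * (g ^ 2 * (g ^ 2) ^ k)⁻¹
          = g * (g * ((g ^ 2) ^ k * x * ((g ^ 2) ^ k)⁻¹) * g⁻¹) * g⁻¹ := by group
        _ = g * x⁻¹ * g⁻¹ := by rw [ih, hg]
        _ = (g * x * g⁻¹)⁻¹ := by group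
        _ = x := by rw [hg, inv_inv]
  have h2 := hsq (j + 1)
  rw [← pow_mul, show 2 * (j + 1) = (2 * j + 1) + 1 by ring, pow_succ, ← hj, pow_orderOf_eq_one,
    one_mul, hg] at h2
  have hxx : orderOf x ∣ 2 := orderOf_dvd_of_pow_eq_one (by
    rw [pow_two]; nth_rewrite 1 [← h2]; exact inv_mul_cancel x)
  have h3 := orderOf_dvd_natCard (⟨x, hx⟩ : (P : Subgroup G))
  rw [hP, orderOf_mk] at h3
  rcases (by norm_num : Nat.Prime 11).eq_one_or_self_of_dvd _ h3 with h' | h'
  · exact hx1 (orderOf_eq_one_iff.1 h')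
  · rw [h'] at hxx; norm_num at hxx

/-- The trace and norm of a character value at an element of order eleven. -/
theorem value_data (hG : Nat.card G = 7920) [Fact (Nat.Prime 11)] (P : Sylow 11 G) {x : G}
    (hx : x ∈ (P : Subgroup G)) (hx1 : x ≠ 1) (χ : IrrCharacter G) :
    ∃ A N : ℤ, (χ : G → ℂ) x + conj ((χ : G → ℂ) x) = A ∧
      (χ : G → ℂ) x * conj ((χ : G → ℂ) x) = N ∧
      (11 : ℤ) ∣ A - 2 * charDegree (χ : G → ℂ) ∧
      (11 : ℤ) ∣ N - (charDegree (χ : G → ℂ) : ℤ) ^ 2 ∧ A ^ 2 ≤ 4 * N ∧ 0 ≤ N ∧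
      (conj ((χ : G → ℂ) x) = (χ : G → ℂ) x →
        ∃ v : ℤ, (χ : G → ℂ) x = v ∧ A = 2 * v ∧ N = v ^ 2 ∧ (11 : ℤ) ∣ v - charDegree (χ : G → ℂ)) ∧
      (conj ((χ : G → ℂ) x) ≠ (χ : G → ℂ) x → 11 ≤ 4 * N - A ^ 2) := by
  classical
  haveI := Fintype.ofFinite G
  obtain ⟨hC, hN⟩ := eleven hG P
  have hP := card_sylow_eleven hG P
  have hc := isCharacter_of_isIrr χ.2
  set d := charDegree (χ : G → ℂ) with hd
  set v := (χ : G → ℂ) x with hv
  have hvi : IsIntegral ℤ v := char_isIntegral hc x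
  have hvci : IsIntegral ℤ (conj v) := by rw [hv, ← char_inv hc]; exact char_isIntegral hc _
  obtain ⟨m, hm⟩ := sum_two (p := 11) (e := 5) (by norm_num) (by norm_num) (by decide) _ hP hC hN
    hx hx1 hc
  rw [apply_one_eq_charDegree hc, ← hd, ← hv] at hm
  obtain ⟨A, hA⟩ := exists_int_of_mul (hvi.add hvci) (a := 11 * (m : ℤ) - d) (b := 5) (by norm_num)
    (by push_cast at hm ⊢; linear_combination hm)
  obtain ⟨m', hm'⟩ := sum_two (p := 11) (e := 5) (by norm_num) (by norm_num) (by decide) _ hP hC hN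
    hx hx1 (isCharacter_mul hc (isCharacter_conj hc))
  simp only [Pi.mul_apply] at hm'
  rw [apply_one_eq_charDegree hc, ← hd, ← hv, map_natCast, map_mul, Complex.conj_conj] at hm'
  obtain ⟨N, hN'⟩ := exists_int_of_mul (hvi.mul hvci) (a := 11 * (m' : ℤ) - d * d) (b := 10)
    (by norm_num) (by push_cast at hm' ⊢; linear_combination hm')
  have hA11 : (d : ℤ) + 5 * A = 11 * m := by
    have : ((d : ℂ) + 5 * A) = 11 * m := by rw [← hA]; push_cast at hm; linear_combination hm
    exact_mod_cast this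
  have hN11 : (d : ℤ) * d + 10 * N = 11 * m' := by
    have : ((d : ℂ) * d + 10 * N) = 11 * m' := by rw [← hN']; push_cast at hm'; linear_combination hm'
    exact_mod_cast this
  have him : ((4 * N - A ^ 2 : ℤ) : ℝ) = 4 * v.im ^ 2 := by
    have h1 : ((N : ℤ) : ℂ).re = v.re * v.re + v.im * v.im := by
      rw [← hN', Complex.mul_re, Complex.conj_re, Complex.conj_im]; ring
    have h2 : ((A : ℤ) : ℂ).re = v.re + v.re := by rw [← hA, Complex.add_re, Complex.conj_re]
    rw [Complex.intCast_re] at h1 h2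
    push_cast
    rw [h1, h2]; ring
  have hnn : A ^ 2 ≤ 4 * N := by
    have : (0 : ℝ) ≤ ((4 * N - A ^ 2 : ℤ) : ℝ) := by rw [him]; positivity
    rw [Int.cast_nonneg_iff] at this
    omega
  have hdA : (11 : ℤ) ∣ A - 2 * d := ⟨A - 2 * (m : ℤ), by omega⟩
  have hdN : (11 : ℤ) ∣ N - (d : ℤ) ^ 2 := ⟨N - (m' : ℤ), by rw [pow_two]; omega⟩
  have hN0 : 0 ≤ N := by nlinarith [sq_nonneg A]
  refine ⟨A, N, hA, hN', ?_, hdN, hnn, hN0, ?_, ?_⟩
  · exact Int.dvd_of_emod_eq_zero (by omega)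
  · intro hr
    obtain ⟨r, hr'⟩ := exists_int_of_mul hvi (a := A) (b := 2) (by norm_num)
      (by rw [← hA, hr]; push_cast; ring)
    have e1 : A = 2 * r := by
      have : (A : ℂ) = 2 * r := by rw [← hA, hr, hr']; ring
      exact_mod_cast this
    refine ⟨r, hr', e1, ?_, ?_⟩
    · have : (N : ℂ) = (r : ℂ) ^ 2 := by rw [← hN', hr, hr']; ring
      exact_mod_cast this
    · exact Int.dvd_of_emod_eq_zero (by omega)
  · intro hnr
    have hne : v.im ≠ 0 := fun h => hnr (Complex.ext (by simp) (by simp [h]))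
    have hpos : (0 : ℝ) < ((4 * N - A ^ 2 : ℤ) : ℝ) := by rw [him]; positivity
    rw [Int.cast_pos] at hpos
    have hdiv : (11 : ℤ) ∣ 4 * N - A ^ 2 := by
      obtain ⟨r, hr⟩ := hdN
      obtain ⟨s, hs⟩ : (11 : ℤ) ∣ A - 2 * d := Int.dvd_of_emod_eq_zero (by omega)
      refine ⟨4 * r - s * (A + 2 * d), ?_⟩
      linear_combination 4 * hr - (A + 2 * (d : ℤ)) * hs
    exact Int.le_of_dvd hpos hdiv

/-- Shape of the characters of degree prime to eleven. -/
theorem eleven_shape (hG : Nat.card G = 7920) [Fact (Nat.Prime 11)] (P : Sylow 11 G) {x : G}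
    (hx : x ∈ (P : Subgroup G)) (hx1 : x ≠ 1) [Fintype G] [DecidableEq (IrrCharacter G)] :
    ∃ (χ : IrrCharacter G) (R : Finset (IrrCharacter G)) (A : ℤ),
      conjC χ ≠ χ ∧ χ ≠ princ G ∧ conjC χ ≠ princ G ∧ χ ∉ R ∧ conjC χ ∉ R ∧ princ G ∉ R ∧
      R.card = 4 ∧ (A = 1 ∨ A = -1) ∧
      (χ : G → ℂ) x + conj ((χ : G → ℂ) x) = A ∧
      (χ : G → ℂ) x * conj ((χ : G → ℂ) x) = 3 ∧
      (11 : ℤ) ∣ A - 2 * charDegree (χ : G → ℂ) ∧
      (∀ ψ ∈ R, ∃ v : ℤ, (ψ : G → ℂ) x = v ∧ (v = 1 ∨ v = -1) ∧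
        (11 : ℤ) ∣ v - charDegree (ψ : G → ℂ) ∧ 1 < charDegree (ψ : G → ℂ)) ∧
      (Finset.univ.filter fun ψ : IrrCharacter G => ¬ 11 ∣ charDegree (ψ : G → ℂ)) =
        insert (princ G) (insert χ (insert (conjC χ) R)) := by
  classical
  obtain ⟨hC, hN⟩ := eleven hG P
  have hP := card_sylow_eleven hG P
  have hxo : 11 ∣ orderOf x := by
    have h := orderOf_dvd_natCard (⟨x, hx⟩ : (P : Subgroup G))
    rw [hP, orderOf_mk] at h
    rcases (by norm_num : Nat.Prime 11).eq_one_or_self_of_dvd _ h with h' | h'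
    · exact absurd (orderOf_eq_one_iff.1 h') hx1
    · rw [h']
  have hxG : 11 ∣ 7920 := by norm_num
  set S := Finset.univ.filter fun ψ : IrrCharacter G => ¬ 11 ∣ charDegree (ψ : G → ℂ) with hS
  have hScard : S.card = 7 := by
    rw [hS, ← Fintype.card_subtype, ← Nat.card_eq_fintype_card, card_eleven hG P]
  choose A N hA hN' hdA hdN hle hN0 hreal hnreal using value_data hG P hx hx1
  have hsum : ∑ ψ ∈ S, N ψ = 11 := by
    have h := sum_norm x
    rw [centralizer_singleton_eq (by norm_num) _ hP hx hx1, hC, hP] at h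
    rw [← Finset.sum_subset (Finset.subset_univ S) fun ψ _ hψ => by
      rw [apply_eq_zero hG (by norm_num) hxG not_dvd_11 ψ
        (by simpa [hS] using hψ) hxo, zero_mul]] at h
    rw [Finset.sum_congr rfl fun ψ _ => hN' ψ] at h
    exact_mod_cast h
  have hpos : ∀ ψ ∈ S, 1 ≤ N ψ := by
    intro ψ hψ
    have h1 : ¬ 11 ∣ charDegree (ψ : G → ℂ) := by simpa [hS] using hψ
    by_contra hlt
    have h0 : N ψ = 0 := by have := hN0 ψ; omega
    have := hdN ψ
    rw [h0, zero_sub, dvd_neg] at this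
    exact h1 (Int.natCast_dvd_natCast.1 ((by norm_num : Prime (11 : ℤ)).dvd_of_dvd_pow this))
  have h3 : ∀ ψ : IrrCharacter G, conj ((ψ : G → ℂ) x) ≠ (ψ : G → ℂ) x → 3 ≤ N ψ := fun ψ h => by
    have := hnreal ψ h
    have := sq_nonneg (A ψ)
    omega
  obtain ⟨χ, hχ⟩ : ∃ χ : IrrCharacter G, conj ((χ : G → ℂ) x) ≠ (χ : G → ℂ) x := by
    by_contra hc
    push Not at hc
    refine not_isConj_inv hG P hx hx1 ((isConj_iff_forall_irr _ _).2 fun ψ => ?_)
    rw [char_inv (isCharacter_of_isIrr ψ.2), hc]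
  have hmem : ∀ ψ : IrrCharacter G, (ψ : G → ℂ) x ≠ 0 → ψ ∈ S := by
    intro ψ h
    simp only [hS, Finset.mem_filter, Finset.mem_univ, true_and]
    exact fun hd => h (apply_eq_zero hG (by norm_num) hxG not_dvd_11 ψ hd hxo)
  have hχ' : conj ((conjC χ : G → ℂ) x) ≠ (conjC χ : G → ℂ) x := by
    rw [conjC_apply, Complex.conj_conj]; exact fun h => hχ h.symm
  have hne : conjC χ ≠ χ := fun h => hχ (by rw [← conjC_apply, h])
  have hp1 : χ ≠ princ G := fun h => hχ (by rw [h, princ_apply, map_one])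
  have hp2 : conjC χ ≠ princ G := fun h => hχ' (by rw [h, princ_apply, map_one])
  have hχS : χ ∈ S := hmem χ fun h => hχ (by rw [h, map_zero])
  have hχS' : conjC χ ∈ S := hmem _ fun h => hχ' (by rw [h, map_zero])
  have hpS : princ G ∈ S := hmem _ (by rw [princ_apply]; exact one_ne_zero)
  set R := ((S.erase (princ G)).erase χ).erase (conjC χ) with hR
  have e1 := Finset.add_sum_erase S N hpS
  have e2 := Finset.add_sum_erase (S.erase (princ G)) N (Finset.mem_erase.2 ⟨hp1, hχS⟩)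
  have e3 := Finset.add_sum_erase ((S.erase (princ G)).erase χ) N
    (Finset.mem_erase.2 ⟨hne, Finset.mem_erase.2 ⟨hp2, hχS'⟩⟩)
  rw [← hR] at e3
  have hRcard : R.card = 4 := by
    rw [hR, Finset.card_erase_of_mem (Finset.mem_erase.2 ⟨hne, Finset.mem_erase.2 ⟨hp2, hχS'⟩⟩),
      Finset.card_erase_of_mem (Finset.mem_erase.2 ⟨hp1, hχS⟩), Finset.card_erase_of_mem hpS, hScard]
  have hRS : ∀ ψ ∈ R, ψ ∈ S := fun ψ h =>
    Finset.mem_of_mem_erase (Finset.mem_of_mem_erase (Finset.mem_of_mem_erase h))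
  have hRone : ∀ ψ ∈ R, N ψ = 1 := by
    intro ψ hψ
    have h := Finset.add_sum_erase R N hψ
    have hge : ((R.erase ψ).card : ℤ) ≤ ∑ φ ∈ R.erase ψ, N φ := by
      rw [Finset.card_eq_sum_ones, Nat.cast_sum]
      exact Finset.sum_le_sum fun φ hφ => by
        simpa using hpos φ (hRS φ (Finset.mem_of_mem_erase hφ))
    rw [Finset.card_erase_of_mem hψ, hRcard] at hge
    have := hpos _ (hRS ψ hψ)
    have := hpos _ hpS
    have := h3 _ hχ
    have := h3 _ hχ'
    push_cast at hge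
    omega
  have hgeR : (4 : ℤ) ≤ ∑ φ ∈ R, N φ := by
    rw [Finset.sum_congr rfl hRone, Finset.sum_const, hRcard]; norm_num
  have hN3 : N χ = 3 := by
    have := hpos _ hpS
    have := h3 _ hχ
    have := h3 _ hχ'
    omega
  have hA3 : A χ = 1 ∨ A χ = -1 := by
    have h := hnreal χ hχ
    have hlo : -1 ≤ A χ := by nlinarith
    have hhi : A χ ≤ 1 := by nlinarith
    rcases (by omega : A χ = 1 ∨ A χ = -1 ∨ A χ = 0) with h' | h' | h'
    · exact Or.inl h'
    · exact Or.inr h'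
    · exfalso
      have hd := hdA χ
      have hd' := hdN χ
      rw [h', zero_sub, dvd_neg] at hd
      have hd2 : (11 : ℤ) ∣ charDegree (χ : G → ℂ) :=
        ((by norm_num : Prime (11 : ℤ)).dvd_mul.1 hd).resolve_left (by norm_num)
      exact (show ¬ 11 ∣ charDegree (χ : G → ℂ) by simpa [hS] using hχS) (Int.natCast_dvd_natCast.1 hd2)
  refine ⟨χ, R, A χ, hne, hp1, hp2, ?_, ?_, ?_, hRcard, hA3, hA χ, ?_, hdA χ, ?_, ?_⟩
  · exact fun h => Finset.notMem_erase χ _ (Finset.mem_of_mem_erase h)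
  · exact Finset.notMem_erase _ _
  · exact fun h => Finset.notMem_erase _ _ (Finset.mem_of_mem_erase (Finset.mem_of_mem_erase h))
  · rw [hN' χ, hN3]; norm_num
  · intro ψ hψ
    have hψreal : conj ((ψ : G → ℂ) x) = (ψ : G → ℂ) x := by
      by_contra h
      have := h3 ψ h
      rw [hRone ψ hψ] at this
      omega
    obtain ⟨v, hv, -, hNv, hd⟩ := hreal ψ hψreal
    refine ⟨v, hv, ?_, hd, one_lt_degree (perfect hG) fun h => ?_⟩
    · rw [hRone ψ hψ] at hNv
      exact sq_eq_one_iff.1 hNv.symm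
    · exact Finset.notMem_erase (princ G) _
        (Finset.mem_of_mem_erase (Finset.mem_of_mem_erase (h ▸ hψ)))
  · rw [hR, Finset.insert_erase (Finset.mem_erase.2 ⟨hne, Finset.mem_erase.2 ⟨hp2, hχS'⟩⟩),
      Finset.insert_erase (Finset.mem_erase.2 ⟨hp1, hχS⟩), Finset.insert_erase hpS]

end Cfsg.Agent.Lib.Char.O7920
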