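import Cfsg.Agent.Lib.Char.Order7920Table

/-!
# Involutions in a simple group of order 7920
-/

set_option autoImplicit false
set_option linter.unusedSectionVars false
set_option linter.style.haveILetI false

namespace Cfsg.Agent.Lib.Char.O7920

open Cfsg Cfsg.Agent.Lib Cfsg.Agent.Lib.Char Cfsg.Agent.Lib.CharTools Subgroup
open scoped ComplexConjugate

universe u

variable {G : Type u} [Group G] [Finite G]

/-- If no product of conjugates of `a` and of `b` is conjugate to `c`, the class sum vanishes. -/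
theorem sum_class_eq_zero [Fintype G] {a b c : G}
    (h : ∀ u v : G, IsConj u a → IsConj v b → ¬ IsConj (u * v) c) :
    ∑ χ : IrrCharacter G,
      (χ : G → ℂ) a * (χ : G → ℂ) b * conj ((χ : G → ℂ) c) / (χ : G → ℂ) 1 = 0 := by
  classical
  set K : ℂ := ((centralizer ({a} : Set G)).index : ℂ) * ((centralizer ({b} : Set G)).index : ℂ)
    with hK
  have h0 : K * ∑ χ : IrrCharacter G,
      (χ : G → ℂ) a * (χ : G → ℂ) b * conj ((χ : G → ℂ) c) / (χ : G → ℂ) 1 = 0 := by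
    calc K * ∑ χ : IrrCharacter G,
          (χ : G → ℂ) a * (χ : G → ℂ) b * conj ((χ : G → ℂ) c) / (χ : G → ℂ) 1
        = ∑ χ : IrrCharacter G,
          (∑ u : G, ∑ v : G, classInd a u * classInd b v * (χ : G → ℂ) (u * v)) *
            conj ((χ : G → ℂ) c) := by
          rw [Finset.mul_sum]
          refine Finset.sum_congr rfl fun χ _ => ?_
          rw [sum_classes_mul χ.2, hK]; ring
      _ = ∑ u : G, ∑ v : G, classInd a u * classInd b v *
            ∑ χ : IrrCharacter G, (χ : G → ℂ) (u * v) * conj ((χ : G → ℂ) c) := by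
          simp only [Finset.sum_mul, Finset.mul_sum]
          rw [Finset.sum_comm]
          refine Finset.sum_congr rfl fun u _ => ?_
          rw [Finset.sum_comm]
          exact Finset.sum_congr rfl fun v _ => Finset.sum_congr rfl fun χ _ => by ring
      _ = 0 := by
          refine Finset.sum_eq_zero fun u _ => Finset.sum_eq_zero fun v _ => ?_
          by_cases hu : IsConj u a
          · by_cases hv : IsConj v b
            · rw [sum_orth (h u v hu hv), mul_zero]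
            · rw [classInd_of_not hv, mul_zero, zero_mul]
          · rw [classInd_of_not hu, zero_mul, zero_mul]
  refine (mul_eq_zero.1 h0).resolve_left ?_
  rw [hK]
  exact mul_ne_zero (Nat.cast_ne_zero.2 index_ne_zero_of_finite)
    (Nat.cast_ne_zero.2 index_ne_zero_of_finite)

theorem sum_ten [Fintype (IrrCharacter G)] {f : Fin 10 → IrrCharacter G} (hf : Function.Bijective f)
    (F : IrrCharacter G → ℂ) :
    ∑ χ, F χ = F (f 0) + F (f 1) + F (f 2) + F (f 3) + F (f 4) + F (f 5) + F (f 6) + F (f 7) +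
      F (f 8) + F (f 9) := by
  rw [← Fintype.sum_bijective f hf (fun i => F (f i)) F (fun _ => rfl)]
  simp only [Fin.sum_univ_succ, Fin.sum_univ_zero, Fin.succ_zero_eq_one, add_zero, ← add_assoc]
  rfl

private theorem solve : ∀ k1 k2 k3 : Fin 6, ∀ k : Fin 9,
    let v1 : ℤ := 10 - 4 * (k1.val : ℤ)
    let v2 : ℤ := 10 - 4 * (k2.val : ℤ)
    let v3 : ℤ := 10 - 4 * (k3.val : ℤ)
    let c : ℤ := 16 - 4 * (k.val : ℤ)
    let b : ℤ := v1 + v2 + v3 + c - 1
    720 - 72 * (v1 * v1 + v2 * v2 + v3 * v3) + 16 * (b * b) - 45 * (c * c) = 0 →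
    ∀ l : Fin 6,
      let w1 : ℤ := 11 - 4 * (l.val : ℤ)
      let w4 : ℤ := w1 + 1 + 2 * c
      let w5 : ℤ := -(1 + 10 * (v1 + v2 + v3) + 45 * b + 32 * c + 11 * w1 + 44 * w4) / 55
      55 ∣ -(1 + 10 * (v1 + v2 + v3) + 45 * b + 32 * c + 11 * w1 + 44 * w4) →
      (1 + (v1 * v1 + v2 * v2 + v3 * v3) + b * b + 2 * (c * c) + w1 * w1 + w4 * w4 + w5 * w5)
        ∣ (7920 : ℤ) →
      ((v1 = 2 ∧ v2 = -2 ∧ v3 = -2) ∨ (v1 = -2 ∧ v2 = 2 ∧ v3 = -2) ∨ (v1 = -2 ∧ v2 = -2 ∧ v3 = 2)) ∧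
        c = 0 ∧ w1 = 3 := by
  decide +kernel

variable [IsSimpleGroup G]

/-- The column of an involution. -/
theorem involution_column (hG : Nat.card G = 7920) {f : Fin 10 → IrrCharacter G} {x y : G}
    (hbij : Function.Bijective f) (hdeg : ∀ i, charDegree (f i : G → ℂ) = degList i)
    (h0 : f 0 = princ G) (h6 : f 6 = conjC (f 5)) (hxo : orderOf x = 11)
    (hxinv : ∀ g : G, g * x * g⁻¹ ≠ x⁻¹)
    (hx : ∀ i, ![true, true, true, true, true, false, false, true, true, true] i = true →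
        (f i : G → ℂ) x = ((![1, -1, -1, -1, 1, 0, 0, 0, 0, 0] i : ℤ) : ℂ))
    (hx5 : (f 5 : G → ℂ) x + conj ((f 5 : G → ℂ) x) = -1) (hyo : orderOf y = 5)
    (hy : ∀ i, (f i : G → ℂ) y = ((![1, 0, 0, 0, 0, 1, 1, 1, -1, 0] i : ℤ) : ℂ))
    {t : G} (ht : orderOf t = 2) :
    Nat.card (centralizer ({t} : Set G)) = 48 ∧ ∃ v1 v2 v3 : ℤ,
      ((v1 = 2 ∧ v2 = -2 ∧ v3 = -2) ∨ (v1 = -2 ∧ v2 = 2 ∧ v3 = -2) ∨ (v1 = -2 ∧ v2 = -2 ∧ v3 = 2)) ∧
      ∀ i, (f i : G → ℂ) t = ((![1, v1, v2, v3, -3, 0, 0, 3, 4, -1] i : ℤ) : ℂ) := by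
  classical
  haveI := Fintype.ofFinite G
  have hk : ∀ i, ∃ k : ℕ, (f i : G → ℂ) t = (((degList i : ℤ) - 4 * k : ℤ) : ℂ) ∧
      2 * k ≤ degList i := by
    intro i
    obtain ⟨k, hk, hle⟩ := exists_mod_four (perfect hG) (f i) ht
    rw [hdeg] at hk hle
    exact ⟨k, by rw [hk]; push_cast; ring, hle⟩
  choose k hk hkle using hk
  obtain ⟨w, hw, hwdef⟩ : ∃ w : Fin 10 → ℤ, (∀ i, (f i : G → ℂ) t = (w i : ℂ)) ∧
      ∀ i, w i = (degList i : ℤ) - 4 * k i := ⟨_, hk, fun _ => rfl⟩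
  have hw0 : w 0 = 1 := by
    have h := hw 0
    rw [h0, princ_apply] at h
    exact_mod_cast h.symm
  have hw56 : w 6 = w 5 := by
    have h := hw 6
    rw [h6, conjC_apply, hw 5, map_intCast] at h
    exact_mod_cast h.symm
  have hwc : ∀ i, conj ((f i : G → ℂ) t) = (w i : ℂ) := fun i => by rw [hw i, map_intCast]
  have hne : ∀ {g : G} {n : ℕ}, orderOf g = n → n ≠ 2 → ¬ IsConj t g := by
    intro g n hg hn h
    obtain ⟨a, ha⟩ := isConj_iff.1 h
    exact hn (by rw [← hg, ← ha, show a * t * a⁻¹ = MulAut.conj a t from rfl,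
      (MulAut.conj a).orderOf_eq, ht])
  have hxv : ∀ i, ![true, true, true, true, true, false, false, true, true, true] i = true →
      conj ((f i : G → ℂ) x) = ((![1, -1, -1, -1, 1, 0, 0, 0, 0, 0] i : ℤ) : ℂ) := fun i hi => by
    rw [hx i hi, map_intCast]
  have hx6 : conj ((f 6 : G → ℂ) x) = (f 5 : G → ℂ) x := by
    rw [h6, conjC_apply, Complex.conj_conj]
  have hA : 1 - (w 1 + w 2 + w 3) + w 4 - w 5 = 0 := by
    have h := sum_orth (hne hxo (by norm_num))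
    rw [sum_ten hbij, hxv 0 rfl, hxv 1 rfl, hxv 2 rfl, hxv 3 rfl, hxv 4 rfl, hxv 7 rfl, hxv 8 rfl,
      hxv 9 rfl, hx6] at h
    simp only [hw, hw56, hw0] at h
    have : ((1 - (w 1 + w 2 + w 3) + w 4 - w 5 : ℤ) : ℂ) = 0 := by
      simp [Matrix.cons_val] at h
      push_cast
      linear_combination h - (w 5 : ℂ) * hx5
    exact_mod_cast this
  have hB : 1 + 2 * w 5 + w 7 - w 8 = 0 := by
    have h := sum_orth (hne hyo (by norm_num))
    rw [sum_ten hbij] at h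
    simp only [hw, hy, map_intCast, hw56, hw0] at h
    have : ((1 + 2 * w 5 + w 7 - w 8 : ℤ) : ℂ) = 0 := by
      simp [Matrix.cons_val] at h
      push_cast
      linear_combination h
    exact_mod_cast this
  have hd1 : ∀ i, (f i : G → ℂ) 1 = ((degList i : ℤ) : ℂ) := fun i => by
    rw [apply_one_eq_charDegree (isCharacter_of_isIrr (f i).2), hdeg, Int.cast_natCast]
  have hC : 1 + 10 * (w 1 + w 2 + w 3) + 45 * w 4 + 32 * w 5 + 11 * w 7 + 44 * w 8 + 55 * w 9 = 0 := by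
    have h := sum_orth (hne (g := (1 : G)) orderOf_one (by norm_num))
    rw [sum_ten hbij] at h
    simp only [hw, hd1, map_intCast, hw56, hw0] at h
    have : ((1 + 10 * (w 1 + w 2 + w 3) + 45 * w 4 + 32 * w 5 + 11 * w 7 + 44 * w 8 + 55 * w 9 : ℤ)
        : ℂ) = 0 := by
      simp [degList, Matrix.cons_val] at h
      push_cast
      linear_combination h
    exact_mod_cast this
  have hD : (1 + (w 1 * w 1 + w 2 * w 2 + w 3 * w 3) + w 4 * w 4 + 2 * (w 5 * w 5) + w 7 * w 7 +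
      w 8 * w 8 + w 9 * w 9 : ℤ) = Nat.card (centralizer ({t} : Set G)) := by
    have h := sum_norm t
    rw [sum_ten hbij] at h
    simp only [hw, map_intCast, hw56, hw0] at h
    have : ((1 + (w 1 * w 1 + w 2 * w 2 + w 3 * w 3) + w 4 * w 4 + 2 * (w 5 * w 5) + w 7 * w 7 +
      w 8 * w 8 + w 9 * w 9 : ℤ) : ℂ) = ((Nat.card (centralizer ({t} : Set G)) : ℤ) : ℂ) := by
      push_cast at h ⊢
      linear_combination h
    exact_mod_cast this
  have hE : 720 - 72 * (w 1 * w 1 + w 2 * w 2 + w 3 * w 3) + 16 * (w 4 * w 4) -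
      45 * (w 5 * w 5) = 0 := by
    have hno : ∀ u v : G, IsConj u t → IsConj v t → ¬ IsConj (u * v) x := by
      intro u v hu hv huv
      obtain ⟨h, hh⟩ := isConj_iff.1 huv
      have h2 : ∀ z : G, IsConj z t → z * z = 1 := by
        intro z hz
        obtain ⟨g, hg⟩ := isConj_iff.1 hz.symm
        have htt : t * t = 1 := by rw [← pow_two, ← ht, pow_orderOf_eq_one]
        rw [← hg]
        calc g * t * g⁻¹ * (g * t * g⁻¹) = g * (t * t) * g⁻¹ := by group
          _ = 1 := by rw [htt]; group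
      apply hxinv (h * u * h⁻¹)
      have huu := inv_eq_of_mul_eq_one_right (h2 u hu)
      have hvv := inv_eq_of_mul_eq_one_right (h2 v hv)
      rw [← hh]
      calc h * u * h⁻¹ * (h * (u * v) * h⁻¹) * (h * u * h⁻¹)⁻¹
          = h * (u * u * v * u⁻¹) * h⁻¹ := by group
        _ = h * (v⁻¹ * u⁻¹) * h⁻¹ := by rw [h2 u hu, one_mul, hvv]
        _ = (h * (u * v) * h⁻¹)⁻¹ := by group
    have h := sum_class_eq_zero hno
    rw [sum_ten hbij, hxv 0 rfl, hxv 1 rfl, hxv 2 rfl, hxv 3 rfl, hxv 4 rfl, hxv 7 rfl, hxv 8 rfl,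
      hxv 9 rfl, hx6] at h
    simp only [hw, hd1, hw56, hw0] at h
    have : ((720 - 72 * (w 1 * w 1 + w 2 * w 2 + w 3 * w 3) + 16 * (w 4 * w 4) -
        45 * (w 5 * w 5) : ℤ) : ℂ) = 0 := by
      simp [degList, Matrix.cons_val] at h
      push_cast
      linear_combination 720 * h - 45 * ((w 5 : ℂ) * (w 5 : ℂ)) * hx5
    exact_mod_cast this
  have hk1 : k 1 < 6 := by have := hkle 1; simp [degList] at this; omega
  have hk2 : k 2 < 6 := by have := hkle 2; simp [degList] at this; omega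
  have hk3 : k 3 < 6 := by have := hkle 3; simp [degList] at this; omega
  have hk5 : k 5 < 9 := by have := hkle 5; simp [degList] at this; omega
  have hk7 : k 7 < 6 := by have := hkle 7; simp [degList] at this; omega
  have e1 : w 1 = 10 - 4 * (k 1 : ℤ) := hwdef 1
  have e2 : w 2 = 10 - 4 * (k 2 : ℤ) := hwdef 2
  have e3 : w 3 = 10 - 4 * (k 3 : ℤ) := hwdef 3
  have e5 : w 5 = 16 - 4 * (k 5 : ℤ) := hwdef 5
  have e7 : w 7 = 11 - 4 * (k 7 : ℤ) := hwdef 7
  have e4 : w 4 = w 1 + w 2 + w 3 + w 5 - 1 := by omega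
  have e8 : w 8 = w 7 + 1 + 2 * w 5 := by omega
  have hdvd55 : (55 : ℤ) ∣ -(1 + 10 * (w 1 + w 2 + w 3) + 45 * w 4 + 32 * w 5 + 11 * w 7 +
      44 * w 8) := ⟨w 9, by omega⟩
  have e9 : w 9 = -(1 + 10 * (w 1 + w 2 + w 3) + 45 * w 4 + 32 * w 5 + 11 * w 7 + 44 * w 8) / 55 := by
    omega
  have hdvdM : (1 + (w 1 * w 1 + w 2 * w 2 + w 3 * w 3) + w 4 * w 4 + 2 * (w 5 * w 5) + w 7 * w 7 +
      w 8 * w 8 + w 9 * w 9 : ℤ) ∣ 7920 := by
    rw [hD]
    have h := Subgroup.card_subgroup_dvd_card (centralizer ({t} : Set G))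
    rw [hG] at h
    exact_mod_cast Int.natCast_dvd_natCast.2 h
  rw [e4, e1, e2, e3, e5] at hE
  rw [e8, e4, e7, e1, e2, e3, e5] at hdvd55
  rw [e9, e8, e4, e7, e1, e2, e3, e5] at hdvdM
  obtain ⟨hv, hc, hw7⟩ := solve ⟨k 1, hk1⟩ ⟨k 2, hk2⟩ ⟨k 3, hk3⟩ ⟨k 5, hk5⟩ hE ⟨k 7, hk7⟩ hdvd55 hdvdM
  simp only [← e1, ← e2, ← e3, ← e5, ← e7] at hv hc hw7
  have h4 : w 4 = -3 := by omega
  have h8 : w 8 = 4 := by omega
  have h9 : w 9 = -1 := by omega
  refine ⟨?_, w 1, w 2, w 3, hv, fun i => ?_⟩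
  · rw [hw7, h4, h8, h9, hc] at hD
    rcases hv with ⟨a, b, c⟩ | ⟨a, b, c⟩ | ⟨a, b, c⟩ <;> rw [a, b, c] at hD <;> omega
  · rw [hw i]
    fin_cases i <;> simp [hw0, hw56, h4, h8, h9, hc, hw7]

/-- Centralisers of involutions have order forty-eight. -/
theorem card_centralizer_involution (hG : Nat.card G = 7920) {t : G} (ht : orderOf t = 2) :
    Nat.card (centralizer ({t} : Set G)) = 48 := by
  obtain ⟨f, x, y, hbij, hdeg, h0, h6, hxo, hxinv, hx, hx5, hyo, hy, -⟩ := exists_table hG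
  exact (involution_column hG hbij hdeg h0 h6 hxo hxinv hx hx5 hyo hy ht).1

end Cfsg.Agent.Lib.Char.O7920
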