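import Cfsg.Agent.Lib.SmallSimple.Basic
import Cfsg.Agent.Lib.SmallSimple.Order459648
import Cfsg.Agent.Lib.Transfer.Hall
import Cfsg.Agent.Lib.Char.Orthogonality
import Cfsg.Agent.Lib.Char.Integral
import Mathlib.GroupTheory.Perm.Cycle.Type

/-!
# Sylow normalisers for the primes eleven and five in a simple group of order 7920
-/

set_option autoImplicit false
set_option linter.unusedSectionVars false
set_option linter.style.haveILetI false

namespace Cfsg.Agent.Lib.Char.O7920

open Subgroup Cfsg.Agent.Lib
open scoped commutatorElement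

universe u

variable {G : Type u} [Group G] [Finite G]

theorem nc [IsSimpleGroup G] (hG : Nat.card G = 7920) : ¬ IsMulCommutative G :=
  SmallSimple.not_isMulCommutative_of_card (by rw [hG]; norm_num)

theorem perfect [IsSimpleGroup G] (hG : Nat.card G = 7920) : commutator G = ⊤ :=
  SmallSimple.commutator_eq_top (nc hG)

theorem smul_iff {p : ℕ} (Q : Sylow p G) (g : G) :
    g • Q = Q ↔ g ∈ normalizer ((Q : Subgroup G) : Set G) :=
  Sylow.smul_eq_iff_mem_normalizer

theorem card_sylow_eleven (hG : Nat.card G = 7920) (P : Sylow 11 G) :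
    haveI : Fact (Nat.Prime 11) := ⟨by norm_num⟩
    Nat.card (P : Subgroup G) = 11 := by
  haveI : Fact (Nat.Prime 11) := ⟨by norm_num⟩
  exact (SmallSimple.card_sylow_subgroup P (k := 1) (m := 720) (by rw [hG]; norm_num) (by norm_num)).trans
    (pow_one _)

theorem card_sylow_five (hG : Nat.card G = 7920) (P : Sylow 5 G) :
    haveI : Fact (Nat.Prime 5) := ⟨by norm_num⟩
    Nat.card (P : Subgroup G) = 5 := by
  haveI : Fact (Nat.Prime 5) := ⟨by norm_num⟩
  exact (SmallSimple.card_sylow_subgroup P (k := 1) (m := 1584) (by rw [hG]; norm_num) (by norm_num)).trans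
    (pow_one _)

/-- A prime-order Sylow subgroup is not centralised by all of its normaliser. -/
theorem one_lt_ratio [IsSimpleGroup G] (hG : Nat.card G = 7920) {p : ℕ} [Fact p.Prime]
    (P : Sylow p G) (hp : p ∣ 7920) {C N : ℕ}
    (hC : Nat.card (centralizer ((P : Subgroup G) : Set G)) = C)
    (hN : Nat.card (normalizer ((P : Subgroup G) : Set G)) = N) : C ≠ N := by
  intro h
  apply SmallSimple.not_normalizer_le_centralizer (nc hG) P (hG ▸ hp)
  have hle : centralizer ((P : Subgroup G) : Set G) ≤ normalizer ((P : Subgroup G) : Set G) := by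
    intro x hx
    rw [mem_normalizer_iff]
    intro z
    constructor
    · intro hz
      rw [← mem_centralizer_iff.1 hx z hz, mul_inv_cancel_right]; exact hz
    · intro hz
      have h1 := mem_centralizer_iff.1 hx _ hz
      have : x * z * x⁻¹ = z := mul_left_cancel (h1.symm.trans (by group) : x * (x * z * x⁻¹) = x * z)
      exact this ▸ hz
  exact (eq_of_le_of_card_ge hle (by rw [hC, hN, h])).ge

/-- An involution commuting with a subgroup of order eleven fixes exactly one Sylow subgroup for
eleven, when there are twelve or forty-five of them; twelve is impossible. -/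
theorem fixed_points [IsSimpleGroup G] (hG : Nat.card G = 7920) [Fact (Nat.Prime 11)]
    (P : Sylow 11 G) (hn : Nat.card (Sylow 11 G) = 12 ∨ Nat.card (Sylow 11 G) = 45) {t : G}
    (ht : orderOf t = 2) (htC : t ∈ centralizer ((P : Subgroup G) : Set G)) :
    Nat.card (Sylow 11 G) = 45 ∧ ∀ Q : Sylow 11 G, t • Q = Q → Q = P := by
  classical
  haveI := Fintype.ofFinite (Sylow 11 G)
  set f := MulAction.toPermHom G (Sylow 11 G) with hf
  have hinj : Function.Injective f := by
    rw [← MonoidHom.ker_eq_bot_iff]
    refine ((inferInstance : f.ker.Normal).eq_bot_or_eq_top).resolve_right fun h => ?_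
    obtain ⟨g, hg⟩ : ∃ g : G, g ∉ normalizer ((P : Subgroup G) : Set G) := by
      by_contra hc
      push Not at hc
      exact SmallSimple.sylow_normalizer_ne_top (nc hG) P (by rw [hG]; norm_num)
        (eq_top_iff.2 fun g _ => hc g)
    have h1 : f g = 1 := MonoidHom.mem_ker.1 (h ▸ mem_top g)
    have h2 := congrArg (fun e : Equiv.Perm (Sylow 11 G) => e P) h1
    exact hg ((smul_iff _ _).1 h2)
  set σ := f t with hσ
  have hσ2 : σ ^ 2 = 1 := by rw [hσ, ← map_pow, ← ht, pow_orderOf_eq_one, map_one]
  have hσ1 : σ ≠ 1 := fun h => by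
    rw [show t = 1 from hinj (h.trans (map_one f).symm), orderOf_one] at ht
    omega
  have hsign := Equiv.Perm.sign_of_pow_two_eq_one hσ2
  have halt := SmallSimple.mem_alternating_of_perfect (perfect hG) f t
  rw [Equiv.Perm.mem_alternatingGroup] at halt
  rw [← hσ] at halt
  rw [halt] at hsign
  -- the fixed points
  let F := {Q : Sylow 11 G // t • Q = Q}
  have hFcard : Fintype.card (Function.fixedPoints σ) = Fintype.card F :=
    Fintype.card_congr (Equiv.refl _)
  obtain ⟨⟨x, hxP⟩, hx⟩ := exists_prime_orderOf_dvd_card' (G := (P : Subgroup G)) 11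
    (by rw [card_sylow_eleven hG P])
  rw [Subgroup.orderOf_mk] at hx
  have hcomm : t * x = x * t := (mem_centralizer_iff.1 htC x hxP).symm
  have hxi : x⁻¹ * t = t * x⁻¹ := by
    rw [inv_mul_eq_iff_eq_mul, ← mul_assoc, ← hcomm, mul_assoc, mul_inv_cancel, mul_one]
  let h : Function.End F := fun Q => ⟨x • Q.1, by rw [smul_smul, hcomm, ← smul_smul, Q.2]⟩
  have hiter : ∀ k : ℕ, ∀ Q : F, ((h ^ k) Q).1 = x ^ k • Q.1 := by
    intro k
    induction k with
    | zero => intro Q; rw [pow_zero, pow_zero, one_smul]; rfl
    | succ k ih =>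
      intro Q
      rw [pow_succ, pow_succ, ← smul_smul]
      exact ih (h Q)
  have hpow : h ^ 11 ^ 1 = 1 := by
    funext Q
    refine Subtype.ext ?_
    refine (hiter (11 ^ 1) Q).trans ?_
    show x ^ (11 ^ 1) • Q.1 = Q.1
    have h1 : x ^ (11 ^ 1) = 1 := by rw [pow_one, ← hx, pow_orderOf_eq_one]
    rw [h1, one_smul]
  have huniq : ∀ Q : Sylow 11 G, x • Q = Q → Q = P := by
    intro Q hQ
    have hxN : x ∈ normalizer ((Q : Subgroup G) : Set G) := (smul_iff _ _).1 hQ
    have hxQ : x ∈ (Q : Subgroup G) := by
      have h1 := IsPGroup.inf_normalizer_sylow (P := zpowers x)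
        (IsPGroup.of_card (n := 1) (by rw [Nat.card_zpowers, hx, pow_one])) Q
      exact (Subgroup.mem_inf.1 (h1.le (Subgroup.mem_inf.2 ⟨mem_zpowers x, hxN⟩))).2
    refine Sylow.ext ?_
    have e : ∀ R : Sylow 11 G, x ∈ (R : Subgroup G) → zpowers x = R := fun R hR =>
      eq_of_le_of_card_ge (zpowers_le.2 hR) (by rw [Nat.card_zpowers, hx, card_sylow_eleven hG R])
    rw [← e Q hxQ, ← e P hxP]
  have hPfix : t • P = P := (smul_iff P t).2 (by
    rw [mem_normalizer_iff]
    intro z
    have key : ∀ z ∈ (P : Subgroup G), t * z * t⁻¹ = z := fun z hz => by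
      rw [← mem_centralizer_iff.1 htC z hz, mul_inv_cancel_right]
    constructor
    · intro hz; rw [key z hz]; exact hz
    · intro hz
      have e := key _ hz
      have htt : t * t = 1 := by rw [← pow_two, ← ht, pow_orderOf_eq_one]
      have e' : t * (t * z * t⁻¹) * t⁻¹ = z := by
        rw [inv_eq_of_mul_eq_one_right htt, ← mul_assoc, ← mul_assoc, htt, one_mul, mul_assoc, htt,
          mul_one]
      rw [e'] at e
      rw [e]; exact hz)
  have hxP' : x • P = P := (smul_iff _ _).2 (Subgroup.le_normalizer hxP)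
  have hfix : Fintype.card (Function.fixedPoints h) = 1 := by
    refine Fintype.card_eq_one_iff.2 ⟨⟨⟨P, hPfix⟩, Subtype.ext hxP'⟩, fun Q => ?_⟩
    exact Subtype.ext (Subtype.ext (huniq _ (congrArg Subtype.val Q.2)))
  have hmod := Equiv.Perm.card_fixedPoints_modEq hpow
  rw [hfix, Nat.ModEq] at hmod
  have hle : Fintype.card F ≤ Fintype.card (Sylow 11 G) := Fintype.card_subtype_le _
  have hlt : Fintype.card F ≠ Fintype.card (Sylow 11 G) := by
    intro he
    apply hσ1
    ext1 Q
    have := Fintype.card_subtype_compl (fun Q : Sylow 11 G => t • Q = Q)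
    rw [he, Nat.sub_self] at this
    by_contra hQ
    exact (Fintype.card_eq_zero_iff.1 this).false ⟨Q, hQ⟩
  rw [hFcard] at hsign
  have heven : Even ((Fintype.card (Sylow 11 G) - Fintype.card F) / 2) := by
    by_contra ho
    rw [Nat.not_even_iff_odd] at ho
    rw [ho.neg_one_pow] at hsign
    exact absurd hsign (by decide)
  rw [Nat.even_iff] at heven
  have hcardS : Fintype.card (Sylow 11 G) = Nat.card (Sylow 11 G) := Nat.card_eq_fintype_card.symm
  have hdvd2 : (Fintype.card (Sylow 11 G) - Fintype.card F) % 2 = 0 := by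
    have h := Equiv.Perm.card_fixedPoints_modEq (f := ((⇑σ) : Function.End (Sylow 11 G))) (p := 2) (n := 1)
      (by
        funext Q
        show σ (σ Q) = Q
        rw [← Equiv.Perm.mul_apply, ← pow_two, hσ2]; rfl)
    rw [show Fintype.card (Function.fixedPoints ((⇑σ) : Function.End (Sylow 11 G))) = Fintype.card F from
      Fintype.card_congr (Equiv.refl _), Nat.ModEq] at h
    omega
  have h1 : Fintype.card F = 1 := by omega
  refine ⟨by omega, fun Q hQ => ?_⟩
  exact congrArg Subtype.val
    ((Fintype.card_le_one_iff.1 h1.le) (⟨Q, hQ⟩ : F) ⟨P, hPfix⟩)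

private theorem cases_eleven : ∀ k, k ≤ 720 → k ∣ 720 → 1 < k → k % 11 = 1 →
    k = 12 ∨ k = 45 ∨ k = 144 := by decide +kernel

private theorem cases_five : ∀ k ∈ Nat.divisors 1584, 1 < k → k % 5 = 1 → k % 11 = 0 →
    k = 11 ∨ k = 66 ∨ k = 176 ∨ k = 396 := by decide +kernel

theorem card_normalizer_eq (hG : Nat.card G = 7920) {p : ℕ} [Fact p.Prime] (P : Sylow p G) :
    Nat.card (normalizer ((P : Subgroup G) : Set G)) * Nat.card (Sylow p G) = 7920 := by
  rw [SmallSimple.card_sylow_eq_index P, card_mul_index, hG]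

/-- The Sylow normaliser at eleven. -/
theorem eleven [IsSimpleGroup G] (hG : Nat.card G = 7920) [Fact (Nat.Prime 11)] (P : Sylow 11 G) :
    centralizer ((P : Subgroup G) : Set G) = P ∧
      Nat.card (normalizer ((P : Subgroup G) : Set G)) = 55 := by
  classical
  have hP := card_sylow_eleven hG P
  obtain ⟨h1, h2, -⟩ := SmallSimple.card_sylow_facts (p := 11) (nc hG) (by rw [hG]; norm_num)
  have hdvd : Nat.card (Sylow 11 G) ∣ 720 := by
    have h := P.card_dvd_index
    have hidx : (P : Subgroup G).index = 720 := by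
      have := (P : Subgroup G).card_mul_index
      rw [hP, hG] at this; omega
    rwa [hidx] at h
  obtain ⟨i, hi, hNi⟩ := SmallSimple.exists_normalizer_index (p := 11) (P : Subgroup G) hP
  have hN := card_normalizer_eq hG P
  have hne := one_lt_ratio hG P (by norm_num) rfl rfl
  have hPC : (P : Subgroup G) ≤ centralizer ((P : Subgroup G) : Set G) := by
    have := isCyclic_of_prime_card hP
    intro a ha
    rw [mem_centralizer_iff]
    intro b hb
    exact congrArg Subtype.val ((IsCyclic.isMulCommutative).is_comm.comm (⟨b, hb⟩ : (P : Subgroup G)) ⟨a, ha⟩)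
  have hC11 := card_dvd_of_le hPC
  rw [hP] at hC11
  rcases cases_eleven _ (Nat.le_of_dvd (by norm_num) hdvd) hdvd h1 h2 with hn | hn | hn <;> rw [hn] at hN
  · exfalso
    have hN' : Nat.card (normalizer ((P : Subgroup G) : Set G)) = 660 := by omega
    have hi' : i ∈ Nat.divisors 10 := Nat.mem_divisors.2 ⟨hi, by norm_num⟩
    have h2C : 2 ∣ Nat.card (centralizer ((P : Subgroup G) : Set G)) := by
      fin_cases hi' <;> omega
    obtain ⟨t, ht⟩ := exists_prime_orderOf_dvd_card' 2 h2C
    have := (fixed_points hG P (Or.inl hn) (t := (t : G)) (by rwa [orderOf_coe]) t.2).1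
    omega
  · exfalso
    have hN' : Nat.card (normalizer ((P : Subgroup G) : Set G)) = 176 := by omega
    have hi' : i ∈ Nat.divisors 10 := Nat.mem_divisors.2 ⟨hi, by norm_num⟩
    have hC : Nat.card (centralizer ((P : Subgroup G) : Set G)) = 88 := by
      fin_cases hi' <;> omega
    set C := centralizer ((P : Subgroup G) : Set G) with hCdef
    set N := normalizer ((P : Subgroup G) : Set G) with hNdef
    obtain ⟨S0⟩ : Nonempty (Sylow 2 N) := inferInstance
    obtain ⟨S, hS⟩ : ∃ S : Sylow 2 G, (S : Subgroup G) = (S0 : Subgroup N).map N.subtype := by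
      refine ⟨Sylow.ofCard ((S0 : Subgroup N).map N.subtype) ?_, rfl⟩
      rw [card_map_of_injective N.subtype_injective,
        SmallSimple.card_sylow_subgroup S0 (k := 4) (m := 11) (by rw [hN']; norm_num) (by norm_num),
        hG]
      rw [show (7920 : ℕ) = 2 ^ 4 * 495 by norm_num, Nat.factorization_mul (by norm_num) (by norm_num),
        Finsupp.add_apply, Nat.prime_two.factorization_pow, Finsupp.single_eq_same,
        Nat.factorization_eq_zero_of_not_dvd (show ¬ 2 ∣ 495 by norm_num), add_zero]
    have hSN : (S : Subgroup G) ≤ N := hS ▸ map_subtype_le _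
    have hScard : Nat.card (S : Subgroup G) = 16 :=
      (SmallSimple.card_sylow_subgroup S (k := 4) (m := 495) (by rw [hG]; norm_num) (by norm_num))
    have hnotle : ¬ (S : Subgroup G) ≤ C := fun h => by
      have := card_dvd_of_le h; rw [hScard, hC] at this; norm_num at this
    have hfoc : (S : Subgroup G).focalSubgroup = (S : Subgroup G) := by
      have h := (Transfer.focal_theorem (S : Subgroup G) ?_).1
      · rw [h, perfect hG, top_inf_eq]
      · refine Nat.Coprime.coprime_dvd_right (Subgroup.relIndex_dvd_card _ _) ?_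
        have := (S : Subgroup G).card_mul_index
        rw [hScard, hG] at this
        rw [hScard, show (S : Subgroup G).index = 495 by omega]
        norm_num
    obtain ⟨k, hkS, g, hgS, hmix⟩ : ∃ k ∈ (S : Subgroup G), ∃ g : G,
        g * k * g⁻¹ ∈ (S : Subgroup G) ∧ k ∈ C ∧ g * k * g⁻¹ ∉ C := by
      by_contra hc
      push Not at hc
      apply hnotle
      rw [← hfoc, Subgroup.focalSubgroup_def, closure_le]
      rintro z ⟨hz, a, ha, u, rfl⟩
      show ⁅a, u⁆ ∈ C
      have hua : u * a⁻¹ * u⁻¹ ∈ (S : Subgroup G) := by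
        have h := mul_mem (inv_mem ha) hz
        rw [commutatorElement_def] at h
        simpa [mul_assoc] using h
      by_cases haC : a ∈ C
      · have h := hc a⁻¹ (inv_mem ha) u hua (inv_mem haC)
        rw [commutatorElement_def, mul_assoc a u, mul_assoc a]
        exact mul_mem haC h
      · have huaC : u * a⁻¹ * u⁻¹ ∉ C := by
          intro h
          refine haC ?_
          have e : u⁻¹ * (u * a⁻¹ * u⁻¹) * u⁻¹⁻¹ = a⁻¹ := by group
          have h' := hc _ hua u⁻¹ (by rw [e]; exact inv_mem ha) h
          rw [e] at h'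
          exact inv_mem_iff.1 h'
        have hCn : (C.subgroupOf N).Normal := by
          rw [hCdef, hNdef, ← Subgroup.normalizerMonoidHom_ker]
          infer_instance
        have hindex : (C.subgroupOf N).index = 2 := by
          have h := (C.subgroupOf N).card_mul_index
          have hle : C ≤ N := by
            intro y hy
            rw [hNdef, mem_normalizer_iff]
            intro z
            constructor
            · intro hz
              rw [← mem_centralizer_iff.1 hy z hz, mul_inv_cancel_right]; exact hz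
            · intro hz
              have h1 := mem_centralizer_iff.1 hy _ hz
              have : y * z * y⁻¹ = z := mul_left_cancel (h1.symm.trans (by group) : y * (y * z * y⁻¹) = y * z)
              exact this ▸ hz
          rw [Nat.card_congr (subgroupOfEquivOfLe hle).toEquiv, hC, hN'] at h
          omega
        rw [commutatorElement_def, mul_assoc a u, mul_assoc a]
        have := (mul_mem_iff_of_index_two hindex (a := ⟨a, hSN ha⟩) (b := ⟨_, hSN hua⟩)).2
          (by simp only [mem_subgroupOf]; exact iff_of_false haC huaC)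
        exact this
    obtain ⟨hkC, hgC⟩ := hmix
    have hk1 : k ≠ 1 := fun h => hgC (by rw [h, mul_one, mul_inv_cancel]; exact one_mem C)
    obtain ⟨e, he⟩ := S.isPGroup' ⟨k, hkS⟩
    have hke : k ^ 2 ^ e = 1 := congrArg Subtype.val he
    obtain ⟨r, -, hr⟩ := (Nat.dvd_prime_pow Nat.prime_two).1 (orderOf_dvd_of_pow_eq_one hke)
    have hr0 : r ≠ 0 := fun h => hk1 (orderOf_eq_one_iff.1 (by rw [hr, h, pow_zero]))
    set t := k ^ 2 ^ (r - 1) with htdef
    have ht : orderOf t = 2 := by
      rw [htdef, orderOf_pow' _ (by positivity), hr,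
        Nat.gcd_eq_right (pow_dvd_pow 2 (Nat.sub_le r 1)), Nat.pow_div (Nat.sub_le r 1) two_pos,
        show r - (r - 1) = 1 by omega, pow_one]
    obtain ⟨-, huniq⟩ := fixed_points hG P (Or.inr hn) ht (pow_mem hkC _)
    have hkfix : ∀ Q : Sylow 11 G, k • Q = Q → Q = P := fun Q hQ => huniq Q (by
      rw [htdef]
      generalize 2 ^ (r - 1) = j
      induction j with
      | zero => rw [pow_zero, one_smul]
      | succ j ih => rw [pow_succ, ← smul_smul, hQ, ih])
    have h2 : g⁻¹ • P = P := by
      refine hkfix _ ?_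
      have h1 : (g * k * g⁻¹) • P = P := (smul_iff _ _).2 (hSN hgS)
      rw [← smul_smul, ← smul_smul] at h1
      exact eq_inv_smul_iff.2 h1
    have hgN : g ∈ N := by
      have := (smul_iff _ _).1 h2
      have := inv_mem this
      rw [inv_inv] at this
      exact this
    refine hgC ?_
    rw [hCdef, mem_centralizer_iff]
    intro z hz
    have hz' : g⁻¹ * z * g ∈ (P : Subgroup G) := by
      have := (mem_normalizer_iff.1 (inv_mem hgN) z).1 hz
      simpa using this
    calc z * (g * k * g⁻¹) = g * ((g⁻¹ * z * g) * k) * g⁻¹ := by group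
      _ = g * (k * (g⁻¹ * z * g)) * g⁻¹ := by rw [mem_centralizer_iff.1 hkC _ hz']
      _ = g * k * g⁻¹ * z := by group
  · have hN' : Nat.card (normalizer ((P : Subgroup G) : Set G)) = 55 := by omega
    refine ⟨(eq_of_le_of_card_ge hPC ?_).symm, hN'⟩
    have hi' : i ∈ Nat.divisors 10 := Nat.mem_divisors.2 ⟨hi, by norm_num⟩
    fin_cases hi' <;> omega

/-- The Sylow normaliser at five, up to an even centraliser. -/
theorem five [IsSimpleGroup G] (hG : Nat.card G = 7920) [Fact (Nat.Prime 11)] [Fact (Nat.Prime 5)]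
    (P : Sylow 5 G) :
    (centralizer ((P : Subgroup G) : Set G) = P ∧
      Nat.card (normalizer ((P : Subgroup G) : Set G)) = 20) ∨
      2 ∣ Nat.card (centralizer ((P : Subgroup G) : Set G)) := by
  classical
  have hP := card_sylow_five hG P
  obtain ⟨h1, h2, -⟩ := SmallSimple.card_sylow_facts (p := 5) (nc hG) (by rw [hG]; norm_num)
  have hdvd : Nat.card (Sylow 5 G) ∣ 1584 := by
    have h := P.card_dvd_index
    have hidx : (P : Subgroup G).index = 1584 := by
      have := (P : Subgroup G).card_mul_index
      rw [hP, hG] at this; omega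
    rwa [hidx] at h
  have h11 : 11 ∣ Nat.card (Sylow 5 G) := by
    by_contra hc
    have h : 11 ∣ Nat.card (normalizer ((P : Subgroup G) : Set G)) := by
      have hN := card_normalizer_eq hG P
      refine ((Nat.Prime.dvd_mul (by norm_num)).1 ?_).resolve_right hc
      rw [hN]; norm_num
    obtain ⟨y, hy⟩ := exists_prime_orderOf_dvd_card' 11 h
    have hy' : orderOf (y : G) = 11 := by rw [orderOf_coe]; exact hy
    have hyC := SmallSimple.mem_centralizer_of_coprime (p := 5) (P : Subgroup G) hP y.2
      (by rw [hy']; norm_num)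
    obtain ⟨⟨z, hzP⟩, hz⟩ := exists_prime_orderOf_dvd_card' (G := (P : Subgroup G)) 5 (by rw [hP])
    rw [orderOf_mk] at hz
    have hQ := IsPGroup.exists_le_sylow (IsPGroup.of_card (p := 11) (n := 1)
      (show Nat.card (zpowers (y : G)) = 11 ^ 1 by rw [Nat.card_zpowers, hy', pow_one]))
    obtain ⟨Q, hQ⟩ := hQ
    have hQe : zpowers (y : G) = Q :=
      eq_of_le_of_card_ge hQ (by rw [Nat.card_zpowers, hy', card_sylow_eleven hG Q])
    have hzC : z ∈ centralizer ((Q : Subgroup G) : Set G) := by
      rw [← hQe, mem_centralizer_iff]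
      rintro w ⟨j, rfl⟩
      exact ((show Commute (y : G) z from (mem_centralizer_iff.1 hyC z hzP).symm).zpow_left j).eq
    rw [(eleven hG Q).1] at hzC
    have := orderOf_dvd_natCard (⟨z, hzC⟩ : (Q : Subgroup G))
    rw [card_sylow_eleven hG Q, orderOf_mk, hz] at this
    norm_num at this
  obtain ⟨i, hi, hNi⟩ := SmallSimple.exists_normalizer_index (p := 5) (P : Subgroup G) hP
  have hN := card_normalizer_eq hG P
  have hne := one_lt_ratio hG P (by norm_num) rfl rfl
  have hPC : (P : Subgroup G) ≤ centralizer ((P : Subgroup G) : Set G) := by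
    have := isCyclic_of_prime_card hP
    intro a ha
    rw [mem_centralizer_iff]
    intro b hb
    exact congrArg Subtype.val ((IsCyclic.isMulCommutative).is_comm.comm (⟨b, hb⟩ : (P : Subgroup G)) ⟨a, ha⟩)
  have hC5 := card_dvd_of_le hPC
  rw [hP] at hC5
  have hi' : i ∈ Nat.divisors 4 := Nat.mem_divisors.2 ⟨hi, by norm_num⟩
  by_cases h2C : 2 ∣ Nat.card (centralizer ((P : Subgroup G) : Set G))
  · exact Or.inr h2C
  left
  have hkey : Nat.card (centralizer ((P : Subgroup G) : Set G)) = 5 ∧
      Nat.card (normalizer ((P : Subgroup G) : Set G)) = 20 := by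
    rcases cases_five _ (Nat.mem_divisors.2 ⟨hdvd, by norm_num⟩) h1 h2 (Nat.dvd_iff_mod_eq_zero.1 h11) with hn | hn | hn | hn <;>
      rw [hn] at hN <;> fin_cases hi' <;> omega
  exact ⟨(eq_of_le_of_card_ge hPC (by rw [hP, hkey.1])).symm, hkey.2⟩

/-- Classes of a group with a self-centralising normal subgroup of prime order. -/
theorem card_classes_normal {N : Type u} [Group N] [Finite N] {p e : ℕ} [Fact p.Prime]
    (P : Subgroup N) [P.Normal] (hP : Nat.card P = p) (hC : centralizer (P : Set N) = P)
    (hN : Nat.card N = p * e) :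
    Nat.card (ConjClasses N) * e = e * e + (p - 1) := by
  classical
  haveI := Fintype.ofFinite N
  have hp : 0 < p := (Fact.out : p.Prime).pos
  haveI : IsCyclic P := isCyclic_of_prime_card hP
  have he : 0 < e := Nat.pos_of_ne_zero fun h => by
    rw [h, mul_zero] at hN; exact Nat.card_pos.ne' hN
  have hcomm : ∀ a b : N, a * b * a⁻¹ * b⁻¹ ∈ P := by
    intro a b
    have hker : (MulAut.conjNormal (H := P)).ker = P := by
      ext g
      rw [MonoidHom.mem_ker]
      constructor
      · intro h
        rw [← hC, mem_centralizer_iff]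
        intro z hz
        have := congrArg (fun f : MulAut P => ((f ⟨z, hz⟩ : P) : N)) h
        simp only [MulAut.conjNormal_apply, MulAut.one_apply] at this
        rw [eq_comm, ← mul_inv_eq_iff_eq_mul]
        exact this
      · intro h
        rw [← hC, mem_centralizer_iff] at h
        refine MulEquiv.ext fun z => Subtype.ext ?_
        rw [MulAut.conjNormal_apply, MulAut.one_apply, ← h z z.2, mul_inv_cancel_right]
    rw [← hker, MonoidHom.mem_ker, map_mul, map_mul, map_mul, map_inv, map_inv]
    have hc : ∀ f g : MulAut P, f * g = g * f := by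
      intro f g
      refine (IsCyclic.mulAutMulEquiv P).injective ?_
      rw [map_mul, map_mul, mul_comm]
    rw [hc (MulAut.conjNormal a), mul_assoc (MulAut.conjNormal b), mul_inv_cancel, mul_one,
      mul_inv_cancel]
  have hout : ∀ g ∉ P, Nat.card (centralizer ({g} : Set N)) = e := by
    intro g hg
    set D := centralizer ({g} : Set N) with hD
    have hinf : D ⊓ P = ⊥ := by
      have hd := card_dvd_of_le (inf_le_right : D ⊓ P ≤ P)
      rw [hP] at hd
      rcases ((Fact.out : p.Prime).eq_one_or_self_of_dvd _ hd) with h | h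
      · exact eq_bot_of_card_eq _ h
      · exfalso
        have h1 : P ≤ D := (eq_of_le_of_card_ge (inf_le_right : D ⊓ P ≤ P) (by rw [hP, h])).ge.trans
          inf_le_left
        refine hg (hC ▸ mem_centralizer_iff.2 fun z hz => ?_)
        exact mem_centralizer_singleton_iff.1 (h1 hz)
    have hmul : Nat.card D * Nat.card P ≤ Nat.card N := by
      rw [← Nat.card_prod]
      refine Nat.card_le_card_of_injective (fun x : D × P => (x.1 : N) * x.2) ?_
      rintro ⟨a, b⟩ ⟨c, d⟩ h
      have h' : (c : N)⁻¹ * a ∈ D ⊓ P := by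
        refine Subgroup.mem_inf.2 ⟨mul_mem (inv_mem c.2) a.2, ?_⟩
        have : (c : N)⁻¹ * a = (d : N) * (b : N)⁻¹ := by
          rw [inv_mul_eq_iff_eq_mul, ← mul_assoc, eq_mul_inv_iff_mul_eq]; exact h
        rw [this]; exact mul_mem d.2 (inv_mem b.2)
      rw [hinf, mem_bot, inv_mul_eq_one] at h'
      have hac : a = c := Subtype.ext h'.symm
      subst hac
      exact Prod.ext rfl (Subtype.ext (mul_left_cancel h))
    rw [hP, hN, mul_comm p] at hmul
    have hub : Nat.card D ≤ e := Nat.le_of_mul_le_mul_right hmul hp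
    have horb : D.index ≤ p := by
      rw [← Lib.Char.card_conjClass_eq_index, ← hP, Nat.card_eq_fintype_card, Fintype.card_subtype]
      refine Finset.card_le_card_of_injOn (fun x => x * g⁻¹) ?_ ?_
      · intro x hx
        simp only [Finset.coe_filter, Finset.mem_univ, true_and, Set.mem_ofPred_eq] at hx ⊢
        obtain ⟨c, hc⟩ := isConj_iff.1 hx
        have := hcomm c x
        rw [hc] at this
        simpa using inv_mem this
      · intro a _ b _ h; simpa using h
    have hlb : e ≤ Nat.card D := by
      have h := D.card_mul_index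
      rw [hN] at h
      have h' : p * e ≤ p * Nat.card D := by
        rw [← h, mul_comm p]
        exact Nat.mul_le_mul_left _ horb
      exact Nat.le_of_mul_le_mul_left h' hp
    omega
  have hin : ∀ g ∈ P, g ≠ 1 → Nat.card (centralizer ({g} : Set N)) = p := by
    intro g hg hg1
    have hz : zpowers g = P := eq_of_le_of_card_ge (zpowers_le.2 hg) (by
      rw [hP, Nat.card_zpowers]
      have h := orderOf_dvd_natCard (⟨g, hg⟩ : P)
      rw [hP, orderOf_mk] at h
      rcases (Fact.out : p.Prime).eq_one_or_self_of_dvd _ h with h' | h'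
      · exact absurd (orderOf_eq_one_iff.1 h') hg1
      · exact h'.ge)
    have e : centralizer ({g} : Set N) = centralizer (P : Set N) := by
      refine le_antisymm (fun x hx => ?_) (centralizer_le (by simp [hg]))
      rw [← hz, mem_centralizer_iff]
      rintro w ⟨j, rfl⟩
      exact ((show Commute g x from (mem_centralizer_singleton_iff.1 hx).symm).zpow_left j).eq
    rw [e, hC, hP]
  have hsum : ∑ g : N, Nat.card (centralizer ({g} : Set N)) = Nat.card (ConjClasses N) * Nat.card N := by
    rw [← card_comm_eq_card_conjClasses_mul_card,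
      Nat.card_congr (Equiv.subtypeProdEquivSigmaSubtype fun a b : N => Commute a b), Nat.card_sigma]
    refine Finset.sum_congr rfl fun g _ => Nat.card_congr (Equiv.subtypeEquivRight fun x => ?_)
    rw [mem_centralizer_singleton_iff]
    exact ⟨fun h => h.symm, fun h => h.symm⟩
  rw [← Finset.sum_filter_add_sum_filter_not Finset.univ (fun g : N => g ∈ P),
    Finset.sum_congr rfl (s₁ := Finset.univ.filter fun g : N => ¬ g ∈ P) (fun g hg =>
      hout g (Finset.mem_filter.1 hg).2), Finset.sum_const, smul_eq_mul,
    ← Finset.add_sum_erase _ _ (Finset.mem_filter.2 ⟨Finset.mem_univ 1, one_mem P⟩),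
    Finset.sum_congr rfl (s₁ := (Finset.univ.filter fun g : N => g ∈ P).erase 1) (fun g hg => by
      obtain ⟨h1, h2⟩ := Finset.mem_erase.1 hg
      exact hin g (Finset.mem_filter.1 h2).2 h1), Finset.sum_const, smul_eq_mul] at hsum
  have hc1 : (Finset.univ.filter fun g : N => g ∈ P).card = p := by
    rw [← Fintype.card_subtype, ← Nat.card_eq_fintype_card, hP]
  have hc2 : (Finset.univ.filter fun g : N => ¬ g ∈ P).card = p * e - p := by
    have := Finset.card_filter_add_card_filter_not (s := (Finset.univ : Finset N)) (fun g => g ∈ P)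
    rw [hc1, Finset.card_univ, ← Nat.card_eq_fintype_card, hN] at this
    omega
  have hc3 : Nat.card (centralizer ({(1 : N)} : Set N)) = p * e := by
    rw [← hN]; exact Nat.card_congr (Equiv.subtypeUnivEquiv fun x => by simp [mem_centralizer_iff])
  rw [Finset.card_erase_of_mem (Finset.mem_filter.2 ⟨Finset.mem_univ 1, one_mem P⟩), hc1, hc2, hc3,
    hN] at hsum
  have hle : p ≤ p * e := Nat.le_mul_of_pos_right p he
  obtain ⟨p', rfl⟩ : ∃ p', p = p' + 1 := ⟨p - 1, by omega⟩
  obtain ⟨r, hr⟩ := Nat.exists_eq_add_of_le hle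
  rw [hr, Nat.add_sub_cancel_left, ← hr, Nat.add_sub_cancel] at hsum
  simp only [Nat.add_sub_cancel]
  refine Nat.eq_of_mul_eq_mul_left (show 0 < p' + 1 by omega) ?_
  nlinarith

end Cfsg.Agent.Lib.Char.O7920
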