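import Cfsg.Agent.Lib.Char.Order7920Eleven

/-!
# The character degrees of a simple group of order 7920
-/

set_option autoImplicit false
set_option linter.unusedSectionVars false
set_option linter.style.haveILetI false

namespace Cfsg.Agent.Lib.Char.O7920

open Cfsg Cfsg.Agent.Lib Cfsg.Agent.Lib.Char Cfsg.Agent.Lib.CharTools Subgroup
open scoped ComplexConjugate

universe u

variable {G : Type u} [Group G] [Finite G]

private theorem deg_R : ∀ d ∈ Finset.range 89, d ∣ 7920 → 1 < d →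
    d % 11 = 1 ∨ d % 11 = 10 → d = 10 ∨ d = 12 ∨ d = 45 := by decide +kernel

private theorem deg_pair_pos : ∀ d ∈ Finset.range 63, d ∣ 7920 → d % 11 = 6 → d = 6 := by
  decide +kernel

private theorem deg_pair_neg : ∀ d ∈ Finset.range 63, d ∣ 7920 → d % 11 = 5 →
    d = 5 ∨ d = 16 ∨ d = 60 := by decide +kernel

private theorem deg_five : ∀ d ∈ Finset.range 72, d ∣ 7920 → 11 ∣ d → d % 5 = 1 ∨ d % 5 = 4 →
    d = 11 ∨ d = 44 ∨ d = 66 := by decide +kernel

theorem isIrr_degree_sq_le (hG : Nat.card G = 7920) [Fintype (IrrCharacter G)]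
    (s : Finset (IrrCharacter G)) :
    ∑ χ ∈ s, charDegree (χ : G → ℂ) ^ 2 ≤ 7920 := by
  classical
  haveI := Fintype.ofFinite G
  rw [← hG, ← sum_charDegree_sq]
  calc ∑ χ ∈ s, charDegree (χ : G → ℂ) ^ 2 ≤ ∑ χ : IrrCharacter G, charDegree (χ : G → ℂ) ^ 2 :=
        Finset.sum_le_sum_of_subset (Finset.subset_univ s)
    _ = _ := Finset.sum_congr (by ext; simp) fun _ _ => rfl

variable [IsSimpleGroup G]

/-- A character of degree ten forbids involutions commuting with an element of order five. -/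
theorem no_involution_commuting (hG : Nat.card G = 7920) (χ : IrrCharacter G)
    (hd : charDegree (χ : G → ℂ) = 10) {x t : G} (hx : orderOf x = 5) (ht : orderOf t = 2)
    (hxt : Commute x t) : False := by
  classical
  haveI := Fintype.ofFinite G
  have hc := isCharacter_of_isIrr χ.2
  have hy : orderOf (x * t) = 10 := by
    rw [hxt.orderOf_mul_eq_mul_orderOf_of_coprime (by rw [hx, ht]; decide), hx, ht]
  have hY : Nat.card (zpowers (x * t)) = 10 := by rw [Nat.card_zpowers, hy]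
  obtain ⟨m, hm⟩ := exists_nat_sum_subgroup hc (zpowers (x * t))
  have ht1 : t ≠ 1 := fun h => by rw [h, orderOf_one] at ht; omega
  have hsub : ({1, t} : Finset G) ⊆ Finset.univ.filter (· ∈ zpowers (x * t)) := by
    intro z hz
    refine Finset.mem_filter.2 ⟨Finset.mem_univ z, ?_⟩
    rcases Finset.mem_insert.1 hz with rfl | hz
    · exact one_mem _
    · rw [Finset.mem_singleton.1 hz]
      refine ⟨5, ?_⟩
      show (x * t) ^ ((5 : ℕ) : ℤ) = t
      rw [zpow_natCast, hxt.mul_pow, ← hx, pow_orderOf_eq_one, one_mul, hx,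
        show t ^ 5 = (t ^ 2) ^ 2 * t by group, ← ht, pow_orderOf_eq_one, one_pow, one_mul]
  rw [← Finset.sum_subset hsub (fun z hz hz' => ?_), Finset.sum_pair ht1.symm, hY,
    apply_one_eq_charDegree hc, hd] at hm
  · obtain ⟨k, hk, -⟩ := exists_mod_four (perfect hG) χ ht
    rw [hd] at hk
    rw [hk] at hm
    have h' : (10 : ℤ) + (10 - 4 * k) = 10 * m := by
      have : (((10 : ℤ) + (10 - 4 * k) : ℤ) : ℂ) = ((10 * m : ℤ) : ℂ) := by
        push_cast at hm ⊢; linear_combination hm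
      exact_mod_cast this
    have hne := norm_ne (nc hG) χ (fun h => by
      rw [h] at hd; rw [charDegree_one] at hd; omega) ht1
    rw [hk, apply_one_eq_charDegree hc, hd, Complex.norm_natCast] at hne
    have hle : ((χ : G → ℂ) t).re ≤ 10 ∧ -10 ≤ ((χ : G → ℂ) t).re := by
      have h1 : ‖(χ : G → ℂ) t‖ ≤ 10 := by
        obtain ⟨n, ρ, hρ⟩ := hc
        rw [← hρ]
        refine (norm_character_le ρ t).trans (le_of_eq ?_)
        have h0 := apply_one_eq_charDegree (isCharacter_of_isIrr χ.2)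
        rw [hd, ← hρ, Representation.char_one] at h0
        exact_mod_cast h0
      exact ⟨(Complex.re_le_norm _).trans h1, (neg_le_neg h1).trans
        (neg_le.1 ((neg_le_abs _).trans (Complex.abs_re_le_norm _)))⟩
    rw [hk] at hle
    simp only [Complex.sub_re, Complex.mul_re, Complex.natCast_re, Complex.natCast_im,
      Complex.re_ofNat, Complex.im_ofNat, mul_zero, sub_zero] at hle
    have hk5 : k ≤ 5 := by
      have := hle.2; push_cast at this
      have : (k : ℝ) ≤ 5 := by linarith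
      exact_mod_cast this
    have hk05 : k = 0 ∨ k = 5 := by omega
    apply hne
    rcases hk05 with rfl | rfl <;> norm_num
  · have hz1 : z ∈ zpowers (x * t) := (Finset.mem_filter.1 hz).2
    refine apply_eq_zero hG (p := 5) (by norm_num) (by norm_num) not_dvd_5 χ (by rw [hd]; norm_num) ?_
    by_contra h5
    apply hz'
    obtain ⟨j, rfl⟩ := Subgroup.mem_zpowers_iff.1 hz1
    have hdvd : orderOf ((x * t) ^ j) ∣ 10 := by
      rw [← hy]; exact orderOf_dvd_of_pow_eq_one (by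
        rw [← zpow_natCast, ← zpow_mul, mul_comm, zpow_mul, zpow_natCast, pow_orderOf_eq_one, one_zpow])
    have h2 : orderOf ((x * t) ^ j) ∣ 2 :=
      ((Nat.Prime.coprime_iff_not_dvd (by norm_num)).2 h5).symm.dvd_of_dvd_mul_left
        (show orderOf ((x * t) ^ j) ∣ 5 * 2 from hdvd)
    have hsq := orderOf_dvd_iff_pow_eq_one.1 h2
    rw [← zpow_natCast, ← zpow_mul, ← orderOf_dvd_iff_zpow_eq_one, hy] at hsq
    have h5j : (5 : ℤ) ∣ j := by push_cast at hsq; omega
    obtain ⟨i, rfl⟩ := h5j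
    have ht5 : (x * t) ^ (5 : ℤ) = t := by
      show (x * t) ^ ((5 : ℕ) : ℤ) = t
      rw [zpow_natCast, hxt.mul_pow, ← hx, pow_orderOf_eq_one, one_mul, hx,
        show t ^ 5 = (t ^ 2) ^ 2 * t by group, ← ht, pow_orderOf_eq_one, one_pow, one_mul]
    rw [zpow_mul, ht5, Finset.mem_insert, Finset.mem_singleton]
    rcases Int.even_or_odd' i with ⟨r, rfl | rfl⟩
    · left
      rw [zpow_mul, show t ^ (2 : ℤ) = 1 by
        show t ^ ((2 : ℕ) : ℤ) = 1; rw [zpow_natCast, ← ht, pow_orderOf_eq_one], one_zpow]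
    · right
      rw [zpow_add, zpow_one, zpow_mul, show t ^ (2 : ℤ) = 1 by
        show t ^ ((2 : ℕ) : ℤ) = 1; rw [zpow_natCast, ← ht, pow_orderOf_eq_one], one_zpow, one_mul]

/-- The number of characters of degree prime to five and the values there. -/
theorem five_data (hG : Nat.card G = 7920) [Fact (Nat.Prime 5)] (Q : Sylow 5 G)
    (hC : centralizer ((Q : Subgroup G) : Set G) = Q)
    (hN : Nat.card (normalizer ((Q : Subgroup G) : Set G)) = 20) {y : G}
    (hy : y ∈ (Q : Subgroup G)) (hy1 : y ≠ 1) :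
    Nat.card {χ : IrrCharacter G // ¬ 5 ∣ charDegree (χ : G → ℂ)} = 5 ∧
      (∀ χ : IrrCharacter G, 5 ∣ charDegree (χ : G → ℂ) → (χ : G → ℂ) y = 0) ∧
      ∀ χ : IrrCharacter G, ¬ 5 ∣ charDegree (χ : G → ℂ) →
        ∃ v : ℤ, (χ : G → ℂ) y = v ∧ (v = 1 ∨ v = -1) ∧ (5 : ℤ) ∣ v - charDegree (χ : G → ℂ) := by
  classical
  haveI := Fintype.ofFinite G
  have hP := card_sylow_five hG Q
  have hcard : Nat.card {χ : IrrCharacter G // ¬ 5 ∣ charDegree (χ : G → ℂ)} = 5 := by
    rw [Cfsg.Agent.S4502.result 5 (by rw [hG]; norm_num) (by rw [hG]; norm_num) Q]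
    have := card_classes_normalizer (e := 4) Q hP hC hN
    omega
  have hyo : 5 ∣ orderOf y := by
    have h := orderOf_dvd_natCard (⟨y, hy⟩ : (Q : Subgroup G))
    rw [hP, orderOf_mk] at h
    rcases (by norm_num : Nat.Prime 5).eq_one_or_self_of_dvd _ h with h' | h'
    · exact absurd (orderOf_eq_one_iff.1 h') hy1
    · rw [h']
  have hzero : ∀ χ : IrrCharacter G, 5 ∣ charDegree (χ : G → ℂ) → (χ : G → ℂ) y = 0 :=
    fun χ h => apply_eq_zero hG (by norm_num) (by norm_num) not_dvd_5 χ h hyo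
  have hval : ∀ χ : IrrCharacter G, ∃ v : ℤ, (χ : G → ℂ) y = v ∧
      (5 : ℤ) ∣ v - charDegree (χ : G → ℂ) := by
    intro χ
    have hc := isCharacter_of_isIrr χ.2
    obtain ⟨m, hm⟩ := sum_rational (p := 5) (by norm_num) _ hP hC hN hy hy1 hc
    rw [apply_one_eq_charDegree hc] at hm
    obtain ⟨v, hv⟩ := exists_int_of_mul (char_isIntegral hc y)
      (a := 5 * (m : ℤ) - charDegree (χ : G → ℂ)) (b := 4) (by norm_num)
      (by push_cast at hm ⊢; linear_combination hm)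
    refine ⟨v, hv, Int.dvd_of_emod_eq_zero ?_⟩
    have : (charDegree (χ : G → ℂ) : ℤ) + 4 * v = 5 * m := by
      have : ((charDegree (χ : G → ℂ) : ℂ) + 4 * v) = 5 * m := by
        rw [← hv]; push_cast at hm; linear_combination hm
      exact_mod_cast this
    omega
  choose v hv hd using hval
  refine ⟨hcard, hzero, fun χ hχ => ⟨v χ, hv χ, ?_, hd χ⟩⟩
  set S := Finset.univ.filter fun ψ : IrrCharacter G => ¬ 5 ∣ charDegree (ψ : G → ℂ) with hS
  have hScard : S.card = 5 := by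
    rw [hS, ← Fintype.card_subtype, ← Nat.card_eq_fintype_card, hcard]
  have hsum : ∑ ψ ∈ S, v ψ ^ 2 = 5 := by
    have h := sum_norm y
    rw [centralizer_singleton_eq (by norm_num) _ hP hy hy1, hC, hP] at h
    rw [← Finset.sum_subset (Finset.subset_univ S) fun ψ _ hψ => by
      rw [hzero ψ (by simpa [hS] using hψ), zero_mul]] at h
    rw [Finset.sum_congr rfl fun ψ _ => by
      rw [hv ψ, map_intCast, ← Int.cast_mul, ← pow_two]] at h
    exact_mod_cast h
  have hpos : ∀ ψ ∈ S, 1 ≤ v ψ ^ 2 := by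
    intro ψ hψ
    have h1 : ¬ 5 ∣ charDegree (ψ : G → ℂ) := by simpa [hS] using hψ
    have h2 : v ψ ≠ 0 := fun h => h1 (by
      have := hd ψ
      rw [h, zero_sub, dvd_neg] at this
      exact Int.natCast_dvd_natCast.1 this)
    have := sq_pos_of_ne_zero h2
    omega
  have hmem : χ ∈ S := by simpa [hS] using hχ
  have h := Finset.add_sum_erase S (fun ψ => v ψ ^ 2) hmem
  have hge : ((S.erase χ).card : ℤ) ≤ ∑ φ ∈ S.erase χ, v φ ^ 2 := by
    rw [Finset.card_eq_sum_ones, Nat.cast_sum]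
    exact Finset.sum_le_sum fun φ hφ => by simpa using hpos φ (Finset.mem_of_mem_erase hφ)
  rw [Finset.card_erase_of_mem hmem, hScard] at hge
  have := hpos χ hmem
  push_cast at hge
  exact sq_eq_one_iff.1 (by omega)

/-- The list of degrees. -/
def degList : Fin 10 → ℕ := ![1, 10, 10, 10, 45, 16, 16, 11, 44, 55]

/-- The degrees and some character values. -/
theorem exists_table (hG : Nat.card G = 7920) :
    ∃ (f : Fin 10 → IrrCharacter G) (x y : G), Function.Bijective f ∧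
      (∀ i, charDegree (f i : G → ℂ) = degList i) ∧ f 0 = princ G ∧ f 6 = conjC (f 5) ∧
      orderOf x = 11 ∧ (∀ g : G, g * x * g⁻¹ ≠ x⁻¹) ∧
      (∀ i, ![true, true, true, true, true, false, false, true, true, true] i = true →
        (f i : G → ℂ) x = ((![1, -1, -1, -1, 1, 0, 0, 0, 0, 0] i : ℤ) : ℂ)) ∧
      (f 5 : G → ℂ) x + conj ((f 5 : G → ℂ) x) = -1 ∧
      orderOf y = 5 ∧
      (∀ i, (f i : G → ℂ) y = ((![1, 0, 0, 0, 0, 1, 1, 1, -1, 0] i : ℤ) : ℂ)) ∧
      (∀ Q : Sylow 5 G, centralizer ((Q : Subgroup G) : Set G) = Q) := by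
  classical
  haveI := Fintype.ofFinite G
  haveI : Fact (Nat.Prime 11) := ⟨by norm_num⟩
  haveI : Fact (Nat.Prime 5) := ⟨by norm_num⟩
  obtain ⟨P⟩ : Nonempty (Sylow 11 G) := inferInstance
  obtain ⟨x, hx, hx1, hxo⟩ := exists_mem_ne_one (by norm_num) (card_sylow_eleven hG P)
  obtain ⟨χ, R, A, hne, hp1, hp2, hχR, hχ'R, hpR, hRcard, hA, hAχ, -, hdA, hRv, hS⟩ :=
    eleven_shape hG P hx hx1
  set d := charDegree (χ : G → ℂ) with hd
  have hxG : 11 ∣ 7920 := by norm_num
  have hzero : ∀ ψ : IrrCharacter G, 11 ∣ charDegree (ψ : G → ℂ) → (ψ : G → ℂ) x = 0 :=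
    fun ψ h => apply_eq_zero hG (by norm_num) hxG not_dvd_11 ψ h (by rw [hxo])
  have hsplit : ∀ {M : Type} [AddCommMonoid M] (F : IrrCharacter G → M),
      ∑ ψ ∈ Finset.univ.filter (fun ψ : IrrCharacter G => ¬ 11 ∣ charDegree (ψ : G → ℂ)), F ψ =
        F (princ G) + (F χ + (F (conjC χ) + ∑ ψ ∈ R, F ψ)) := by
    intro M _ F
    rw [hS, Finset.sum_insert (by simp [hp1.symm, hp2.symm, hpR]),
      Finset.sum_insert (by simp [hne.symm, hχR]), Finset.sum_insert hχ'R]
  have hdR : ∀ ψ ∈ R, (charDegree (ψ : G → ℂ) = 10 ∧ (ψ : G → ℂ) x = -1) ∨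
      (charDegree (ψ : G → ℂ) = 12 ∧ (ψ : G → ℂ) x = 1) ∨
      (charDegree (ψ : G → ℂ) = 45 ∧ (ψ : G → ℂ) x = 1) := by
    intro ψ hψ
    obtain ⟨v, hv, hv1, hvd, hlt⟩ := hRv ψ hψ
    have hle := isIrr_degree_sq_le hG {ψ}
    rw [Finset.sum_singleton] at hle
    have hdvd : charDegree (ψ : G → ℂ) ∣ 7920 := hG ▸ charDegree_dvd_card ψ.2
    have hmod : (v = 1 ∧ charDegree (ψ : G → ℂ) % 11 = 1) ∨
        (v = -1 ∧ charDegree (ψ : G → ℂ) % 11 = 10) := by
      rcases hv1 with rfl | rfl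
      · left; omega
      · right; omega
    rcases deg_R _ (Finset.mem_range.2 (by nlinarith)) hdvd hlt (by omega) with h | h | h <;>
      rcases hmod with ⟨rfl, hm⟩ | ⟨rfl, hm⟩ <;> simp [h, hv] at hm ⊢
  set a := (R.filter fun ψ : IrrCharacter G => charDegree (ψ : G → ℂ) = 10).card with ha
  set b := (R.filter fun ψ : IrrCharacter G => charDegree (ψ : G → ℂ) = 12).card with hb
  set c := (R.filter fun ψ : IrrCharacter G => charDegree (ψ : G → ℂ) = 45).card with hc
  have habc : a + b + c = 4 := by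
    rw [← hRcard, Finset.card_eq_sum_ones R, ha, hb, hc, Finset.card_filter, Finset.card_filter,
      Finset.card_filter, ← Finset.sum_add_distrib, ← Finset.sum_add_distrib]
    refine Finset.sum_congr rfl fun ψ hψ => ?_
    rcases hdR ψ hψ with ⟨h, -⟩ | ⟨h, -⟩ | ⟨h, -⟩ <;> simp [h]
  have hsqR : ∑ ψ ∈ R, charDegree (ψ : G → ℂ) ^ 2 = 100 * a + 144 * b + 2025 * c := by
    rw [ha, hb, hc, Finset.card_filter, Finset.card_filter,
      Finset.card_filter, Finset.mul_sum, Finset.mul_sum, Finset.mul_sum, ← Finset.sum_add_distrib,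
      ← Finset.sum_add_distrib]
    refine Finset.sum_congr rfl fun ψ hψ => ?_
    rcases hdR ψ hψ with ⟨h, -⟩ | ⟨h, -⟩ | ⟨h, -⟩ <;> simp [h]
  have hrel : (1 : ℤ) + A * d - 10 * a + 12 * b + 45 * c = 0 := by
    have hnx : ¬ IsConj (1 : G) x := fun h => hx1 (isConj_one_right.1 h)
    have h := sum_orth hnx
    have hsR : ∑ ψ ∈ R, (ψ : G → ℂ) 1 * conj ((ψ : G → ℂ) x) =
        ((-10 * a + 12 * b + 45 * c : ℤ) : ℂ) := by
      push_cast
      rw [ha, hb, hc, ← Finset.sum_boole, ← Finset.sum_boole, ← Finset.sum_boole,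
        Finset.mul_sum, Finset.mul_sum, Finset.mul_sum, ← Finset.sum_add_distrib,
        ← Finset.sum_add_distrib]
      refine Finset.sum_congr rfl fun ψ hψ => ?_
      rw [apply_one_eq_charDegree (isCharacter_of_isIrr ψ.2)]
      rcases hdR ψ hψ with ⟨h, h'⟩ | ⟨h, h'⟩ | ⟨h, h'⟩ <;> simp [h, h']
    rw [← Finset.sum_subset (Finset.subset_univ
        (Finset.univ.filter fun ψ : IrrCharacter G => ¬ 11 ∣ charDegree (ψ : G → ℂ)))
      (fun ψ _ hψ => by rw [hzero ψ (by simpa using hψ), map_zero, mul_zero]), hsplit, hsR,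
      princ_apply, princ_apply, map_one, mul_one, conjC_apply, conjC_apply,
      apply_one_eq_charDegree (isCharacter_of_isIrr χ.2), map_natCast, Complex.conj_conj, ← hd] at h
    have : (((1 : ℤ) + A * d - 10 * a + 12 * b + 45 * c : ℤ) : ℂ) = 0 := by
      push_cast at h ⊢
      rw [← hAχ]
      linear_combination h
    exact_mod_cast this
  have hsq := isIrr_degree_sq_le hG
    (Finset.univ.filter fun ψ : IrrCharacter G => ¬ 11 ∣ charDegree (ψ : G → ℂ))
  rw [hsplit, hsqR, princ_degree, conjC_degree, ← hd] at hsq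
  have hddvd : d ∣ 7920 := hG ▸ charDegree_dvd_card χ.2
  have hcase : A = -1 ∧ ((d = 16 ∧ a = 3 ∧ b = 0 ∧ c = 1) ∨ (d = 5 ∧ a = 2 ∧ b = 2 ∧ c = 0)) := by
    have hd63 : d ∈ Finset.range 63 := Finset.mem_range.2 (by nlinarith)
    rcases hA with rfl | rfl
    · have := deg_pair_pos d hd63 hddvd (by omega)
      rw [this] at hrel hsq
      omega
    · rcases deg_pair_neg d hd63 hddvd (by omega) with h | h | h <;> rw [h] at hrel hsq <;>
        refine ⟨rfl, ?_⟩ <;> omega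
  obtain ⟨ψ0, hψ0⟩ : (R.filter fun ψ : IrrCharacter G => charDegree (ψ : G → ℂ) = 10).Nonempty :=
    Finset.card_pos.1 (by omega)
  have hψ0' := (Finset.mem_filter.1 hψ0).2
  have hfive : ∀ Q : Sylow 5 G, centralizer ((Q : Subgroup G) : Set G) = Q ∧
      Nat.card (normalizer ((Q : Subgroup G) : Set G)) = 20 := by
    intro Q
    refine (five hG Q).resolve_right fun h2 => ?_
    obtain ⟨⟨t, htC⟩, ht⟩ := exists_prime_orderOf_dvd_card' 2 h2
    rw [orderOf_mk] at ht
    obtain ⟨z, hz, -, hzo⟩ := exists_mem_ne_one (by norm_num) (card_sylow_five hG Q)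
    exact no_involution_commuting hG ψ0 hψ0' hzo ht (mem_centralizer_iff.1 htC z hz)
  obtain ⟨Q⟩ : Nonempty (Sylow 5 G) := inferInstance
  obtain ⟨y, hy, hy1, hyo⟩ := exists_mem_ne_one (by norm_num) (card_sylow_five hG Q)
  obtain ⟨h5card, h5zero, h5val⟩ := five_data hG Q (hfive Q).1 (hfive Q).2 hy hy1
  have hmod5 : ∀ ψ : IrrCharacter G, ¬ 5 ∣ charDegree (ψ : G → ℂ) →
      ((ψ : G → ℂ) y = 1 ∧ charDegree (ψ : G → ℂ) % 5 = 1) ∨
      ((ψ : G → ℂ) y = -1 ∧ charDegree (ψ : G → ℂ) % 5 = 4) := by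
    intro ψ h
    obtain ⟨v, hv, hv1, hvd⟩ := h5val ψ h
    rcases hv1 with rfl | rfl
    · left; exact ⟨by rw [hv]; norm_num, by omega⟩
    · right; exact ⟨by rw [hv]; norm_num, by omega⟩
  have hb0 : b = 0 := by
    by_contra hb0
    obtain ⟨ψ, hψ⟩ := Finset.card_pos.1 (Nat.pos_of_ne_zero (hb ▸ hb0))
    have h12 := (Finset.mem_filter.1 hψ).2
    rcases hmod5 ψ (by rw [h12]; norm_num) with ⟨-, h⟩ | ⟨-, h⟩ <;> rw [h12] at h <;> norm_num at h
  obtain ⟨rfl, h16, ha3, -, hc1⟩ : A = -1 ∧ d = 16 ∧ a = 3 ∧ b = 0 ∧ c = 1 := by omega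
  obtain ⟨e1, e2, e3, h12, h13, h23, heq⟩ := Finset.card_eq_three.1 (ha ▸ ha3)
  obtain ⟨e4, heq4⟩ := Finset.card_eq_one.1 (hc ▸ hc1)
  have hmem10 : ∀ ψ, ψ ∈ ({e1, e2, e3} : Finset (IrrCharacter G)) →
      ψ ∈ R ∧ charDegree (ψ : G → ℂ) = 10 := fun ψ h => Finset.mem_filter.1 (heq ▸ h)
  have h4 := Finset.mem_filter.1 (heq4 ▸ Finset.mem_singleton_self e4)
  have hR45 : ∀ ψ ∈ R, charDegree (ψ : G → ℂ) = 10 ∨ charDegree (ψ : G → ℂ) = 45 := by
    intro ψ hψ
    rcases hdR ψ hψ with ⟨h, -⟩ | ⟨h, -⟩ | ⟨h, -⟩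
    · exact Or.inl h
    · exfalso
      rw [hb0] at hb
      exact Finset.notMem_empty ψ
        ((Finset.card_eq_zero.1 hb.symm) ▸ Finset.mem_filter.2 ⟨hψ, h⟩)
    · exact Or.inr h
  -- the characters of degree divisible by eleven
  set S := Finset.univ.filter fun ψ : IrrCharacter G => ¬ 11 ∣ charDegree (ψ : G → ℂ) with hSdef
  set T := Finset.univ.filter fun ψ : IrrCharacter G => ¬ ¬ 11 ∣ charDegree (ψ : G → ℂ) with hTdef
  have hTsq : ∑ ψ ∈ T, charDegree (ψ : G → ℂ) ^ 2 = 5082 := by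
    have h := Finset.sum_filter_add_sum_filter_not (Finset.univ : Finset (IrrCharacter G))
      (fun ψ : IrrCharacter G => ¬ 11 ∣ charDegree (ψ : G → ℂ)) (fun ψ : IrrCharacter G => charDegree (ψ : G → ℂ) ^ 2)
    rw [← hSdef, ← hTdef, hsplit, hsqR, princ_degree, conjC_degree, ← hd, h16, ha3, hb0, hc1] at h
    have h2 : ∑ ψ : IrrCharacter G, charDegree (ψ : G → ℂ) ^ 2 = 7920 := hG ▸ sum_charDegree_sq
    omega
  set T' := T.filter fun ψ : IrrCharacter G => ¬ 5 ∣ charDegree (ψ : G → ℂ) with hT'def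
  set T55 := T.filter fun ψ : IrrCharacter G => ¬ ¬ 5 ∣ charDegree (ψ : G → ℂ) with hT55def
  have hS5 : S.filter (fun ψ : IrrCharacter G => ¬ 5 ∣ charDegree (ψ : G → ℂ)) = {princ G, χ, conjC χ} := by
    ext ψ
    rw [Finset.mem_filter, hS]
    constructor
    · rintro ⟨h, h5⟩
      simp only [Finset.mem_insert, Finset.mem_singleton] at h ⊢
      rcases h with h | h | h | h
      · exact Or.inl h
      · exact Or.inr (Or.inl h)
      · exact Or.inr (Or.inr h)
      · exfalso; rcases hR45 ψ h with h' | h' <;> rw [h'] at h5 <;> norm_num at h5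
    · intro h
      simp only [Finset.mem_insert, Finset.mem_singleton] at h ⊢
      rcases h with rfl | rfl | rfl
      · exact ⟨Or.inl rfl, by rw [princ_degree]; norm_num⟩
      · exact ⟨Or.inr (Or.inl rfl), by rw [← hd, h16]; norm_num⟩
      · exact ⟨Or.inr (Or.inr (Or.inl rfl)), by rw [conjC_degree, ← hd, h16]; norm_num⟩
  have h3card : ({princ G, χ, conjC χ} : Finset (IrrCharacter G)).card = 3 :=
    Finset.card_eq_three.2 ⟨_, _, _, hp1.symm, hp2.symm, hne.symm, rfl⟩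
  have hsplit5 : Finset.univ.filter (fun ψ : IrrCharacter G => ¬ 5 ∣ charDegree (ψ : G → ℂ)) =
      {princ G, χ, conjC χ} ∪ T' := by
    rw [← hS5, hT'def, ← Finset.filter_union, hSdef, hTdef, Finset.filter_union_filter_not_eq]
  have hdisj : Disjoint ({princ G, χ, conjC χ} : Finset (IrrCharacter G)) T' := by
    rw [← hS5]
    exact Finset.disjoint_filter_filter (Finset.disjoint_filter_filter_not _ _ _)
  have hT'card : T'.card = 2 := by
    have h := congrArg Finset.card hsplit5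
    rw [Finset.card_union_of_disjoint hdisj, h3card, ← Fintype.card_subtype,
      ← Nat.card_eq_fintype_card, h5card] at h
    omega
  obtain ⟨α, β, hαβ, hT'⟩ := Finset.card_eq_two.1 hT'card
  have hdT' : ∀ ψ ∈ T', (charDegree (ψ : G → ℂ) = 11 ∧ (ψ : G → ℂ) y = 1) ∨
      (charDegree (ψ : G → ℂ) = 44 ∧ (ψ : G → ℂ) y = -1) ∨
      (charDegree (ψ : G → ℂ) = 66 ∧ (ψ : G → ℂ) y = 1) := by
    intro ψ hψ
    obtain ⟨h1, h2⟩ := Finset.mem_filter.1 hψ
    have h11 : 11 ∣ charDegree (ψ : G → ℂ) := by simpa [hTdef] using h1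
    have hle : charDegree (ψ : G → ℂ) ^ 2 ≤ 5082 :=
      hTsq ▸ Finset.single_le_sum (f := fun ψ : IrrCharacter G => charDegree (ψ : G → ℂ) ^ 2)
        (fun _ _ => Nat.zero_le _) h1
    have hdvd : charDegree (ψ : G → ℂ) ∣ 7920 := hG ▸ charDegree_dvd_card ψ.2
    rcases hmod5 ψ h2 with ⟨hv, hm⟩ | ⟨hv, hm⟩ <;>
      rcases deg_five _ (Finset.mem_range.2 (by nlinarith)) hdvd h11 (by omega) with h | h | h <;>
      simp [h, hv] at hm ⊢
  have hrel5 : (33 : ℂ) + ((α : G → ℂ) 1 * (α : G → ℂ) y + (β : G → ℂ) 1 * (β : G → ℂ) y) = 0 := by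
    have hny : ¬ IsConj (1 : G) y := fun h => hy1 (isConj_one_right.1 h)
    have h := sum_orth hny
    rw [← Finset.sum_subset (Finset.subset_univ
        (Finset.univ.filter fun ψ : IrrCharacter G => ¬ 5 ∣ charDegree (ψ : G → ℂ)))
      (fun ψ _ hψ => by rw [h5zero ψ (by simpa using hψ), map_zero, mul_zero]), hsplit5,
      Finset.sum_union hdisj, hT', Finset.sum_pair hαβ] at h
    have hy16 : ∀ ψ : IrrCharacter G, charDegree (ψ : G → ℂ) = 16 → (ψ : G → ℂ) y = 1 := fun ψ hψ => by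
      rcases hmod5 ψ (by rw [hψ]; norm_num) with ⟨hv, -⟩ | ⟨-, hm⟩
      · exact hv
      · rw [hψ] at hm; norm_num at hm
    rw [Finset.sum_insert (by simp [hp1.symm, hp2.symm]), Finset.sum_pair hne.symm, princ_apply,
      princ_apply, hy16 χ (hd ▸ h16), hy16 (conjC χ) (by rw [conjC_degree, ← hd, h16]),
      apply_one_eq_charDegree (isCharacter_of_isIrr χ.2), ← hd, h16,
      apply_one_eq_charDegree (isCharacter_of_isIrr (conjC χ).2), conjC_degree, ← hd, h16,
      map_one] at h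
    have hreal : ∀ ψ ∈ T', conj ((ψ : G → ℂ) y) = (ψ : G → ℂ) y := fun ψ hψ => by
      rcases hdT' ψ hψ with ⟨-, h'⟩ | ⟨-, h'⟩ | ⟨-, h'⟩ <;> simp [h']
    rw [hreal α (hT' ▸ Finset.mem_insert_self _ _),
      hreal β (hT' ▸ Finset.mem_insert_of_mem (Finset.mem_singleton_self _))] at h
    push_cast at h
    linear_combination h
  obtain ⟨α, β, hT'eq, hαβ, ⟨hα, hαy⟩, hβ, hβy⟩ : ∃ α β : IrrCharacter G, T' = {α, β} ∧ α ≠ β ∧
      (charDegree (α : G → ℂ) = 11 ∧ (α : G → ℂ) y = 1) ∧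
      charDegree (β : G → ℂ) = 44 ∧ (β : G → ℂ) y = -1 := by
    rw [apply_one_eq_charDegree (isCharacter_of_isIrr α.2),
      apply_one_eq_charDegree (isCharacter_of_isIrr β.2)] at hrel5
    rcases hdT' α (hT' ▸ Finset.mem_insert_self _ _) with ⟨a1, a2⟩ | ⟨a1, a2⟩ | ⟨a1, a2⟩ <;>
      rcases hdT' β (hT' ▸ Finset.mem_insert_of_mem (Finset.mem_singleton_self _)) with
        ⟨b1, b2⟩ | ⟨b1, b2⟩ | ⟨b1, b2⟩ <;>
      first
      | exact ⟨α, β, hT', hαβ, ⟨a1, a2⟩, b1, b2⟩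
      | exact ⟨β, α, hT'.trans (Finset.pair_comm α β), hαβ.symm, ⟨b1, b2⟩, a1, a2⟩
      | (rw [a1, a2, b1, b2] at hrel5; norm_num at hrel5)
  have hT55sq : ∑ ψ ∈ T55, charDegree (ψ : G → ℂ) ^ 2 = 3025 := by
    have h := Finset.sum_filter_add_sum_filter_not T (fun ψ : IrrCharacter G => ¬ 5 ∣ charDegree (ψ : G → ℂ))
      (fun ψ : IrrCharacter G => charDegree (ψ : G → ℂ) ^ 2)
    rw [← hT'def, ← hT55def, hTsq, hT'eq, Finset.sum_pair hαβ, hα, hβ] at h
    omega
  have h55 : ∀ ψ ∈ T55, 55 ∣ charDegree (ψ : G → ℂ) := by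
    intro ψ hψ
    simp only [hT55def, hTdef, Finset.mem_filter, Finset.mem_univ, true_and, not_not] at hψ
    exact (Nat.Coprime.mul_dvd_of_dvd_of_dvd (by norm_num) hψ.2 hψ.1 : 5 * 11 ∣ _)
  obtain ⟨γ, hγ⟩ : ∃ γ, T55 = {γ} := by
    refine Finset.card_eq_one.1 (le_antisymm ?_ (Finset.card_pos.2 ?_))
    · have h : T55.card • 3025 ≤ ∑ ψ ∈ T55, charDegree (ψ : G → ℂ) ^ 2 :=
        Finset.card_nsmul_le_sum _ _ _ fun ψ hψ => by
          have := Nat.le_of_dvd (charDegree_pos ψ.2) (h55 ψ hψ)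
          nlinarith
      rw [hT55sq, smul_eq_mul] at h
      omega
    · by_contra hemp
      rw [Finset.not_nonempty_iff_eq_empty.1 hemp, Finset.sum_empty] at hT55sq
      omega
  have hγd : charDegree (γ : G → ℂ) = 55 := by
    rw [hγ, Finset.sum_singleton] at hT55sq
    exact (Nat.pow_left_injective two_ne_zero) (by simpa using hT55sq)
  -- the listing
  set f : Fin 10 → IrrCharacter G := ![princ G, e1, e2, e3, e4, χ, conjC χ, α, β, γ] with hf
  have hsurj : Function.Surjective f := by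
    intro ψ
    by_cases h : 11 ∣ charDegree (ψ : G → ℂ)
    · by_cases h5 : 5 ∣ charDegree (ψ : G → ℂ)
      · have : ψ ∈ T55 := by simp [hT55def, hTdef, h, h5]
        rw [hγ, Finset.mem_singleton] at this
        exact ⟨9, this.symm⟩
      · have : ψ ∈ T' := by simp [hT'def, hTdef, h, h5]
        rw [hT'eq, Finset.mem_insert, Finset.mem_singleton] at this
        rcases this with rfl | rfl
        exacts [⟨7, rfl⟩, ⟨8, rfl⟩]
    · have : ψ ∈ S := by simp [hSdef, h]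
      rw [hS] at this
      simp only [Finset.mem_insert] at this
      rcases this with rfl | rfl | rfl | hψ
      · exact ⟨0, rfl⟩
      · exact ⟨5, rfl⟩
      · exact ⟨6, rfl⟩
      rcases hR45 ψ hψ with h' | h'
      · have : ψ ∈ ({e1, e2, e3} : Finset (IrrCharacter G)) :=
          heq ▸ Finset.mem_filter.2 ⟨hψ, h'⟩
        simp only [Finset.mem_insert, Finset.mem_singleton] at this
        rcases this with rfl | rfl | rfl
        exacts [⟨1, rfl⟩, ⟨2, rfl⟩, ⟨3, rfl⟩]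
      · have : ψ ∈ ({e4} : Finset (IrrCharacter G)) := heq4 ▸ Finset.mem_filter.2 ⟨hψ, h'⟩
        rw [Finset.mem_singleton] at this
        exact ⟨4, this.symm⟩
  have hcardIrr : Fintype.card (IrrCharacter G) = 10 := by
    have h1 := Finset.card_filter_add_card_filter_not
      (s := (Finset.univ : Finset (IrrCharacter G))) (fun ψ : IrrCharacter G => ¬ 11 ∣ charDegree (ψ : G → ℂ))
    have h2 := Finset.card_filter_add_card_filter_not
      (s := T) (fun ψ : IrrCharacter G => ¬ 5 ∣ charDegree (ψ : G → ℂ))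
    rw [← hSdef, ← hTdef, Finset.card_univ] at h1
    rw [← hT'def, ← hT55def, hT'card, hγ, Finset.card_singleton] at h2
    have h7 : S.card = 7 := by
      rw [hSdef, ← Fintype.card_subtype, ← Nat.card_eq_fintype_card, card_eleven hG P]
    omega
  have hbij : Function.Bijective f :=
    (Fintype.bijective_iff_surjective_and_card f).2 ⟨hsurj, by rw [hcardIrr, Fintype.card_fin]⟩
  have hm1 := hmem10 e1 (by simp)
  have hm2 := hmem10 e2 (by simp)
  have hm3 := hmem10 e3 (by simp)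
  have hx10 : ∀ ψ ∈ R, charDegree (ψ : G → ℂ) = 10 → (ψ : G → ℂ) x = -1 := fun ψ hψ h => by
    rcases hdR ψ hψ with ⟨h', hv⟩ | ⟨h', -⟩ | ⟨h', -⟩
    · exact hv
    · omega
    · omega
  have hx45 : ∀ ψ ∈ R, charDegree (ψ : G → ℂ) = 45 → (ψ : G → ℂ) x = 1 := fun ψ hψ h => by
    rcases hdR ψ hψ with ⟨h', -⟩ | ⟨-, hv⟩ | ⟨-, hv⟩
    · omega
    · exact hv
    · exact hv
  have hy5 : ∀ ψ : IrrCharacter G, charDegree (ψ : G → ℂ) = 16 → (ψ : G → ℂ) y = 1 := fun ψ hψ => by
    rcases hmod5 ψ (by rw [hψ]; norm_num) with ⟨hv, -⟩ | ⟨-, hm⟩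
    · exact hv
    · rw [hψ] at hm; norm_num at hm
  refine ⟨f, x, y, hbij, ?_, rfl, rfl, hxo, ?_, ?_, ?_, hyo, ?_, fun Q => (hfive Q).1⟩
  · intro i
    fin_cases i <;>
      simp [hf, degList, princ_degree, hm1.2, hm2.2, hm3.2, h4.2, conjC_degree, ← hd, h16, hα, hβ,
        hγd]
  · intro g hg
    exact not_isConj_inv hG P hx hx1 (isConj_iff.2 ⟨g, hg⟩)
  · intro i hi
    fin_cases i <;>
      simp [hf, princ_apply, hx10 _ hm1.1 hm1.2, hx10 _ hm2.1 hm2.2, hx10 _ hm3.1 hm3.2,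
        hx45 _ h4.1 h4.2, hzero α (hα ▸ dvd_rfl), hzero β (hβ ▸ by norm_num),
        hzero γ (hγd ▸ by norm_num)] at hi ⊢
  · show (χ : G → ℂ) x + conj ((χ : G → ℂ) x) = -1
    rw [hAχ]; norm_num
  · intro i
    fin_cases i <;>
      simp [hf, princ_apply, h5zero e1 (hm1.2 ▸ by norm_num), h5zero e2 (hm2.2 ▸ by norm_num),
        h5zero e3 (hm3.2 ▸ by norm_num), h5zero e4 (h4.2 ▸ by norm_num), hy5 χ (hd ▸ h16),
        hy5 (conjC χ) (by rw [conjC_degree, ← hd, h16]), hαy, hβy, h5zero γ (hγd ▸ by norm_num)]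

end Cfsg.Agent.Lib.Char.O7920
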