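import Cfsg.Agent.Lib.Char.Order7920Involution
import Mathlib.GroupTheory.PGroup

/-!
# The normaliser of a Sylow subgroup for three in a simple group of order 7920
-/

set_option autoImplicit false
set_option linter.unusedSectionVars false
set_option linter.style.haveILetI false

namespace Cfsg.Agent.Lib.Char.O7920

open Cfsg Cfsg.Agent.Lib Cfsg.Agent.Lib.Char Cfsg.Agent.Lib.CharTools Subgroup
open scoped ComplexConjugate

universe u

variable {G : Type u} [Group G] [Finite G]

/-- A scaled class sum is a natural number. -/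
theorem exists_nat_sum_class [Fintype G] (a b c : G) :
    ∃ r : ℕ, ((centralizer ({a} : Set G)).index * (centralizer ({b} : Set G)).index : ℕ) *
      ∑ χ : IrrCharacter G,
        (χ : G → ℂ) a * (χ : G → ℂ) b * conj ((χ : G → ℂ) c) / (χ : G → ℂ) 1 = (r : ℂ) := by
  classical
  refine ⟨∑ u : G, ∑ v : G, (if IsConj u a ∧ IsConj v b ∧ IsConj (u * v) c then
    Nat.card (centralizer ({c} : Set G)) else 0), ?_⟩
  calc _ = ∑ χ : IrrCharacter G,
          (∑ u : G, ∑ v : G, classInd a u * classInd b v * (χ : G → ℂ) (u * v)) *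
            conj ((χ : G → ℂ) c) := by
          rw [Finset.mul_sum]
          refine Finset.sum_congr rfl fun χ _ => ?_
          rw [sum_classes_mul χ.2]; push_cast; ring
      _ = ∑ u : G, ∑ v : G, classInd a u * classInd b v *
            ∑ χ : IrrCharacter G, (χ : G → ℂ) (u * v) * conj ((χ : G → ℂ) c) := by
          simp only [Finset.sum_mul, Finset.mul_sum]
          rw [Finset.sum_comm]
          refine Finset.sum_congr rfl fun u _ => ?_
          rw [Finset.sum_comm]
          exact Finset.sum_congr rfl fun v _ => Finset.sum_congr rfl fun χ _ => by ring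
      _ = _ := by
          push_cast
          refine Finset.sum_congr rfl fun u _ => Finset.sum_congr rfl fun v _ => ?_
          by_cases hu : IsConj u a
          · by_cases hv : IsConj v b
            · rw [classInd_of hu, classInd_of hv, one_mul, one_mul]
              by_cases hw : IsConj (u * v) c
              · rw [if_pos ⟨hu, hv, hw⟩, ← sum_norm c]
                exact Finset.sum_congr rfl fun χ _ => by
                  obtain ⟨g, hg⟩ := isConj_iff.1 hw
                  rw [show (χ : G → ℂ) (u * v) = (χ : G → ℂ) c from by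
                    rw [← hg, isClassFunction_of_isIrr χ.2 (u * v) g]]
              · rw [if_neg fun h => hw h.2.2, sum_orth hw]
            · rw [classInd_of_not hv, mul_zero, zero_mul, if_neg fun h => hv h.2.1]
          · rw [classInd_of_not hu, zero_mul, zero_mul, if_neg fun h => hu h.1]

/-- An element of order three conjugate to its inverse has integral character values, congruent to
the degree modulo three. -/
theorem value_three [Fintype G] {y g : G} (hy : orderOf y = 3) (hg : g * y * g⁻¹ = y⁻¹)
    {χ : G → ℂ} (hχ : IsCharacter G χ) :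
    ∃ v : ℤ, χ y = v ∧ (3 : ℤ) ∣ v - charDegree χ := by
  classical
  obtain ⟨m, hm⟩ := exists_nat_sum_subgroup hχ (zpowers y)
  have hy1 : y ≠ 1 := fun h => by rw [h, orderOf_one] at hy; omega
  have hyi : y⁻¹ ≠ 1 := inv_ne_one.2 hy1
  have hyy : y ≠ y⁻¹ := fun h => by
    have h2 : y ^ 2 = 1 := by rw [pow_two]; nth_rewrite 2 [h]; exact mul_inv_cancel y
    have := Nat.le_of_dvd two_pos (orderOf_dvd_of_pow_eq_one h2)
    omega
  have hset : Finset.univ.filter (· ∈ zpowers y) = {1, y, y⁻¹} := by
    refine (Finset.eq_of_subset_of_card_le (fun z hz => ?_) ?_).symm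
    · refine Finset.mem_filter.2 ⟨Finset.mem_univ z, ?_⟩
      simp only [Finset.mem_insert, Finset.mem_singleton] at hz
      rcases hz with rfl | rfl | rfl
      exacts [one_mem _, mem_zpowers _, inv_mem (mem_zpowers _)]
    · rw [← Fintype.card_subtype, ← Nat.card_eq_fintype_card, Finset.card_eq_three.2
        ⟨1, y, y⁻¹, hy1.symm, hyi.symm, hyy, rfl⟩]
      exact le_of_eq ((Nat.card_zpowers y).trans hy)
  rw [hset, Finset.sum_insert (by simp [hy1.symm, hyi.symm]), Finset.sum_pair hyy, ← hg,
    isClassFunction_of_isCharacter hχ y g, Nat.card_zpowers, hy, apply_one_eq_charDegree hχ] at hm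
  obtain ⟨v, hv⟩ := exists_int_of_mul (char_isIntegral hχ y) (a := 3 * (m : ℤ) - charDegree χ)
    (b := 2) (by norm_num) (by push_cast at hm ⊢; linear_combination hm)
  refine ⟨v, hv, Int.dvd_of_emod_eq_zero ?_⟩
  have : (charDegree χ : ℤ) + 2 * v = 3 * m := by
    have : ((charDegree χ : ℂ) + 2 * v) = 3 * m := by
      rw [← hv]; push_cast at hm; linear_combination hm
    exact_mod_cast this
  omega

private theorem solve3 : ∀ a1 a2 a3 c' : Fin 9,
    let v1 : ℤ := (a1.val : ℤ) - 4
    let v2 : ℤ := (a2.val : ℤ) - 4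
    let v3 : ℤ := (a3.val : ℤ) - 4
    let c : ℤ := (c'.val : ℤ) - 4
    1 - (v1 + v2 + v3) - c = 0 → 0 ≤ 80 - 8 * (v1 * v1 + v2 * v2 + v3 * v3) - 5 * (c * c) →
    (3 : ℤ) ∣ v1 - 1 → (3 : ℤ) ∣ v2 - 1 → (3 : ℤ) ∣ v3 - 1 → (3 : ℤ) ∣ c - 1 →
    ∀ i : Fin 3,
      let vi : ℤ := ![v1, v2, v3] i
      let w : ℤ := -(1 + 3 * c + vi) / 2
      let w4 : ℤ := 1 + 2 * c + w
      2 ∣ 1 + 3 * c + vi → (3 : ℤ) ∣ w - 2 →
      1 + (v1 * v1 + v2 * v2 + v3 * v3) + 2 * (c * c) + w * w + 2 * (w4 * w4) = 18 := by
  decide +kernel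

variable [IsSimpleGroup G]

/-- The centraliser of an element of order three which is conjugate to its inverse. -/
theorem card_centralizer_three (hG : Nat.card G = 7920) {y g : G} (hy : orderOf y = 3)
    (hg : g * y * g⁻¹ = y⁻¹) (h9 : 9 ∣ Nat.card (centralizer ({y} : Set G))) :
    Nat.card (centralizer ({y} : Set G)) = 18 := by
  classical
  haveI := Fintype.ofFinite G
  obtain ⟨f, x, z, hbij, hdeg, h0, h6, hxo, hxinv, hx, hx5, hzo, hz, -⟩ := exists_table hG
  obtain ⟨t, ht⟩ := exists_prime_orderOf_dvd_card' (G := G) 2 (by rw [hG]; norm_num)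
  obtain ⟨-, u1, u2, u3, hu, hut⟩ :=
    involution_column hG hbij hdeg h0 h6 hxo hxinv hx hx5 hzo hz ht
  choose w hw hw3 using fun i => value_three hy hg (isCharacter_of_isIrr (f i).2)
  simp only [hdeg] at hw3
  have hw0 : w 0 = 1 := by
    have h := hw 0
    rw [h0, princ_apply] at h
    exact_mod_cast h.symm
  have hw56 : w 6 = w 5 := by
    have h := hw 6
    rw [h6, conjC_apply, hw 5, map_intCast] at h
    exact_mod_cast h.symm
  have hw4 : w 4 = 0 := by
    have h : (f 4 : G → ℂ) y = 0 := apply_eq_zero_of_defect_zero (f 4).2 (p := 3) Nat.prime_three (by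
      rw [hG, hdeg, show (7920 : ℕ) = 3 ^ 2 * 880 by norm_num,
        Nat.factorization_mul (by norm_num) (by norm_num), Finsupp.add_apply,
        Nat.prime_three.factorization_pow, Finsupp.single_eq_same,
        Nat.factorization_eq_zero_of_not_dvd (show ¬ 3 ∣ 880 by norm_num), add_zero]
      simp [degList]) (by rw [hy])
    rw [hw 4] at h
    exact_mod_cast h
  have hne : ∀ {a : G} {n : ℕ}, orderOf a = n → n ≠ 3 → ¬ IsConj y a := by
    intro a n ha hn h
    obtain ⟨q, hq⟩ := isConj_iff.1 h
    exact hn (by rw [← ha, ← hq, show q * y * q⁻¹ = MulAut.conj q y from rfl,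
      (MulAut.conj q).orderOf_eq, hy])
  have hxv : ∀ i, ![true, true, true, true, true, false, false, true, true, true] i = true →
      conj ((f i : G → ℂ) x) = ((![1, -1, -1, -1, 1, 0, 0, 0, 0, 0] i : ℤ) : ℂ) := fun i hi => by
    rw [hx i hi, map_intCast]
  have hx6 : conj ((f 6 : G → ℂ) x) = (f 5 : G → ℂ) x := by
    rw [h6, conjC_apply, Complex.conj_conj]
  have hA : 1 - (w 1 + w 2 + w 3) - w 5 = 0 := by
    have h := sum_orth (hne hxo (by norm_num))
    rw [sum_ten hbij, hxv 0 rfl, hxv 1 rfl, hxv 2 rfl, hxv 3 rfl, hxv 4 rfl, hxv 7 rfl, hxv 8 rfl,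
      hxv 9 rfl, hx6] at h
    simp only [hw, hw56, hw0, hw4] at h
    have : ((1 - (w 1 + w 2 + w 3) - w 5 : ℤ) : ℂ) = 0 := by
      simp [Matrix.cons_val] at h
      push_cast
      linear_combination h - (w 5 : ℂ) * hx5
    exact_mod_cast this
  have hB : 1 + 2 * w 5 + w 7 - w 8 = 0 := by
    have h := sum_orth (hne hzo (by norm_num))
    rw [sum_ten hbij] at h
    simp only [hw, hz, map_intCast, hw56, hw0, hw4] at h
    have : ((1 + 2 * w 5 + w 7 - w 8 : ℤ) : ℂ) = 0 := by
      simp [Matrix.cons_val] at h
      push_cast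
      linear_combination h
    exact_mod_cast this
  have hd1 : ∀ i, (f i : G → ℂ) 1 = ((degList i : ℤ) : ℂ) := fun i => by
    rw [apply_one_eq_charDegree (isCharacter_of_isIrr (f i).2), hdeg, Int.cast_natCast]
  have hC : 1 + 10 * (w 1 + w 2 + w 3) + 32 * w 5 + 11 * w 7 + 44 * w 8 + 55 * w 9 = 0 := by
    have h := sum_orth (hne (a := (1 : G)) orderOf_one (by norm_num))
    rw [sum_ten hbij] at h
    simp only [hw, hd1, map_intCast, hw56, hw0, hw4] at h
    have : ((1 + 10 * (w 1 + w 2 + w 3) + 32 * w 5 + 11 * w 7 + 44 * w 8 + 55 * w 9 : ℤ) : ℂ) = 0 := by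
      simp [degList, Matrix.cons_val] at h
      push_cast
      linear_combination h
    exact_mod_cast this
  have hT : 1 + (u1 * w 1 + u2 * w 2 + u3 * w 3) + 3 * w 7 + 4 * w 8 - w 9 = 0 := by
    have h := sum_orth (hne ht (by norm_num))
    rw [sum_ten hbij] at h
    simp only [hw, hut, map_intCast, hw56, hw0, hw4] at h
    have : ((1 + (u1 * w 1 + u2 * w 2 + u3 * w 3) + 3 * w 7 + 4 * w 8 - w 9 : ℤ) : ℂ) = 0 := by
      simp [Matrix.cons_val] at h
      push_cast
      linear_combination h
    exact_mod_cast this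
  have hD : (1 + (w 1 * w 1 + w 2 * w 2 + w 3 * w 3) + 2 * (w 5 * w 5) + w 7 * w 7 +
      w 8 * w 8 + w 9 * w 9 : ℤ) = Nat.card (centralizer ({y} : Set G)) := by
    have h := sum_norm y
    rw [sum_ten hbij] at h
    simp only [hw, map_intCast, hw56, hw0, hw4] at h
    have : ((1 + (w 1 * w 1 + w 2 * w 2 + w 3 * w 3) + 2 * (w 5 * w 5) + w 7 * w 7 +
      w 8 * w 8 + w 9 * w 9 : ℤ) : ℂ) = ((Nat.card (centralizer ({y} : Set G)) : ℤ) : ℂ) := by
      push_cast at h ⊢
      linear_combination h
    exact_mod_cast this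
  have hE : 0 ≤ 80 - 8 * (w 1 * w 1 + w 2 * w 2 + w 3 * w 3) - 5 * (w 5 * w 5) := by
    obtain ⟨r, hr⟩ := exists_nat_sum_class y y x
    rw [sum_ten hbij, hxv 0 rfl, hxv 1 rfl, hxv 2 rfl, hxv 3 rfl, hxv 4 rfl, hxv 7 rfl, hxv 8 rfl,
      hxv 9 rfl, hx6] at hr
    simp only [hw, hd1, hw56, hw0, hw4] at hr
    simp [degList, Matrix.cons_val] at hr
    set I := (centralizer ({y} : Set G)).index with hI
    have hpos : (0 : ℤ) < (I : ℤ) * I := by
      have := Nat.pos_of_ne_zero (index_ne_zero_of_finite (H := centralizer ({y} : Set G)))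
      rw [← hI] at this
      positivity
    have h : (((I : ℤ) * I * (80 - 8 * (w 1 * w 1 + w 2 * w 2 + w 3 * w 3) - 5 * (w 5 * w 5)) : ℤ)
        : ℂ) = ((80 * r : ℤ) : ℂ) := by
      push_cast
      linear_combination 80 * hr - (I : ℂ) * I * 5 * ((w 5 : ℂ) * (w 5 : ℂ)) * hx5
    have h' : (I : ℤ) * I * (80 - 8 * (w 1 * w 1 + w 2 * w 2 + w 3 * w 3) - 5 * (w 5 * w 5)) =
        80 * r := by exact_mod_cast h
    exact nonneg_of_mul_nonneg_right (h' ▸ by positivity) hpos
  have hb : ∀ a : ℤ, 5 * (a * a) ≤ 80 → -4 ≤ a ∧ a ≤ 4 := fun a ha =>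
    ⟨by nlinarith, by nlinarith⟩
  have hb1 := hb (w 1) (by nlinarith)
  have hb2 := hb (w 2) (by nlinarith)
  have hb3 := hb (w 3) (by nlinarith)
  have hb5 := hb (w 5) (by nlinarith)
  have h31 := hw3 1; have h32 := hw3 2; have h33 := hw3 3; have h35 := hw3 5; have h37 := hw3 7
  simp [degList] at h31 h32 h33 h35 h37
  have h8 : w 8 = 1 + 2 * w 5 + w 7 := by omega
  have h9 : w 9 = -(1 + 2 * w 5 + w 7) := by omega
  have key : ∀ i : Fin 3, ![w 1, w 2, w 3] i = -1 - 3 * w 5 - 2 * w 7 →
      (Nat.card (centralizer ({y} : Set G)) : ℤ) = 18 := by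
    intro i hi
    rw [← hD, h8, h9]
    have h := solve3 ⟨(w 1 + 4).toNat, by omega⟩ ⟨(w 2 + 4).toNat, by omega⟩
      ⟨(w 3 + 4).toNat, by omega⟩ ⟨(w 5 + 4).toNat, by omega⟩
    simp only at h
    rw [show ((w 1 + 4).toNat : ℤ) - 4 = w 1 by omega, show ((w 2 + 4).toNat : ℤ) - 4 = w 2 by omega,
      show ((w 3 + 4).toNat : ℤ) - 4 = w 3 by omega,
      show ((w 5 + 4).toNat : ℤ) - 4 = w 5 by omega] at h
    have h' := h (by omega) hE (Int.dvd_of_emod_eq_zero (by omega))
      (Int.dvd_of_emod_eq_zero (by omega)) (Int.dvd_of_emod_eq_zero (by omega))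
      (Int.dvd_of_emod_eq_zero (by omega)) i
    rw [hi] at h'
    have e : -(1 + 3 * w 5 + (-1 - 3 * w 5 - 2 * w 7)) / 2 = w 7 := by omega
    rw [e] at h'
    rw [← h' ⟨-w 7, by ring⟩ (Int.dvd_of_emod_eq_zero (by omega))]
    ring
  have fin : (Nat.card (centralizer ({y} : Set G)) : ℤ) = 18 := by
    rcases hu with ⟨rfl, rfl, rfl⟩ | ⟨rfl, rfl, rfl⟩ | ⟨rfl, rfl, rfl⟩
    · exact key 0 (by simp; omega)
    · exact key 1 (by simp; omega)
    · exact key 2 (by simp; omega)
  exact_mod_cast fin

/-- An element of order five or eleven centralises no element of order three. -/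
theorem not_three_dvd (hG : Nat.card G = 7920) {p : ℕ} (hp : p = 5 ∨ p = 11) {g : G}
    (hg : orderOf g = p) : ¬ 3 ∣ Nat.card (centralizer ({g} : Set G)) := by
  have hpp : p.Prime := by rcases hp with rfl | rfl <;> norm_num
  haveI := Fact.mk hpp
  obtain ⟨Q, hQ⟩ := (IsPGroup.of_card (p := p) (n := 1)
    (G := zpowers g) (by rw [Nat.card_zpowers, hg, pow_one])).exists_le_sylow
  have hgQ : g ∈ (Q : Subgroup G) := hQ (mem_zpowers g)
  have hg1 : g ≠ 1 := fun h => by rw [h, orderOf_one] at hg; exact hpp.ne_one hg.symm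
  rcases hp with rfl | rfl
  · obtain ⟨-, -, -, -, -, -, -, -, -, -, -, -, -, hC⟩ := exists_table hG
    rw [centralizer_singleton_eq hpp _ (card_sylow_five hG Q) hgQ hg1, hC Q, card_sylow_five hG Q]
    norm_num
  · rw [centralizer_singleton_eq hpp _ (card_sylow_eleven hG Q) hgQ hg1, (eleven hG Q).1,
      card_sylow_eleven hG Q]
    norm_num

private theorem cases_three : ∀ k ∈ Nat.divisors 880, k % 3 = 1 → 5 ∣ k → 11 ∣ k →
    k = 55 ∨ k = 220 ∨ k = 880 := by decide +kernel

/-- The normaliser of a Sylow subgroup for three has order 144. -/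
theorem card_normalizer_three (hG : Nat.card G = 7920) (P : Sylow 3 G) :
    Nat.card (normalizer ((P : Subgroup G) : Set G)) = 144 := by
  classical
  haveI := Fintype.ofFinite G
  haveI : Fact (Nat.Prime 3) := ⟨Nat.prime_three⟩
  have hP : Nat.card (P : Subgroup G) = 9 :=
    (SmallSimple.card_sylow_subgroup P (k := 2) (m := 880) (by rw [hG]; norm_num) (by norm_num)).trans
      (by norm_num)
  have hmc : IsMulCommutative (P : Subgroup G) :=
    IsPGroup.isMulCommutative_of_card_eq_prime_sq (p := 3) (by rw [hP]; norm_num)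
  set N := normalizer ((P : Subgroup G) : Set G) with hNdef
  haveI := Fintype.ofFinite N
  haveI := Fintype.ofFinite (P : Subgroup G)
  set φ : N →* MulAut (P : Subgroup G) := (P : Subgroup G).normalizerMonoidHom with hφ
  have hφapp : ∀ (n : N) (q : (P : Subgroup G)), ((φ n q : (P : Subgroup G)) : G) =
      (n : G) * q * (n : G)⁻¹ := fun _ _ => rfl
  have hN : Nat.card N * Nat.card (Sylow 3 G) = 7920 := card_normalizer_eq hG P
  -- five and eleven do not divide the order of the normaliser
  have hnp : ∀ p, (p = 5 ∨ p = 11) → ¬ p ∣ Nat.card N := by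
    intro p hp hd
    have hpp : p.Prime := by rcases hp with rfl | rfl <;> norm_num
    haveI := Fact.mk hpp
    obtain ⟨g, hg⟩ := exists_prime_orderOf_dvd_card' p hd
    let e : Function.End (P : Subgroup G) := fun q => φ g q
    have hpow : e ^ p ^ 1 = 1 := by
      have h1 : ∀ j : ℕ, ∀ q, (e ^ j) q = φ (g ^ j) q := by
        intro j
        induction j with
        | zero => intro q; rw [pow_zero, pow_zero, map_one]; rfl
        | succ j ih =>
          intro q
          rw [pow_succ, pow_succ, map_mul]
          exact ih (φ g q)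
      funext q
      rw [pow_one, h1, ← hg, pow_orderOf_eq_one, map_one]
      rfl
    have hmod := Equiv.Perm.card_fixedPoints_modEq hpow
    rw [← Nat.card_eq_fintype_card, hP] at hmod
    have h1 : Fintype.card (Function.fixedPoints e) ≠ 1 := by
      intro h
      rw [h, Nat.ModEq] at hmod
      rcases hp with rfl | rfl <;> norm_num at hmod
    obtain ⟨q, hq, hq1⟩ : ∃ q : (P : Subgroup G), φ g q = q ∧ q ≠ 1 := by
      by_contra hcon
      push Not at hcon
      refine h1 (Fintype.card_eq_one_iff.2 ⟨⟨1, show φ g 1 = 1 from map_one _⟩, fun a => ?_⟩)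
      exact Subtype.ext (hcon a.1 a.2)
    refine not_three_dvd hG hp (g := (g : G)) (by rw [Subgroup.orderOf_coe, hg]) ?_
    have hmem : (q : G) ∈ centralizer ({(g : G)} : Set G) := by
      rw [mem_centralizer_singleton_iff]
      have h := congrArg Subtype.val hq
      rw [hφapp, mul_inv_eq_iff_eq_mul] at h
      exact h.symm
    refine Dvd.dvd.trans ?_ (orderOf_dvd_natCard (⟨_, hmem⟩ : centralizer ({(g : G)} : Set G)))
    rw [Subgroup.orderOf_mk, Subgroup.orderOf_coe]
    obtain ⟨k, -, hk⟩ := (Nat.dvd_prime_pow Nat.prime_three).1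
      (show orderOf q ∣ 3 ^ 2 by have h := orderOf_dvd_natCard q; rwa [hP] at h)
    rcases k with - | k
    · exact absurd (orderOf_eq_one_iff.1 (hk.trans (pow_zero 3))) hq1
    · rw [hk, pow_succ]; exact dvd_mul_left 3 _
  obtain ⟨-, hmod3, -⟩ := SmallSimple.card_sylow_facts (p := 3) (nc hG) (by rw [hG]; norm_num)
  have hdvd : Nat.card (Sylow 3 G) ∣ 880 := by
    have h := P.card_dvd_index
    have hidx : (P : Subgroup G).index = 880 := by
      have := (P : Subgroup G).card_mul_index
      rw [hP, hG] at this; omega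
    rwa [hidx] at h
  have h7920 : ∀ p, p = 5 ∨ p = 11 → p ∣ Nat.card (Sylow 3 G) := by
    intro p hp
    have hpp : p.Prime := by rcases hp with rfl | rfl <;> norm_num
    have : p ∣ Nat.card N * Nat.card (Sylow 3 G) := by
      rw [hN]; rcases hp with rfl | rfl <;> norm_num
    exact (hpp.dvd_mul.1 this).resolve_left (hnp p hp)
  rcases cases_three _ (Nat.mem_divisors.2 ⟨hdvd, by norm_num⟩) (hmod3 : _)
    (h7920 5 (Or.inl rfl)) (h7920 11 (Or.inr rfl)) with hn | hn | hn
  · rw [hn] at hN; omega
  all_goals exfalso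
  · rw [hn] at hN
    have hN36 : Nat.card N = 36 := by omega
    have hker : φ.ker = (centralizer ((P : Subgroup G) : Set G)).subgroupOf N :=
      Subgroup.normalizerMonoidHom_ker _
    have hPker : (P : Subgroup G).subgroupOf N ≤ φ.ker := by
      rw [hker]
      intro a ha
      rw [mem_subgroupOf, mem_centralizer_iff]
      intro b hb
      exact congrArg Subtype.val (hmc.is_comm.comm (⟨b, hb⟩ : (P : Subgroup G)) ⟨a, ha⟩)
    have hPN : Nat.card ((P : Subgroup G).subgroupOf N) = 9 := by
      rw [Nat.card_congr (subgroupOfEquivOfLe le_normalizer).toEquiv, hP]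
    have h9 := card_dvd_of_le hPker
    rw [hPN] at h9
    have hkerN : Nat.card φ.ker ∣ 36 := hN36 ▸ card_subgroup_dvd_card φ.ker
    have hkne : Nat.card φ.ker ≠ 36 := by
      intro h
      apply SmallSimple.not_normalizer_le_centralizer (nc hG) P (by rw [hG]; norm_num)
      intro n hn
      have : (⟨n, hn⟩ : N) ∈ φ.ker := by
        rw [eq_top_of_card_eq _ (h.trans hN36.symm)]; exact mem_top _
      rwa [hker, mem_subgroupOf] at this
    have hk18 : Nat.card φ.ker ≠ 18 := by
      intro h
      obtain ⟨⟨s, hs⟩, hso⟩ := exists_prime_orderOf_dvd_card' (G := φ.ker) 2 (by rw [h]; norm_num)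
      rw [hker, mem_subgroupOf] at hs
      rw [Subgroup.orderOf_mk, ← Subgroup.orderOf_coe] at hso
      have hle : (P : Subgroup G) ≤ centralizer ({(s : G)} : Set G) := fun a ha =>
        mem_centralizer_singleton_iff.2 ((mem_centralizer_iff.1 hs a ha))
      have := card_dvd_of_le hle
      rw [hP, card_centralizer_involution hG hso] at this
      norm_num at this
    have hk : Nat.card φ.ker = 9 := by
      have : Nat.card φ.ker ∈ Nat.divisors 36 := Nat.mem_divisors.2 ⟨hkerN, by norm_num⟩
      obtain ⟨r, hr⟩ := h9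
      have hle := Nat.le_of_dvd (by norm_num) hkerN
      have : r ≤ 4 := by omega
      rw [hr] at hkerN hkne hk18 ⊢
      interval_cases r <;> first | omega | norm_num at hkerN
    have hkerP : φ.ker = (P : Subgroup G).subgroupOf N :=
      (eq_of_le_of_card_ge hPker (by rw [hk, hPN])).symm
    have hA : Fintype.card φ.range = 4 := by
      have h := φ.ker.card_mul_index
      rw [hk, hN36, index_ker] at h
      rw [← Nat.card_eq_fintype_card]
      omega
    -- an element with trivial stabiliser
    obtain ⟨y, hy1, hfree⟩ : ∃ y : (P : Subgroup G), y ≠ 1 ∧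
        ∀ a : φ.range, a ≠ 1 → (a : MulAut (P : Subgroup G)) y ≠ y := by
      by_contra hcon
      push Not at hcon
      have hsub : (Finset.univ.erase (1 : (P : Subgroup G))) ⊆ (Finset.univ.erase (1 : φ.range)).biUnion
          fun a => (Finset.univ.filter fun q => (a : MulAut (P : Subgroup G)) q = q).erase 1 := by
        intro q hq
        obtain ⟨a, ha, hfix⟩ := hcon q (Finset.ne_of_mem_erase hq)
        exact Finset.mem_biUnion.2 ⟨a, Finset.mem_erase.2 ⟨ha, Finset.mem_univ a⟩,
          Finset.mem_erase.2 ⟨Finset.ne_of_mem_erase hq, Finset.mem_filter.2 ⟨Finset.mem_univ q, hfix⟩⟩⟩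
      have hcard := (Finset.card_le_card hsub).trans
        (Finset.card_biUnion_le_card_mul (Finset.univ.erase (1 : φ.range)) _ 2 fun a ha => ?_)
      · rw [Finset.card_erase_of_mem (Finset.mem_univ _), Finset.card_univ, ← Nat.card_eq_fintype_card,
          hP, Finset.card_erase_of_mem (Finset.mem_univ _), Finset.card_univ, hA] at hcard
        omega
      · have ha1 : (a : MulAut (P : Subgroup G)) ≠ 1 := fun h =>
          Finset.ne_of_mem_erase ha (Subtype.ext h)
        let F : Subgroup (P : Subgroup G) :=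
          { carrier := {q | (a : MulAut (P : Subgroup G)) q = q}
            one_mem' := map_one _
            mul_mem' := fun {q r} hq hr => show (a : MulAut (P : Subgroup G)) (q * r) = q * r by
              rw [map_mul, hq, hr]
            inv_mem' := fun {q} hq => show (a : MulAut (P : Subgroup G)) q⁻¹ = q⁻¹ by rw [map_inv, hq] }
        have hF : Nat.card F ∣ 3 ^ 2 := by
          have h := card_subgroup_dvd_card F
          rwa [hP] at h
        obtain ⟨k, hk2, hk⟩ := (Nat.dvd_prime_pow Nat.prime_three).1 hF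
        have hne9 : k ≠ 2 := by
          rintro rfl
          refine ha1 (MulEquiv.ext fun q => ?_)
          have : q ∈ F := by
            rw [eq_top_of_card_eq F (hk.trans (by rw [hP]; norm_num))]; exact mem_top q
          exact this
        have hle3 : Nat.card F ≤ 3 := by
          rw [hk]; calc 3 ^ k ≤ 3 ^ 1 := Nat.pow_le_pow_right (by norm_num) (by omega)
            _ = 3 := by norm_num
        have hcF : (Finset.univ.filter fun q => (a : MulAut (P : Subgroup G)) q = q).card ≤ 3 := by
          refine le_trans (le_of_eq ?_) hle3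
          rw [Nat.card_eq_fintype_card, Fintype.card_subtype]
          exact congrArg Finset.card (Finset.ext fun q => by simp [F])
        have h1F : (1 : (P : Subgroup G)) ∈
            Finset.univ.filter fun q => (a : MulAut (P : Subgroup G)) q = q :=
          Finset.mem_filter.2 ⟨Finset.mem_univ _, map_one _⟩
        have := Finset.card_erase_of_mem h1F
        omega
    -- it is conjugate to its inverse
    obtain ⟨a, hay⟩ : ∃ a : φ.range, (a : MulAut (P : Subgroup G)) y = y⁻¹ := by
      by_contra hcon
      push Not at hcon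
      have happ : ∀ (a b : φ.range) (q : (P : Subgroup G)),
          ((a * b : φ.range) : MulAut (P : Subgroup G)) q =
            (a : MulAut (P : Subgroup G)) ((b : MulAut (P : Subgroup G)) q) := fun _ _ _ => rfl
      have hinj : ∀ a b : φ.range, (a : MulAut (P : Subgroup G)) y = (b : MulAut (P : Subgroup G)) y →
          a = b := by
        intro a b h
        by_contra hab
        refine hfree (b⁻¹ * a) (fun h' => hab (inv_mul_eq_one.1 h').symm) ?_
        rw [happ, h, ← happ, inv_mul_cancel]; rfl
      set O1 := Finset.univ.image fun a : φ.range => (a : MulAut (P : Subgroup G)) y with hO1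
      set O2 := Finset.univ.image fun a : φ.range => ((a : MulAut (P : Subgroup G)) y)⁻¹ with hO2
      have hd : Disjoint O1 O2 := by
        rw [Finset.disjoint_left]
        intro q hq hq'
        obtain ⟨a, -, rfl⟩ := Finset.mem_image.1 hq
        obtain ⟨b, -, hb⟩ := Finset.mem_image.1 hq'
        refine hcon (a⁻¹ * b) ?_
        rw [happ]
        have : (b : MulAut (P : Subgroup G)) y = (a : MulAut (P : Subgroup G)) y⁻¹ := by
          rw [map_inv, ← hb, inv_inv]
        rw [this, ← happ, inv_mul_cancel]; rfl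
      have hcover : O1 ∪ O2 = Finset.univ.erase 1 := by
        refine Finset.eq_of_subset_of_card_le (fun q hq => ?_) ?_
        · refine Finset.mem_erase.2 ⟨?_, Finset.mem_univ q⟩
          rcases Finset.mem_union.1 hq with h | h
          · obtain ⟨a, -, rfl⟩ := Finset.mem_image.1 h
            exact fun h' => hy1 ((map_eq_one_iff _ (MulEquiv.injective _)).1 h')
          · obtain ⟨a, -, rfl⟩ := Finset.mem_image.1 h
            exact fun h' => hy1 ((map_eq_one_iff _ (MulEquiv.injective _)).1 (inv_eq_one.1 h'))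
        · rw [Finset.card_union_of_disjoint hd, Finset.card_image_of_injective _ (fun a b h => hinj a b h),
            Finset.card_image_of_injective _ (fun a b h => hinj a b (inv_injective h)),
            Finset.card_erase_of_mem (Finset.mem_univ _), Finset.card_univ, Finset.card_univ, hA,
            ← Nat.card_eq_fintype_card, hP]
      have hall : ∀ q : (P : Subgroup G), q ≠ 1 → ∀ s : φ.range,
          (s : MulAut (P : Subgroup G)) q = q → s = 1 := by
        intro q hq s hs
        have hq' : q ∈ O1 ∪ O2 := by rw [hcover]; exact Finset.mem_erase.2 ⟨hq, Finset.mem_univ q⟩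
        obtain ⟨b, hb⟩ : ∃ b : φ.range,
            (s : MulAut (P : Subgroup G)) ((b : MulAut (P : Subgroup G)) y) =
              (b : MulAut (P : Subgroup G)) y := by
          rcases Finset.mem_union.1 hq' with h | h
          · obtain ⟨b, -, rfl⟩ := Finset.mem_image.1 h
            exact ⟨b, hs⟩
          · obtain ⟨b, -, rfl⟩ := Finset.mem_image.1 h
            rw [map_inv] at hs
            exact ⟨b, inv_injective hs⟩
        have := hinj (s * b) b (by rw [happ]; exact hb)
        exact mul_eq_right.1 this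
      obtain ⟨s, hs⟩ := exists_prime_orderOf_dvd_card' (G := φ.range) 2
        (by rw [Nat.card_eq_fintype_card, hA]; norm_num)
      have hs1 : s ≠ 1 := fun h => by rw [h, orderOf_one] at hs; omega
      have hss : (s : MulAut (P : Subgroup G)) ((s : MulAut (P : Subgroup G)) y) = y := by
        rw [← happ, ← pow_two, ← hs, pow_orderOf_eq_one]; rfl
      refine hcon s ?_
      by_contra hne
      refine hs1 (hall (y * (s : MulAut (P : Subgroup G)) y) (fun h => hne ?_) s ?_)
      · exact (inv_eq_of_mul_eq_one_right h).symm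
      · rw [map_mul, hss]; exact hmc.is_comm.comm _ _
    obtain ⟨n, hn'⟩ := (MonoidHom.mem_range.1 a.2)
    have hyinv : (n : G) * y * (n : G)⁻¹ = (y : G)⁻¹ := by
      rw [← hφapp, hn', hay]; rfl
    have hy3 : orderOf (y : G) = 3 := by
      rw [Subgroup.orderOf_coe]
      obtain ⟨k, hk2, hk⟩ := (Nat.dvd_prime_pow Nat.prime_three).1
        (show orderOf y ∣ 3 ^ 2 by have h := orderOf_dvd_natCard y; rwa [hP] at h)
      interval_cases k
      · exact absurd (orderOf_eq_one_iff.1 (hk.trans (pow_zero 3))) hy1
      · simpa using hk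
      · -- a generator of a cyclic group of order nine has no free orbit
        exfalso
        have hgen : ∀ q, q ∈ zpowers y := fun q => by
          rw [eq_top_of_card_eq (zpowers y) (by rw [Nat.card_zpowers, hk, hP]; norm_num)]
          exact mem_top q
        have hinj : Function.Injective fun a : φ.range =>
            (⟨(a : MulAut (P : Subgroup G)) y, Finset.mem_filter.2 ⟨Finset.mem_univ _, by
              rw [MulEquiv.orderOf_eq, hk]⟩⟩ :
              (Finset.univ.filter fun q : (P : Subgroup G) => orderOf q = 3 ^ 2)) := by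
          intro a b h
          have h' := congrArg Subtype.val h
          simp only at h'
          refine Subtype.ext (MulEquiv.ext fun q => ?_)
          obtain ⟨j, rfl⟩ := hgen q
          simp only [map_zpow, h']
        haveI : IsCyclic (P : Subgroup G) := ⟨⟨y, hgen⟩⟩
        have hc6 : Nat.card (MulAut (P : Subgroup G)) = 6 := by
          rw [IsCyclic.card_mulAut, hP]; decide
        have h4 := card_subgroup_dvd_card φ.range
        rw [hc6, Nat.card_eq_fintype_card, hA] at h4
        norm_num at h4
    have hPy : (P : Subgroup G) ≤ centralizer ({(y : G)} : Set G) := fun b hb =>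
      mem_centralizer_singleton_iff.2
        (congrArg Subtype.val (hmc.is_comm.comm (⟨b, hb⟩ : (P : Subgroup G)) y))
    have h9y := card_dvd_of_le hPy
    rw [hP] at h9y
    have h18 := card_centralizer_three hG hy3 hyinv h9y
    set C := centralizer ({(y : G)} : Set G) with hC
    have hidx : ((P : Subgroup G).subgroupOf C).index = 2 := by
      have h := ((P : Subgroup G).subgroupOf C).card_mul_index
      rw [Nat.card_congr (subgroupOfEquivOfLe hPy).toEquiv, hP, h18] at h
      omega
    haveI := Subgroup.normal_of_index_eq_two hidx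
    have hCN : C ≤ N := by
      rw [hNdef, ← normal_subgroupOf_iff_le_normalizer hPy]
      infer_instance
    have hCker : C.subgroupOf N ≤ φ.ker := by
      intro c hc
      rw [mem_subgroupOf] at hc
      by_contra hck
      refine hfree ⟨φ c, ⟨c, rfl⟩⟩ (fun h => hck (MonoidHom.mem_ker.2 (congrArg Subtype.val h))) ?_
      refine Subtype.ext ?_
      rw [hφapp, mul_inv_eq_iff_eq_mul]
      exact (mem_centralizer_singleton_iff.1 hc)
    have := card_dvd_of_le hCker
    rw [Nat.card_congr (subgroupOfEquivOfLe hCN).toEquiv, h18, hk] at this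
    norm_num at this
  · rw [hn] at hN
    apply SmallSimple.not_normalizer_le_centralizer (nc hG) P (by rw [hG]; norm_num)
    have hPN : (P : Subgroup G) = N := eq_of_le_of_card_ge le_normalizer (by omega)
    intro a ha
    rw [← hNdef, ← hPN] at ha
    rw [mem_centralizer_iff]
    intro b hb
    exact congrArg Subtype.val (hmc.is_comm.comm (⟨b, hb⟩ : (P : Subgroup G)) ⟨a, ha⟩)

end Cfsg.Agent.Lib.Char.O7920
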