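import Cfsg.Agent.Lib.Char.Order7920Sylow
import Cfsg.Agent.Lib.CharTools.ClassMult
import Cfsg.Agent.Lib.Char.Scalar
import Cfsg.Agent.Lib.Char.Regular
import Cfsg.Agent.Lib.Char.Degree
import Cfsg.Agent.Lib.Char.Linear
import Cfsg.Agent.Lib.CharClifford.Basic

/-!
# Character values at elements of prime order and at involutions in a simple group
-/

set_option autoImplicit false
set_option linter.unusedSectionVars false
set_option linter.style.haveILetI false

namespace Cfsg.Agent.Lib.Char.O7920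

open Cfsg Cfsg.Agent.Lib Cfsg.Agent.Lib.Char Cfsg.Agent.Lib.CharClifford Cfsg.Agent.Lib.CharTools Subgroup
open scoped ComplexConjugate commutatorElement

universe u

variable {G : Type u} [Group G] [Finite G]

/-- An algebraic integer with an integral multiple equal to an integer is an integer. -/
theorem exists_int_of_mul {z : ℂ} (hz : IsIntegral ℤ z) {a b : ℤ} (hb : b ≠ 0)
    (h : (b : ℂ) * z = a) : ∃ r : ℤ, z = r := by
  have hb' : (b : ℂ) ≠ 0 := Int.cast_ne_zero.2 hb
  have hq : z = ((a / b : ℚ) : ℂ) := by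
    push_cast
    rw [eq_div_iff hb', ← h, mul_comm]
  rw [hq] at hz ⊢
  obtain ⟨r, hr⟩ := exists_int_of_isIntegral hz
  exact ⟨r, by rw [hr, Rat.cast_intCast]⟩

/-- A nonprincipal irreducible character of a simple group only takes its degree at one. -/
theorem eq_one_of_apply_eq [IsSimpleGroup G] (χ : IrrCharacter G)
    (hne : (χ : G → ℂ) ≠ fun _ => 1) {g : G} (hg : (χ : G → ℂ) g = (χ : G → ℂ) 1) : g = 1 := by
  have := Fintype.ofFinite G
  have hc := isCharacter_of_isIrr χ.2
  rcases (charKer_normal hc).eq_bot_or_eq_top with h | h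
  · have hm : g ∈ charKer (χ : G → ℂ) := (mem_charKer hc).2 hg
    rwa [h, mem_bot] at hm
  · exfalso
    apply hne
    have hall : ∀ y, (χ : G → ℂ) y = (χ : G → ℂ) 1 := fun y => (mem_charKer hc).1 (h ▸ mem_top y)
    have hin : classInner (χ : G → ℂ) (fun _ => 1) = (χ : G → ℂ) 1 := by
      rw [classInner, Finset.sum_congr rfl fun y _ => by rw [hall y, map_one, mul_one],
        Finset.sum_const, nsmul_eq_mul, Finset.card_univ, ← Nat.card_eq_fintype_card, ← mul_assoc,
        inv_mul_cancel₀ (card_ne_zero_complex G), one_mul]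
    by_contra hne'
    exact irr_degree_ne_zero χ.2 (hin ▸ classInner_irr_ne χ.2 isIrrCharacter_one hne')

/-- A nonprincipal irreducible character never has a value of full norm at a nontrivial element. -/
theorem norm_ne [IsSimpleGroup G] (hnc : ¬ IsMulCommutative G) (χ : IrrCharacter G)
    (hne : (χ : G → ℂ) ≠ fun _ => 1) {t : G} (ht : t ≠ 1) :
    ‖(χ : G → ℂ) t‖ ≠ ‖(χ : G → ℂ) 1‖ := by
  have := Fintype.ofFinite G
  intro h
  have hc := isCharacter_of_isIrr χ.2
  have h0 := irr_degree_ne_zero χ.2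
  have hcen : t ∈ center G := by
    rw [mem_center_iff]
    intro g
    have hg : ⁅t, g⁆ = 1 := by
      refine eq_one_of_apply_eq χ hne ?_
      have h1 := (apply_mul_of_norm_eq hc h (g * t⁻¹ * g⁻¹)).1
      rw [isClassFunction_of_isCharacter hc t⁻¹ g, char_inv hc, Complex.mul_conj'] at h1
      have h2 : t * (g * t⁻¹ * g⁻¹) = ⁅t, g⁆ := by rw [commutatorElement_def]; group
      rw [h2, h] at h1
      have h3 : ((‖(χ : G → ℂ) 1‖ : ℂ)) ^ 2 = (χ : G → ℂ) 1 * (χ : G → ℂ) 1 := by
        rw [apply_one_eq_charDegree hc, Complex.norm_natCast, Complex.ofReal_natCast, pow_two]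
      rw [h3] at h1
      exact mul_right_cancel₀ h0 h1
    exact (commutatorElement_eq_one_iff_mul_comm.1 hg).symm
  rcases (inferInstance : (center G).Normal).eq_bot_or_eq_top with h' | h'
  · rw [h', mem_bot] at hcen
    exact ht hcen
  · exact hnc (Subgroup.center_eq_top_iff.1 h')

/-- In a perfect group the value at an involution is congruent to the degree modulo four. -/
theorem exists_mod_four (hperf : commutator G = ⊤) (χ : IrrCharacter G) {t : G}
    (ht : orderOf t = 2) :
    ∃ k : ℕ, (χ : G → ℂ) t = (charDegree (χ : G → ℂ) : ℂ) - 4 * k ∧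
      2 * k ≤ charDegree (χ : G → ℂ) := by
  classical
  obtain ⟨n, ρ, -, hρ, -, -⟩ := exists_detHom χ.2
  obtain ⟨b, μ, hμ, hk, hc⟩ := exists_eigenbasis ρ t
  have hdet : LinearMap.det (ρ t) = 1 := by
    have h := Abelianization.commutator_subset_ker (detHom ρ) (hperf ▸ mem_top t)
    rw [← detHom_apply, MonoidHom.mem_ker.1 h, Units.val_one]
  have hprod : ∏ i, μ i = 1 := by
    rw [← hdet, ← LinearMap.det_toMatrix b]
    have hd : LinearMap.toMatrix b b (ρ t) = Matrix.diagonal μ := by
      ext i j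
      have hj := hk j 1
      rw [pow_one, pow_one] at hj
      rw [LinearMap.toMatrix_apply, hj, map_smul, Module.Basis.repr_self, Finsupp.smul_single, smul_eq_mul,
        mul_one, Matrix.diagonal_apply, Finsupp.single_apply]
      by_cases hij : i = j
      · subst hij; simp
      · simp [hij, Ne.symm hij]
    rw [hd, Matrix.det_diagonal]
  have hpm : ∀ i, μ i = 1 ∨ μ i = -1 := fun i => by
    have h := hμ i; rw [ht, pow_two] at h; exact mul_self_eq_one_iff.1 h
  set S := Finset.univ.filter fun i => μ i = -1 with hS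
  have hp : ∏ i, μ i = (-1) ^ S.card := by
    rw [← Finset.prod_const, hS, Finset.prod_filter]
    exact Finset.prod_congr rfl fun i _ => by rcases hpm i with h | h <;> rw [h] <;> norm_num
  have heven : Even S.card := (neg_one_pow_eq_one_iff_even (by norm_num)).1 (hp ▸ hprod)
  obtain ⟨k, hk'⟩ := heven
  refine ⟨k, ?_, ?_⟩
  rotate_left
  · have hle := Finset.card_le_univ S
    rw [hk', Fintype.card_fin] at hle
    have h0 := hc 0
    simp only [pow_zero, Finset.sum_const, Finset.card_univ, Fintype.card_fin, nsmul_eq_mul, mul_one] at h0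
    rw [hρ, apply_one_eq_charDegree (isCharacter_of_isIrr χ.2), Nat.cast_inj] at h0
    omega
  have h1 : ρ.character t = ∑ i, μ i := by simpa using hc 1
  have h0 : (charDegree (χ : G → ℂ) : ℂ) = ∑ _i : Fin (Module.finrank ℂ (Fin n → ℂ)), (1 : ℂ) := by
    have := hc 0
    simp only [pow_zero] at this
    rw [← apply_one_eq_charDegree (isCharacter_of_isIrr χ.2), ← hρ, this]
  have hsum : ∑ i, (1 - μ i) = 2 * (S.card : ℂ) := by
    rw [Finset.card_eq_sum_ones, Nat.cast_sum, Finset.mul_sum, hS, Finset.sum_filter]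
    exact Finset.sum_congr rfl fun i _ => by rcases hpm i with h | h <;> rw [h] <;> norm_num
  rw [h0, ← hρ, h1]
  rw [Finset.sum_sub_distrib, hk'] at hsum
  push_cast at hsum
  linear_combination -hsum

/-- The nontrivial elements of a self-centralising subgroup of prime order conjugate to a given
one. -/
theorem exists_orbit [Fintype G] [DecidableEq G] {p e : ℕ} (hp : p.Prime) (P : Subgroup G)
    (hP : Nat.card P = p) (hC : centralizer (P : Set G) = P)
    (hN : Nat.card (normalizer (P : Set G)) = p * e) {x : G} (hx : x ∈ P) (hx1 : x ≠ 1) :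
    ∃ O : Finset G, O.card = e ∧
      ∀ y ∈ O, y ∈ P ∧ y ≠ 1 ∧ ∃ g ∈ normalizer (P : Set G), g * x * g⁻¹ = y := by
  classical
  haveI := Fintype.ofFinite (normalizer (P : Set G))
  have hgen : zpowers x = P := eq_of_le_of_card_ge (zpowers_le.2 hx) (by
    rw [hP, Nat.card_zpowers]
    have h := orderOf_dvd_natCard (⟨x, hx⟩ : P)
    rw [hP, orderOf_mk] at h
    rcases hp.eq_one_or_self_of_dvd _ h with h' | h'
    · exact absurd (orderOf_eq_one_iff.1 h') hx1
    · exact h'.ge)
  set f : normalizer (P : Set G) → G := fun g => (g : G) * x * (g : G)⁻¹ with hf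
  refine ⟨Finset.univ.image f, ?_, ?_⟩
  · have hfib : ∀ y ∈ Finset.univ.image f, (Finset.univ.filter fun g => f g = y).card = p := by
      intro y hy
      obtain ⟨g0, -, rfl⟩ := Finset.mem_image.1 hy
      rw [← hP, Nat.card_eq_fintype_card, ← Finset.card_univ]
      refine Finset.card_bij'
        (fun g hg' => (⟨(g0 : G)⁻¹ * g, ?_⟩ : P))
        (fun z _ => g0 * ⟨(z : G), le_normalizer z.2⟩) (fun _ _ => Finset.mem_univ _) ?_ ?_ ?_
      · suffices h : (g0 : G)⁻¹ * g ∈ centralizer ((zpowers x : Subgroup G) : Set G) by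
          rw [hgen] at h; exact hC.le h
        rw [mem_centralizer_iff]
        have hg : (g : G) * x * (g : G)⁻¹ = (g0 : G) * x * (g0 : G)⁻¹ := (Finset.mem_filter.1 hg').2
        rintro w ⟨j, rfl⟩
        refine ((show Commute x ((g0 : G)⁻¹ * g) from ?_).zpow_left j).eq
        show x * ((g0 : G)⁻¹ * g) = (g0 : G)⁻¹ * g * x
        calc x * ((g0 : G)⁻¹ * g) = (g0 : G)⁻¹ * ((g0 : G) * x * (g0 : G)⁻¹) * g := by group
          _ = (g0 : G)⁻¹ * ((g : G) * x * (g : G)⁻¹) * g := by rw [hg]
          _ = (g0 : G)⁻¹ * g * x := by group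
      · intro z _
        simp only [Finset.mem_filter, Finset.mem_univ, true_and, hf, Subgroup.coe_mul]
        have hcomm : (z : G) * x = x * z := by
          have : IsCyclic P := by
            rw [← hgen]; exact Subgroup.isCyclic_zpowers x
          exact congrArg Subtype.val ((IsCyclic.isMulCommutative).is_comm.comm z ⟨x, hx⟩)
        calc (g0 : G) * z * x * ((g0 : G) * z)⁻¹ = (g0 : G) * ((z : G) * x) * (z : G)⁻¹ * (g0 : G)⁻¹ := by group
          _ = (g0 : G) * x * (g0 : G)⁻¹ := by rw [hcomm]; group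
      · intro g _
        exact Subtype.ext (by simp)
      · intro z _
        exact Subtype.ext (by simp)
    have h := Finset.card_eq_sum_card_fiberwise (f := f) (s := Finset.univ)
      (t := Finset.univ.image f) fun g _ => Finset.mem_image_of_mem _ (Finset.mem_univ g)
    rw [Finset.sum_congr rfl hfib, Finset.sum_const, smul_eq_mul, Finset.card_univ,
      ← Nat.card_eq_fintype_card, hN, mul_comm p] at h
    exact (Nat.eq_of_mul_eq_mul_right hp.pos h).symm
  · intro y hy
    obtain ⟨g, -, rfl⟩ := Finset.mem_image.1 hy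
    refine ⟨(mem_normalizer_iff.1 g.2 x).1 hx, ?_, g, g.2, rfl⟩
    intro h
    exact hx1 (by simpa [hf] using h)

/-- The sum over the subgroup when all nontrivial elements are conjugate. -/
theorem sum_rational [Fintype G] {p : ℕ} (hp : p.Prime) (P : Subgroup G)
    (hP : Nat.card P = p) (hC : centralizer (P : Set G) = P)
    (hN : Nat.card (normalizer (P : Set G)) = p * (p - 1)) {x : G} (hx : x ∈ P) (hx1 : x ≠ 1)
    {χ : G → ℂ} (hχ : IsCharacter G χ) : ∃ m : ℕ, χ 1 + (p - 1 : ℕ) * χ x = (p : ℂ) * m := by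
  classical
  obtain ⟨O, hOc, hO⟩ := exists_orbit hp P hP hC hN hx hx1
  obtain ⟨m, hm⟩ := exists_nat_sum_subgroup hχ P
  refine ⟨m, ?_⟩
  rw [← hP, ← hm, ← Finset.add_sum_erase _ _ (Finset.mem_filter.2 ⟨Finset.mem_univ 1, one_mem P⟩)]
  have he : (Finset.univ.filter fun y => y ∈ P).erase 1 = O := by
    refine (Finset.eq_of_subset_of_card_le (fun y hy => ?_) ?_).symm
    · exact Finset.mem_erase.2 ⟨(hO y hy).2.1, Finset.mem_filter.2 ⟨Finset.mem_univ y, (hO y hy).1⟩⟩
    · rw [Finset.card_erase_of_mem (Finset.mem_filter.2 ⟨Finset.mem_univ 1, one_mem P⟩),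
        ← Fintype.card_subtype, ← Nat.card_eq_fintype_card, hP, hOc]
  rw [he, Finset.sum_congr rfl fun y hy => show χ y = χ x by
    obtain ⟨g, -, hg⟩ := (hO y hy).2.2
    rw [← hg, isClassFunction_of_isCharacter hχ x g], Finset.sum_const, nsmul_eq_mul, hOc, hP]

/-- The sum over the subgroup when the nontrivial elements form two inverse classes. -/
theorem sum_two [Fintype G] {p e : ℕ} (hp : p.Prime) (hp2 : p = 2 * e + 1) (he : Odd e)
    (P : Subgroup G) (hP : Nat.card P = p) (hC : centralizer (P : Set G) = P)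
    (hN : Nat.card (normalizer (P : Set G)) = p * e) {x : G} (hx : x ∈ P) (hx1 : x ≠ 1)
    {χ : G → ℂ} (hχ : IsCharacter G χ) :
    ∃ m : ℕ, χ 1 + (e : ℂ) * (χ x + conj (χ x)) = (p : ℂ) * m := by
  classical
  obtain ⟨O, hOc, hO⟩ := exists_orbit hp P hP hC hN hx hx1
  obtain ⟨m, hm⟩ := exists_nat_sum_subgroup hχ P
  refine ⟨m, ?_⟩
  rw [← hP, ← hm, ← Finset.add_sum_erase _ _ (Finset.mem_filter.2 ⟨Finset.mem_univ 1, one_mem P⟩)]
  have hdisj : Disjoint O (O.image (·⁻¹)) := by
    rw [Finset.disjoint_left]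
    intro y hy hy'
    obtain ⟨z, hz, hzy⟩ := Finset.mem_image.1 hy'
    obtain ⟨g, hg, rfl⟩ := (hO y hy).2.2
    obtain ⟨k, hk, rfl⟩ := (hO z hz).2.2
    set h : normalizer (P : Set G) := ⟨g, hg⟩⁻¹ * ⟨k, hk⟩ with hh
    have hinv : (h : G) * x * (h : G)⁻¹ = x⁻¹ := by
      simp only [hh, Subgroup.coe_mul, Subgroup.coe_inv]
      calc g⁻¹ * k * x * (g⁻¹ * k)⁻¹ = g⁻¹ * (k * x * k⁻¹) * g := by group
        _ = g⁻¹ * ((k * x * k⁻¹)⁻¹)⁻¹ * g := by rw [inv_inv]
        _ = g⁻¹ * (g * x * g⁻¹)⁻¹ * g := by rw [hzy]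
        _ = x⁻¹ := by group
    have hodd : Odd (orderOf h) := by
      refine Odd.of_dvd_nat ?_ (orderOf_dvd_natCard h)
      rw [hN]
      exact (by rw [hp2]; exact ⟨e, rfl⟩ : Odd p).mul he
    have hsq : ∀ j : ℕ, (h : G) ^ (2 * j) * x * ((h : G) ^ (2 * j))⁻¹ = x := by
      intro j
      induction j with
      | zero => simp
      | succ j ih =>
        rw [show 2 * (j + 1) = 1 + (1 + 2 * j) by ring, pow_add, pow_add, pow_one]
        calc (h : G) * ((h : G) * (h : G) ^ (2 * j)) * x * ((h : G) * ((h : G) * (h : G) ^ (2 * j)))⁻¹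
            = (h : G) * ((h : G) * ((h : G) ^ (2 * j) * x * ((h : G) ^ (2 * j))⁻¹) * (h : G)⁻¹) *
              (h : G)⁻¹ := by group
          _ = (h : G) * x⁻¹ * (h : G)⁻¹ := by rw [ih, hinv]
          _ = ((h : G) * x * (h : G)⁻¹)⁻¹ := by group
          _ = x := by rw [hinv, inv_inv]
    obtain ⟨j, hj⟩ := hodd
    have h2 := hsq (j + 1)
    rw [show 2 * (j + 1) = (2 * j + 1) + 1 by ring, pow_succ, ← hj, ← Subgroup.orderOf_coe,
      pow_orderOf_eq_one, one_mul, hinv] at h2
    have h3 := orderOf_dvd_of_pow_eq_one (show x ^ 2 = 1 by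
      rw [pow_two]; nth_rewrite 1 [← h2]; exact inv_mul_cancel x)
    have h4 := orderOf_dvd_natCard (⟨x, hx⟩ : P)
    rw [hP, orderOf_mk] at h4
    rcases hp.eq_one_or_self_of_dvd _ h4 with h5 | h5
    · exact hx1 (orderOf_eq_one_iff.1 h5)
    · rw [h5] at h3
      have := Nat.le_of_dvd two_pos h3
      have := he.pos
      omega
  have hu : (Finset.univ.filter fun y => y ∈ P).erase 1 = O ∪ O.image (·⁻¹) := by
    refine (Finset.eq_of_subset_of_card_le (fun y hy => ?_) ?_).symm
    · rcases Finset.mem_union.1 hy with h | h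
      · exact Finset.mem_erase.2 ⟨(hO y h).2.1, Finset.mem_filter.2 ⟨Finset.mem_univ y, (hO y h).1⟩⟩
      · obtain ⟨z, hz, rfl⟩ := Finset.mem_image.1 h
        exact Finset.mem_erase.2 ⟨inv_ne_one.2 (hO z hz).2.1,
          Finset.mem_filter.2 ⟨Finset.mem_univ _, inv_mem (hO z hz).1⟩⟩
    · rw [Finset.card_erase_of_mem (Finset.mem_filter.2 ⟨Finset.mem_univ 1, one_mem P⟩),
        ← Fintype.card_subtype, ← Nat.card_eq_fintype_card, hP, Finset.card_union_of_disjoint hdisj,
        Finset.card_image_of_injective _ inv_injective, hOc, hp2]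
      omega
  have hv : ∀ y ∈ O, χ y = χ x := fun y hy => by
    obtain ⟨g, -, hg⟩ := (hO y hy).2.2
    rw [← hg, isClassFunction_of_isCharacter hχ x g]
  rw [hu, Finset.sum_union hdisj, Finset.sum_image (fun a _ b _ h => inv_injective h),
    Finset.sum_congr rfl hv,
    Finset.sum_congr rfl (fun y hy => by rw [char_inv hχ, hv y hy] : ∀ y ∈ O, χ y⁻¹ = conj (χ x)),
    Finset.sum_const, Finset.sum_const, nsmul_eq_mul, nsmul_eq_mul, hOc]
  ring

/-- Column norm. -/
theorem sum_norm [Fintype G] (g : G) :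
    ∑ χ : IrrCharacter G, (χ : G → ℂ) g * conj ((χ : G → ℂ) g) =
      (Nat.card (centralizer ({g} : Set G)) : ℂ) := by
  classical
  rw [sum_irr_mul_conj, if_pos (IsConj.refl g), card_conjClass_eq_index,
    ← (centralizer ({g} : Set G)).card_mul_index, Nat.cast_mul,
    mul_div_cancel_right₀ _ (Nat.cast_ne_zero.2 index_ne_zero_of_finite)]

/-- Columns of non-conjugate elements are orthogonal. -/
theorem sum_orth [Fintype G] {g h : G} (hgh : ¬ IsConj g h) :
    ∑ χ : IrrCharacter G, (χ : G → ℂ) g * conj ((χ : G → ℂ) h) = 0 := by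
  classical
  rw [sum_irr_mul_conj, if_neg hgh]

theorem centralizer_singleton_eq {p : ℕ} (hp : p.Prime) (P : Subgroup G) (hP : Nat.card P = p)
    {x : G} (hx : x ∈ P) (hx1 : x ≠ 1) :
    centralizer ({x} : Set G) = centralizer (P : Set G) := by
  refine le_antisymm (fun y hy => ?_) (centralizer_le (by simp [hx]))
  have hz : zpowers x = P := eq_of_le_of_card_ge (zpowers_le.2 hx) (by
    rw [hP, Nat.card_zpowers]
    have h := orderOf_dvd_natCard (⟨x, hx⟩ : P)
    rw [hP, orderOf_mk] at h
    rcases hp.eq_one_or_self_of_dvd _ h with h' | h'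
    · exact absurd (orderOf_eq_one_iff.1 h') hx1
    · exact h'.ge)
  rw [← hz, mem_centralizer_iff]
  rintro w ⟨j, rfl⟩
  exact ((show Commute x y from (mem_centralizer_singleton_iff.1 hy).symm).zpow_left j).eq

end Cfsg.Agent.Lib.Char.O7920
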