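import Cfsg.Agent.Lib.CharGalois
import Cfsg.Agent.Lib.Char.Degree
import Cfsg.Agent.Lib.Char.Kernel
import Cfsg.Agent.Lib.CharTools.ClassMult
import Mathlib.RingTheory.Polynomial.Cyclotomic.Eval
import Mathlib.Data.Nat.Multiplicity

/-!
# Schur's bound for rational-valued characters of p-groups
-/

set_option autoImplicit false

namespace Cfsg.Agent.Lib.Char.SchurBound

open Finset Polynomial

universe u

variable {G : Type u} [Group G] [Finite G] {p : ℕ}

theorem sum_pow_root {q : ℕ} {μ : ℂ} (h : μ ^ q = 1) :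
    ∑ k ∈ range q, μ ^ k = if μ = 1 then (q : ℂ) else 0 := by
  split_ifs with h1
  · simp [h1]
  · rw [geom_sum_eq h1, h, sub_self, zero_div]

/-- The units sum of powers of one root of unity of order dividing `p ^ (e + 1)`. -/
theorem units_sum_ge (hp : p.Prime) (e : ℕ) {μ : ℂ} (h : μ ^ p ^ (e + 1) = 1) :
    ∃ t : ℤ, -((p : ℤ) ^ e) ≤ t ∧
      ∑ k ∈ (range (p ^ (e + 1))).filter (fun k => ¬ p ∣ k), μ ^ k = (t : ℂ) := by
  have hsplit : (range (p ^ (e + 1))).filter (fun k => p ∣ k) =
      (range (p ^ e)).image (fun k => p * k) := by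
    ext k
    simp only [mem_filter, mem_range, mem_image]
    constructor
    · rintro ⟨hk, c, rfl⟩
      refine ⟨c, ?_, rfl⟩
      rw [pow_succ'] at hk
      exact Nat.lt_of_mul_lt_mul_left hk
    · rintro ⟨c, hc, rfl⟩
      refine ⟨?_, dvd_mul_right _ _⟩
      rw [pow_succ']
      exact Nat.mul_lt_mul_of_pos_left hc hp.pos
  have htot := sum_filter_add_sum_filter_not (range (p ^ (e + 1))) (fun k => p ∣ k) (fun k => μ ^ k)
  rw [hsplit, sum_image (fun a _ b _ hab => Nat.eq_of_mul_eq_mul_left hp.pos hab),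
    sum_pow_root h] at htot
  simp only [pow_mul] at htot
  rw [sum_pow_root (by rw [← pow_mul, ← pow_succ']; exact h)] at htot
  refine ⟨(if μ = 1 then ((p : ℤ) ^ (e + 1)) else 0) - (if μ ^ p = 1 then ((p : ℤ) ^ e) else 0),
    ?_, ?_⟩
  · have h0 : (0 : ℤ) ≤ (p : ℤ) ^ (e + 1) := by positivity
    have h1 : (0 : ℤ) ≤ (p : ℤ) ^ e := by positivity
    split_ifs <;> linarith
  · rw [eq_sub_of_add_eq' htot]
    split_ifs <;> push_cast <;> ring

/-- A rational value of a character at an element of order `p ^ (e+1)`: congruence and bound. -/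
theorem value_facts (hp : p.Prime) {χ : G → ℂ} (h : IsCharacter G χ) {n : ℕ}
    (hn : χ 1 = n) {g : G} {e : ℕ} (hg : orderOf g = p ^ (e + 1)) {z : ℤ} (hz : χ g = z) :
    (p : ℤ) ∣ n - z ∧ -(n : ℤ) ≤ ((p : ℤ) - 1) * z := by
  classical
  obtain ⟨d, ρ, rfl⟩ := h
  obtain ⟨b, μ, h1, -, hc⟩ := exists_eigenbasis ρ g
  have hd : (Module.finrank ℂ (Fin d → ℂ) : ℕ) = n := by
    have := Representation.char_one ρ
    rw [hn] at this
    exact_mod_cast this.symm
  rw [hg] at h1
  have hq : 0 < p ^ (e + 1) := pow_pos hp.pos _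
  haveI : NeZero (p ^ (e + 1)) := ⟨hq.ne'⟩
  obtain ⟨ζ, hζ⟩ : ∃ ζ : ℂ, IsPrimitiveRoot ζ (p ^ (e + 1)) :=
    ⟨_, Complex.isPrimitiveRoot_exp _ hq.ne'⟩
  choose a _ ha using fun i => hζ.eq_pow_of_pow_eq_one (h1 i)
  let c : ℤ[X] := (∑ i, X ^ a i) - C z
  have hg1 := hc 1
  rw [pow_one, hz] at hg1
  simp only [pow_one] at hg1
  have hev : aeval ζ c = 0 := by
    simp only [c, map_sub, map_sum, map_pow, aeval_X, aeval_C, ha, ← hg1]
    simp
  constructor
  · have hdvd : cyclotomic (p ^ (e + 1)) ℤ ∣ c := by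
      rw [cyclotomic_eq_minpoly hζ hq]
      exact minpoly.isIntegrallyClosed_dvd (hζ.isIntegral hq) hev
    haveI : Fact p.Prime := ⟨hp⟩
    have h2 := eval_dvd (x := (1 : ℤ)) hdvd
    rw [eval_one_cyclotomic_prime_pow] at h2
    simpa [c, eval_finset_sum, hd] using h2
  · -- all primitive powers give the same value
    have hk : ∀ k : ℕ, Nat.Coprime k (p ^ (e + 1)) → ∑ i, μ i ^ k = (z : ℂ) := by
      intro k hk
      obtain ⟨σ, hσ⟩ := CharGalois.exists_aut_pow hq hk
      have := congrArg σ hg1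
      rw [map_intCast, map_sum] at this
      rw [this]
      exact Finset.sum_congr rfl fun i _ => (hσ _ (h1 i)).symm
    choose t ht1 ht2 using fun i => units_sum_ge hp e (h1 i)
    have hU : ∀ k ∈ (range (p ^ (e + 1))).filter (fun k => ¬ p ∣ k),
        ∑ i, μ i ^ k = (z : ℂ) := fun k hk' => hk k
      (Nat.Coprime.pow_right _ ((Nat.Prime.coprime_iff_not_dvd hp).2 (mem_filter.1 hk').2).symm)
    have hs := Finset.sum_congr rfl hU
    rw [sum_comm, Finset.sum_congr rfl (fun i _ => ht2 i), sum_const, nsmul_eq_mul] at hs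
    have hcard : ((range (p ^ (e + 1))).filter (fun k => ¬ p ∣ k)).card = p ^ e * (p - 1) := by
      have := Nat.totient_prime_pow_succ hp e
      rw [Nat.totient_eq_card_coprime] at this
      rw [← this]
      refine congrArg Finset.card (filter_congr fun k _ => ?_)
      rw [Nat.coprime_pow_left_iff (Nat.succ_pos e), Nat.Prime.coprime_iff_not_dvd hp]
    rw [hcard] at hs
    have hs' : (∑ i, t i : ℤ) = ((p : ℤ) ^ e * ((p : ℤ) - 1)) * z := by
      have : ((∑ i, t i : ℤ) : ℂ) = (((p ^ e * (p - 1) : ℕ) : ℤ) * z : ℤ) := by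
        push_cast at hs ⊢; exact hs
      have h3 := Int.cast_injective this
      rw [h3]
      push_cast [Nat.cast_sub hp.one_le]
      ring
    have hle : ∑ _i : Fin (Module.finrank ℂ (Fin d → ℂ)), -((p : ℤ) ^ e) ≤ ∑ i, t i :=
      sum_le_sum fun i _ => ht1 i
    rw [sum_const, card_univ, Fintype.card_fin, hs', nsmul_eq_mul, hd] at hle
    have hpe : (0 : ℤ) < (p : ℤ) ^ e := pow_pos (by exact_mod_cast hp.pos) e
    by_contra hcon
    push_neg at hcon
    nlinarith [mul_lt_mul_of_pos_left hcon hpe]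

/-- An integral polynomial in a character has a sum over a subgroup divisible by its order. -/
theorem dvd_sum_eval [Fintype G] {χ : G → ℂ} (h : IsCharacter G χ) (P : Subgroup G)
    [DecidablePred (· ∈ P)] (Q : ℤ[X]) :
    ∃ m : ℤ, ∑ x ∈ univ.filter (· ∈ P), aeval (χ x) Q = (Nat.card P : ℂ) * m := by
  induction Q using Polynomial.induction_on' with
  | add f g hf hg =>
    obtain ⟨a, ha⟩ := hf; obtain ⟨b, hb⟩ := hg
    refine ⟨a + b, ?_⟩
    simp only [map_add, sum_add_distrib, ha, hb]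
    push_cast; ring
  | monomial k a =>
    have hk : IsCharacter G (fun g => χ g ^ k) := by
      induction k with
      | zero => simpa using isCharacter_one (G := G)
      | succ k ih =>
        have := isCharacter_mul ih h
        simpa [pow_succ, Pi.mul_def] using this
    obtain ⟨m, hm⟩ := CharTools.exists_nat_sum_subgroup hk P
    refine ⟨a * m, ?_⟩
    simp only [aeval_monomial, ← mul_sum, hm]
    push_cast
    simp; ring

/-- Schur: a faithful character with rational values on a p-subgroup bounds its order. -/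
theorem card_dvd (hp : p.Prime) {χ : G → ℂ} (h : IsCharacter G χ)
    (hf : ∀ g : G, χ g = χ 1 → g = 1) {n : ℕ} (hn : χ 1 = n) (P : Subgroup G)
    (hP : IsPGroup p P) (hrat : ∀ g ∈ P, ∃ z : ℤ, χ g = z) :
    Nat.card P ∣ p ^ (n / (p - 1)) * (n / (p - 1)).factorial := by
  classical
  have := Fintype.ofFinite G
  set m := n / (p - 1) with hm
  let Q : ℤ[X] := ∏ j ∈ range m, (X - C ((n : ℤ) - (p : ℤ) * ((j : ℤ) + 1)))
  have hQ : ∀ x : ℂ, aeval x Q = ∏ j ∈ range m, (x - ((n : ℂ) - (p : ℂ) * ((j : ℂ) + 1))) := by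
    intro x; simp [Q]
  obtain ⟨c, hc⟩ := dvd_sum_eval h P Q
  rw [sum_eq_single (1 : G) ?_ (fun h1 => absurd (mem_filter.2 ⟨mem_univ _, P.one_mem⟩) h1)] at hc
  · have h2 : aeval (χ 1) Q = ((p ^ m * m.factorial : ℕ) : ℂ) := by
      rw [hQ, hn]
      have : ∀ j ∈ range m, ((n : ℂ) - ((n : ℂ) - (p : ℂ) * ((j : ℂ) + 1))) =
          ((p * (j + 1) : ℕ) : ℂ) := fun j _ => by push_cast; ring
      rw [prod_congr rfl this, ← Nat.cast_prod, prod_mul_distrib, prod_const, card_range,
        Finset.prod_range_add_one_eq_factorial]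
    rw [h2] at hc
    have : ((p ^ m * m.factorial : ℕ) : ℤ) = (Nat.card P : ℤ) * c := by exact_mod_cast hc
    exact Int.natCast_dvd_natCast.1 ⟨c, this⟩
  · intro g hg hg1
    have hgP := (mem_filter.1 hg).2
    obtain ⟨k, hk⟩ : ∃ k, orderOf g = p ^ k := by
      obtain ⟨k, hk⟩ := hP ⟨g, hgP⟩
      obtain ⟨j, -, hj⟩ := (Nat.dvd_prime_pow hp).1 (orderOf_dvd_of_pow_eq_one
        (show g ^ p ^ k = 1 by simpa using congrArg Subtype.val hk))
      exact ⟨j, hj⟩
    rcases k with _ | e
    · rw [pow_zero, orderOf_eq_one_iff] at hk; exact absurd hk hg1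
    obtain ⟨z, hz⟩ := hrat g hgP
    obtain ⟨⟨j, hj⟩, hlo⟩ := value_facts hp h hn hk hz
    have hjle : (z : ℤ) < n := by
      rcases lt_or_ge z (n : ℤ) with h' | h'
      · exact h'
      exfalso
      refine hg1 (hf g ?_)
      have hb := norm_apply_le h g
      rw [hz, hn, Complex.norm_intCast, Complex.norm_natCast] at hb
      have hzn : z = n := by
        have : (z : ℝ) ≤ n := (le_abs_self _).trans hb
        have : z ≤ n := by exact_mod_cast this
        omega
      rw [hz, hn, hzn]; simp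
    have hp0 : (0 : ℤ) < p := by exact_mod_cast hp.pos
    have hj0 : 0 < j := by
      have : 0 < (p : ℤ) * j := by omega
      exact pos_of_mul_pos_right this hp0.le
    obtain ⟨i, rfl⟩ : ∃ i : ℕ, j = (i : ℤ) + 1 := ⟨(j - 1).toNat, by omega⟩
    have him : i < m := by
      rw [hm, Nat.lt_iff_add_one_le, Nat.le_div_iff_mul_le (by have := hp.two_le; omega)]
      have hh : ((i : ℤ) + 1) * ((p : ℤ) - 1) * p ≤ (n : ℤ) * p := by nlinarith
      have h4 := le_of_mul_le_mul_right hh hp0
      have h5 : (((i + 1) * (p - 1) : ℕ) : ℤ) ≤ n := by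
        push_cast [Nat.cast_sub hp.one_le]; exact h4
      exact_mod_cast h5
    rw [hQ]
    refine prod_eq_zero (mem_range.2 him) ?_
    rw [hz]
    have hc' := congrArg (fun t : ℤ => (t : ℂ)) hj
    push_cast at hc'
    linear_combination -hc'

/-- `m + v_p(m!)` as a sum of quotients. -/
theorem factorization_pow_mul_factorial (hp : p.Prime) (m b : ℕ) (hb : m < b) :
    (p ^ m * m.factorial).factorization p = ∑ i ∈ range b, m / p ^ i := by
  rw [Nat.factorization_mul (pow_pos hp.pos m).ne' m.factorial_ne_zero, Finsupp.add_apply,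
    hp.factorization_pow, Finsupp.single_eq_same]
  rw [Nat.factorization_factorial hp (b := b) (lt_of_le_of_lt (Nat.log_le_self _ _) hb),
    range_eq_Ico, sum_eq_sum_Ico_succ_bot (by omega : 0 < b), pow_zero, Nat.div_one]

/-- A value in a field generated by roots of unity of order prime to `p` is rational on
`p`-elements. -/
theorem exists_int_value (hp : p.Prime) {χ : G → ℂ} (h : IsCharacter G χ) {g : G} {k : ℕ}
    (hg : orderOf g = p ^ k) {r : ℕ} (hr0 : 0 < r) (hr : ¬ p ∣ r)
    (hv : χ g ∈ IntermediateField.adjoin ℚ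
      ({Complex.exp (2 * Real.pi * Complex.I / r)} : Set ℂ)) :
    ∃ z : ℤ, χ g = z := by
  refine CharGalois.exists_int_of_fixed (char_isIntegral h g) fun σ => ?_
  obtain ⟨d, ρ, rfl⟩ := h
  obtain ⟨b, μ, h1, -, hc⟩ := exists_eigenbasis ρ g
  have hg1 := hc 1
  simp only [pow_one] at hg1
  rw [hg] at h1
  obtain ⟨j, hj, hσ⟩ := CharGalois.exists_pow_of_aut (pow_pos hp.pos k) σ
  have hco : Nat.Coprime (p ^ k) r := ((Nat.Prime.coprime_iff_not_dvd hp).2 hr).pow_left k
  obtain ⟨l, hl1, hl2⟩ := Nat.chineseRemainder hco j 1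
  have hlc : Nat.Coprime l (p ^ k * r) := by
    refine Nat.Coprime.mul_right ?_ ?_
    · rw [Nat.Coprime, hl1.gcd_eq]; exact hj
    · rw [Nat.Coprime, hl2.gcd_eq]; exact Nat.gcd_one_left r
  obtain ⟨τ, hτ⟩ := CharGalois.exists_aut_pow (Nat.mul_pos (pow_pos hp.pos k) hr0) hlc
  have e1 : σ (ρ.character g) = τ (ρ.character g) := by
    rw [hg1, map_sum, map_sum]
    refine Finset.sum_congr rfl fun i _ => ?_
    rw [hσ _ (h1 i), hτ _ (by rw [pow_mul, h1 i, one_pow])]
    rw [pow_eq_pow_mod j (h1 i), pow_eq_pow_mod l (h1 i), show l % p ^ k = j % p ^ k from hl1]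
  rw [e1]
  have hfix : ∀ x ∈ IntermediateField.adjoin ℚ
      ({Complex.exp (2 * Real.pi * Complex.I / r)} : Set ℂ), τ x = x := by
    intro x hx
    induction hx using IntermediateField.adjoin_induction with
    | mem x hx =>
      rw [Set.mem_singleton_iff] at hx
      subst hx
      have hζ := (Complex.isPrimitiveRoot_exp r hr0.ne').pow_eq_one
      rw [hτ _ (by rw [pow_mul', hζ, one_pow]), pow_eq_pow_mod l hζ,
        show l % r = 1 % r from hl2, ← pow_eq_pow_mod 1 hζ, pow_one]
    | algebraMap q => simp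
    | add a b _ _ ha hb => rw [map_add, ha, hb]
    | inv a _ ha => rw [map_inv₀, ha]
    | mul a b _ _ ha hb => rw [map_mul, ha, hb]
  exact hfix _ hv

end Cfsg.Agent.Lib.Char.SchurBound
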