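import Cfsg.Agent.Lib.Char.Coherent
import Cfsg.Agent.Lib.Char.Induced
import Cfsg.Agent.Lib.Char.Linear
import Cfsg.Agent.Lib.Char.Degree
import Cfsg.Agent.Lib.Char.Integral
import Mathlib.GroupTheory.FiniteAbelian.Duality
import Mathlib.RingTheory.RootsOfUnity.AlgebraicallyClosed

/-!
# Degrees of exceptional characters for a self-centralising subgroup of prime order
-/

set_option autoImplicit false

open Cfsg
open scoped ComplexConjugate

namespace Cfsg.Agent.Lib.Char

universe u

variable {G : Type u} [Group G] [Fintype G]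

section

variable (P : Subgroup G)

/-- Conjugation by an element of the normalizer, as an endomorphism of the subgroup. -/
def normConj (g : Subgroup.normalizer (P : Set G)) : P →* P where
  toFun y := ⟨(g : G) * y * (g : G)⁻¹, (Subgroup.mem_normalizer_iff.1 g.2 y).1 y.2⟩
  map_one' := Subtype.ext (by simp)
  map_mul' a b := Subtype.ext (by simp [mul_assoc])

omit [Fintype G] in
theorem normConj_coe (g : Subgroup.normalizer (P : Set G)) (y : P) :
    ((normConj P g y : P) : G) = (g : G) * y * (g : G)⁻¹ := rfl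

/-- Inducing a normalizer-conjugate function gives the same function. -/
theorem indFun_normConj (g : Subgroup.normalizer (P : Set G)) (b : P → ℂ) :
    indFun P (fun y => b (normConj P g y)) = indFun P b := by
  funext z
  simp only [indFun]
  congr 1
  refine Fintype.sum_equiv (Equiv.mulRight (g : G)⁻¹) _ _ fun x => ?_
  have e : (x * (g : G)⁻¹)⁻¹ * z * (x * (g : G)⁻¹) = (g : G) * (x⁻¹ * z * x) * (g : G)⁻¹ := by group
  rw [Equiv.coe_mulRight, e]
  by_cases h : x⁻¹ * z * x ∈ P
  · rw [extendByZero_mem P _ h, extendByZero_mem P b ((Subgroup.mem_normalizer_iff.1 g.2 _).1 h)]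
    rfl
  · rw [extendByZero_not_mem P _ h,
      extendByZero_not_mem P b (fun h' => h ((Subgroup.mem_normalizer_iff.1 g.2 _).2 h'))]

variable {P} {p : ℕ}

omit [Fintype G] in
theorem mem_normalizer_of_conj_mem [Finite G] (hp : p.Prime) (hP : Nat.card P = p) {y : G} (hy : y ∈ P)
    (hy1 : y ≠ 1) {g : G} (hg : g * y * g⁻¹ ∈ P) : g ∈ Subgroup.normalizer (P : Set G) := by
  have hgen : Subgroup.zpowers y = P := by
    refine Subgroup.eq_of_le_of_card_ge (by rwa [Subgroup.zpowers_le]) ?_
    rw [hP, Nat.card_zpowers]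
    rcases (Nat.dvd_prime hp).1 (hP ▸ P.orderOf_dvd_natCard hy) with h | h
    · exact absurd (orderOf_eq_one_iff.1 h) hy1
    · exact h.ge
  have hle : P.map (MulAut.conj g).toMonoidHom ≤ P := by
    rw [← hgen, MonoidHom.map_zpowers, Subgroup.zpowers_le, hgen]
    simpa using hg
  have heq : P.map (MulAut.conj g).toMonoidHom = P :=
    Subgroup.eq_of_le_of_card_ge hle (by rw [Subgroup.card_map_of_injective (MulEquiv.injective _)])
  rw [Subgroup.mem_normalizer_iff]
  intro z
  constructor
  · intro hz; rw [← heq]; exact ⟨z, hz, rfl⟩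
  · intro hz
    rw [← heq] at hz
    obtain ⟨w, hw, hwz⟩ := hz
    simp only [MulEquiv.coe_toMonoidHom, MulAut.conj_apply] at hwz
    have : w = z := by simpa using hwz
    exact this ▸ hw

/-- Inner product of inductions from a subgroup of prime order of functions vanishing at one. -/
theorem classInner_indFun_prime [Fintype P] [Fintype (Subgroup.normalizer (P : Set G))]
    (hp : p.Prime) (hP : Nat.card P = p) (a b : P → ℂ) (hb : b 1 = 0) :
    classInner (indFun P a) (indFun P b) =
      (p : ℂ)⁻¹ * ∑ g : Subgroup.normalizer (P : Set G), classInner a (fun y => b (normConj P g y)) := by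
  classical
  rw [classInner_indFun P a (isClassFunction_indFun P b)]
  have hval : ∀ y : P, indFun P b y =
      (p : ℂ)⁻¹ * ∑ g : Subgroup.normalizer (P : Set G), b (normConj P g y) := by
    intro y
    by_cases hy : y = 1
    · subst hy
      rw [OneMemClass.coe_one, indFun_one, hb, mul_zero]
      simp [map_one, hb]
    have hy1 : (y : G) ≠ 1 := fun h => hy (Subtype.ext h)
    simp only [indFun, hP]
    congr 1
    rw [Fintype.sum_equiv (Equiv.inv G) (fun x => extendByZero P b (x⁻¹ * y * x))
      (fun x => extendByZero P b (x * y * x⁻¹)) fun x => by simp]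
    rw [← Finset.sum_subset (Finset.subset_univ
      (Finset.univ.filter fun x => x ∈ Subgroup.normalizer (P : Set G))) ?_,
      Finset.sum_subtype (p := (· ∈ Subgroup.normalizer (P : Set G))) _ (by simp)]
    · exact Finset.sum_congr rfl fun g _ => extendByZero_mem P b _
    · intro x _ hx
      refine extendByZero_not_mem P b fun h => hx (Finset.mem_filter.2 ⟨Finset.mem_univ _, ?_⟩)
      exact mem_normalizer_of_conj_mem hp hP y.2 hy1 h
  simp only [classInner, hval, map_mul, map_inv₀, map_natCast, map_sum, Finset.mul_sum]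
  rw [Finset.sum_comm]
  exact Finset.sum_congr rfl fun g _ => Finset.sum_congr rfl fun y _ => by ring

/-- The nontrivial characters of a cyclic group of prime order, permuted by the normalizer:
orbit representatives. -/
theorem exists_reps [Fintype P] [Fintype (Subgroup.normalizer (P : Set G))] (hp : p.Prime)
    (hP : Nat.card P = p) (hC : Subgroup.centralizer (P : Set G) ≤ P) (e : ℕ)
    (hN : Nat.card (Subgroup.normalizer (P : Set G)) = p * e) :
    ∃ (m : ℕ) (r : Fin m → P →* ℂˣ), m * e = p - 1 ∧ (∀ i, r i ≠ 1) ∧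
      (∀ i g, (r i).comp (normConj P g) ≠ 1) ∧
      (∀ i, Nat.card {g : Subgroup.normalizer (P : Set G) // (r i).comp (normConj P g) = r i} = p) ∧
      (∀ i j g, (r j).comp (normConj P g) = r i → i = j) ∧
      (∀ l : P →* ℂˣ, l ≠ 1 → ∃ i g, (r i).comp (normConj P g) = l) ∧
      (∀ i, Nat.card {l : P →* ℂˣ // ∃ g, (r i).comp (normConj P g) = l} = e) := by
  classical
  have := Fact.mk hp
  have hcyc : IsCyclic P := isCyclic_of_prime_card hP
  let cP : CommGroup P := IsCyclic.commGroup
  have hcard : Nat.card (P →* ℂˣ) = p := by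
    rw [@CommGroup.card_monoidHom_of_hasEnoughRootsOfUnity P ℂ cP, hP]
  have hone : ∀ g h, normConj P (g * h) = (normConj P g).comp (normConj P h) := fun g h =>
    MonoidHom.ext fun y => Subtype.ext (by simp [normConj_coe, mul_assoc])
  have hid : normConj P 1 = MonoidHom.id P := MonoidHom.ext fun y => Subtype.ext (by simp [normConj_coe])
  let S : Setoid {l : P →* ℂˣ // l ≠ 1} :=
    { r := fun l l' => ∃ g, l.1.comp (normConj P g) = l'.1
      iseqv := ⟨fun l => ⟨1, by rw [hid, MonoidHom.comp_id]⟩,
        fun {l l'} ⟨g, hg⟩ => ⟨g⁻¹, by rw [← hg, MonoidHom.comp_assoc, ← hone, mul_inv_cancel, hid, MonoidHom.comp_id]⟩,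
        fun {l l' l''} ⟨g, hg⟩ ⟨h, hh⟩ => ⟨g * h, by rw [hone, ← MonoidHom.comp_assoc, hg, hh]⟩⟩ }
  have hne : ∀ (l : P →* ℂˣ), l ≠ 1 → ∀ g, l.comp (normConj P g) ≠ 1 := by
    intro l hl g h
    apply hl
    rw [← MonoidHom.comp_id l, ← hid, ← mul_inv_cancel g, hone, ← MonoidHom.comp_assoc, h,
      MonoidHom.one_comp]
  have hstab : ∀ (l : P →* ℂˣ), l ≠ 1 →
      Nat.card {g : Subgroup.normalizer (P : Set G) // l.comp (normConj P g) = l} = p := by
    intro l hl
    have hinj : Function.Injective l := by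
      rw [← MonoidHom.ker_eq_bot_iff]
      refine (Subgroup.eq_bot_or_eq_top_of_prime_card (hp := ⟨hP ▸ hp⟩) l.ker).resolve_right fun h => hl ?_
      exact MonoidHom.ext fun y => (h ▸ Subgroup.mem_top y : y ∈ l.ker)
    rw [← hP]
    refine Nat.card_congr
      { toFun := fun g => ⟨g.1.1, hC (Subgroup.mem_centralizer_iff.2 fun y hy => ?_)⟩
        invFun := fun y => ⟨⟨y, Subgroup.le_normalizer y.2⟩, ?_⟩
        left_inv := fun g => rfl
        right_inv := fun y => rfl }
    · have h := hinj (DFunLike.congr_fun g.2 ⟨y, hy⟩)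
      have h' := congrArg (fun z : P => (z : G)) h
      rw [normConj_coe] at h'
      exact (mul_inv_eq_iff_eq_mul.1 h').symm
    · refine MonoidHom.ext fun z => congrArg l (Subtype.ext ?_)
      have : (y : G) * z = z * y := congrArg Subtype.val (cP.mul_comm y z)
      rw [normConj_coe, this, mul_inv_cancel_right]
  have horb : ∀ (l : P →* ℂˣ), l ≠ 1 →
      Nat.card {l' : P →* ℂˣ // ∃ g, l.comp (normConj P g) = l'} = e := by
    intro l hl
    have : Finite (P →* ℂˣ) := Nat.finite_of_card_ne_zero (by rw [hcard]; exact hp.pos.ne')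
    have : Fintype {l' : P →* ℂˣ // ∃ g, l.comp (normConj P g) = l'} := Fintype.ofFinite _
    have h : Nat.card (Subgroup.normalizer (P : Set G)) =
        Nat.card {l' : P →* ℂˣ // ∃ g, l.comp (normConj P g) = l'} * p := by
      rw [Nat.card_congr (Equiv.sigmaFiberEquiv (fun g : Subgroup.normalizer (P : Set G) =>
        (⟨l.comp (normConj P g), g, rfl⟩ : {l' : P →* ℂˣ // ∃ g, l.comp (normConj P g) = l'}))).symm,
        Nat.card_sigma, Finset.sum_eq_card_nsmul (b := p), Finset.card_univ, smul_eq_mul,
        ← Nat.card_eq_fintype_card]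
      rintro ⟨l', g₀, rfl⟩ _
      rw [← hstab l hl]
      refine Nat.card_congr ((Equiv.mulRight g₀).subtypeEquiv fun g => ?_).symm
      simp only [Subtype.mk.injEq, Equiv.coe_mulRight]
      rw [hone]
      constructor
      · intro h; rw [← MonoidHom.comp_assoc, h]
      · intro h
        have := congrArg (fun f => MonoidHom.comp f (normConj P g₀⁻¹)) h
        simpa only [MonoidHom.comp_assoc, ← hone, mul_assoc, mul_inv_cancel, mul_one, hid,
          MonoidHom.comp_id] using this
    rw [hN] at h
    exact (Nat.eq_of_mul_eq_mul_right hp.pos (h.symm.trans (mul_comm p e)))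
  have : Finite (P →* ℂˣ) := Nat.finite_of_card_ne_zero (by rw [hcard]; exact hp.pos.ne')
  have : Finite (Quotient S) := inferInstance
  have : Fintype (Quotient S) := Fintype.ofFinite _
  let eq := Fintype.equivFin (Quotient S)
  refine ⟨Fintype.card (Quotient S), fun i => (eq.symm i).out.1, ?_, fun i => (eq.symm i).out.2,
    fun i g => hne _ (eq.symm i).out.2 g, fun i => hstab _ (eq.symm i).out.2, ?_, ?_,
    fun i => horb _ (eq.symm i).out.2⟩
  · have h1 : Nat.card {l : P →* ℂˣ // l ≠ 1} = p - 1 := by
      have : Fintype (P →* ℂˣ) := Fintype.ofFinite _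
      rw [Nat.card_eq_fintype_card, Fintype.card_subtype_compl, Fintype.card_subtype_eq,
        ← Nat.card_eq_fintype_card, hcard]
    rw [← h1, Nat.card_congr (Equiv.sigmaFiberEquiv (Quotient.mk S)).symm, Nat.card_sigma,
      Finset.sum_eq_card_nsmul (b := e), Finset.card_univ, smul_eq_mul]
    intro q _
    rw [← horb _ q.out.2]
    refine Nat.card_congr
      { toFun := fun l => ⟨l.1.1, ?_⟩
        invFun := fun l => ⟨⟨l.1, ?_⟩, ?_⟩
        left_inv := fun l => rfl
        right_inv := fun l => rfl }
    · exact (Quotient.exact ((Quotient.out_eq q).trans l.2.symm) : S.r q.out l.1)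
    · obtain ⟨g, hg⟩ := l.2
      exact hg ▸ hne _ q.out.2 g
    · exact ((Quotient.sound (show S.r q.out ⟨l.1, _⟩ from l.2)).symm.trans (Quotient.out_eq q))
  · intro i j g h
    have : Quotient.mk S (eq.symm j).out = Quotient.mk S (eq.symm i).out := Quotient.sound ⟨g, h⟩
    rw [Quotient.out_eq, Quotient.out_eq] at this
    exact (eq.symm.injective this).symm
  · intro l hl
    refine ⟨eq ⟦⟨l, hl⟩⟧, ?_⟩
    obtain ⟨g, hg⟩ := Quotient.mk_out (s := S) ⟨l, hl⟩
    exact ⟨g, by simpa using hg⟩

/-- Degrees of the exceptional characters. -/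
theorem exists_degrees (hp : p.Prime) (hP : Nat.card P = p)
    (hC : Subgroup.centralizer (P : Set G) ≤ P) (hperf : commutator G = ⊤) (e m : ℕ)
    (hN : Nat.card (Subgroup.normalizer (P : Set G)) = p * e) (hm : m * e = p - 1) (hem : e + 2 ≤ m) :
    ∃ (d : ℕ) (ε : ℤ) (s : Finset (IrrCharacter G)) (a : IrrCharacter G → ℤ),
      (ε = 1 ∨ ε = -1) ∧ d ∣ Nat.card G ∧ 0 < d ∧ (p : ℤ) ∣ d + e * ε ∧
      ∑ χ ∈ s, a χ * a χ = (e : ℤ) - 1 ∧
      (∀ χ ∈ s, a χ ≠ 0 ∧ charDegree (χ : G → ℂ) ∣ Nat.card G ∧ 1 < charDegree (χ : G → ℂ) ∧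
        (p : ℤ) ∣ charDegree (χ : G → ℂ) - a χ) ∧
      1 + ε * d + ∑ χ ∈ s, a χ * charDegree (χ : G → ℂ) = 0 ∧
      m * d ^ 2 + ∑ χ ∈ s, charDegree (χ : G → ℂ) ^ 2 + 1 ≤ Nat.card G := by
  classical
  have : Fintype P := Fintype.ofFinite _
  have : Fintype (Subgroup.normalizer (P : Set G)) := Fintype.ofFinite _
  obtain ⟨m', r, hm', hr1, hrne, hrstab, hrinj, hrsurj, hrorb⟩ := exists_reps hp hP hC e hN
  have he0 : e ≠ 0 := by rintro rfl; rw [mul_zero] at hN; exact Nat.card_pos.ne' hN
  obtain rfl : m = m' := Nat.eq_of_mul_eq_mul_right (Nat.pos_of_ne_zero he0) (hm.trans hm'.symm)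
  have hp0 : (p : ℂ) ≠ 0 := Nat.cast_ne_zero.2 hp.pos.ne'
  let one : P → ℂ := fun _ => 1
  let lin : (P →* ℂˣ) → P → ℂ := fun l y => (l y : ℂ)
  have horth : ∀ l l' : P →* ℂˣ, classInner (lin l) (lin l') = if l = l' then 1 else 0 := by
    intro l l'
    rw [classInner_irr (isIrrCharacter_linear l) (isIrrCharacter_linear l')]
    refine if_congr ⟨fun h => MonoidHom.ext fun y => Units.ext (congrFun h y), fun h => h ▸ rfl⟩ rfl rfl
  have honelin : lin 1 = one := funext fun _ => Units.val_one
  let b : (P →* ℂˣ) → P → ℂ := fun l => one - lin l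
  let β : Fin m → G → ℂ := fun i => indFun P (b (r i))
  have hinner : ∀ i j, classInner (β i) (β j) = (e : ℂ) + if i = j then 1 else 0 := by
    intro i j
    rw [classInner_indFun_prime hp hP _ _ (by simp [b, one, lin])]
    have hterm : ∀ g, classInner (b (r i)) (fun y => b (r j) (normConj P g y)) =
        1 + if (r j).comp (normConj P g) = r i then 1 else 0 := by
      intro g
      rw [show (fun y => b (r j) (normConj P g y)) = lin 1 - lin ((r j).comp (normConj P g)) by
        rw [honelin]; rfl]
      change classInner (one - lin (r i)) _ = _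
      rw [← honelin, classInner_sub_left, classInner_sub_right, classInner_sub_right, horth, horth,
        horth, horth, if_pos rfl, if_neg (Ne.symm (hrne j g)), if_neg (hr1 i)]
      by_cases h : r i = (r j).comp (normConj P g)
      · rw [if_pos h, if_pos h.symm]; ring
      · rw [if_neg h, if_neg (Ne.symm h)]; ring
    rw [Finset.sum_congr rfl fun g _ => hterm g, Finset.sum_add_distrib, Finset.sum_boole,
      Finset.sum_const, Finset.card_univ, nsmul_eq_mul, mul_one, ← Nat.card_eq_fintype_card, hN]
    by_cases hij : i = j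
    · subst hij
      rw [if_pos rfl, ← Fintype.card_subtype, ← Nat.card_eq_fintype_card, hrstab]
      push_cast; field_simp
    · rw [if_neg hij, Finset.filter_false_of_mem fun g _ h => hij (hrinj i j g h)]
      push_cast; rw [Finset.card_empty, Nat.cast_zero, add_zero, add_zero]; field_simp
  have hgen : ∀ i, IsGeneralizedCharacter G (β i) := fun i =>
    ⟨indFun P one, indFun P (lin (r i)),
      isCharacter_indFun P (honelin ▸ isCharacter_of_isIrr (isIrrCharacter_linear 1)),
      isCharacter_indFun P (isCharacter_of_isIrr (isIrrCharacter_linear _)), indFun_sub P _ _⟩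
  have hβ1 : ∀ i, β i 1 = 0 := fun i => by simp [β, b, one, lin, indFun_one]
  choose c hc using fun i => generalized_classInner_int (hgen i)
  let pr : IrrCharacter G := ⟨_, isIrrCharacter_one⟩
  have hcpr : ∀ i, c i pr = 1 := by
    intro i
    have h := hc i pr
    rw [classInner_indFun P _ (isClassFunction_of_isIrr pr.2),
      show (fun h : P => (pr : G → ℂ) h) = lin 1 from honelin.symm] at h
    rw [show b (r i) = lin 1 - lin (r i) by rw [honelin], classInner_sub_left, horth, horth, if_pos rfl,
      if_neg (hr1 i), sub_zero] at h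
    exact_mod_cast h.symm
  have hnorm : ∀ i, ∑ χ, c i χ * c i χ = (e : ℤ) + 1 := by
    intro i
    have h := classInner_eq_sum (φ := β i) (isClassFunction_indFun P (b (r i)))
    rw [hinner, if_pos rfl] at h
    change _ = ∑ χ : IrrCharacter G, classInner (β i) (χ : G → ℂ) * conj (classInner (β i) (χ : G → ℂ)) at h
    simp only [hc, map_intCast] at h
    exact_mod_cast h.symm
  have hm0 : 0 < m := by omega
  let i₀ : Fin m := ⟨0, hm0⟩
  obtain ⟨εc, hεc, μ, hμinj, hμ⟩ := exists_coherent_family i₀ (fun i => β i - β i₀) (by simp)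
    (fun i => ⟨indFun P (lin (r i₀)), indFun P (lin (r i)),
      isCharacter_indFun P (isCharacter_of_isIrr (isIrrCharacter_linear _)),
      isCharacter_indFun P (isCharacter_of_isIrr (isIrrCharacter_linear _)),
      by simp only [β, b, indFun_sub]; abel⟩)
    (fun i => by simp [hβ1])
    (fun i j hi hj => by
      simp only [classInner_sub_left, classInner_sub_right, hinner, if_neg hi, if_neg (Ne.symm hj), if_pos]
      exact ⟨fun h => by subst h; simp; ring, fun h => by rw [if_neg h]; ring⟩)
  obtain ⟨ε, hε, rfl⟩ : ∃ ε : ℤ, (ε = 1 ∨ ε = -1) ∧ (ε : ℂ) = εc := by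
    rcases hεc with rfl | rfl
    · exact ⟨1, Or.inl rfl, by simp⟩
    · exact ⟨-1, Or.inr rfl, by simp⟩
  let ind : Fin m → IrrCharacter G → ℤ := fun i χ => if μ i = χ then 1 else 0
  let a : IrrCharacter G → ℤ := fun χ => c i₀ χ - ε * ind i₀ χ
  have hca : ∀ i χ, c i χ = a χ + ε * ind i χ := by
    intro i χ
    have h := congrArg (fun τ => classInner τ (χ : G → ℂ)) (hμ i)
    simp only [classInner_sub_left, hc, classInner_smul_left, classInner_irrCharacter] at h
    have h' : (c i χ : ℤ) - c i₀ χ = ε * (ind i χ - ind i₀ χ) := by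
      simp only [ind]
      split_ifs at h ⊢ <;> exact_mod_cast h
    simp only [a]; linarith
  have hεε : ε * ε = 1 := by rcases hε with rfl | rfl <;> norm_num
  have hsq : ∀ i, ∑ χ, a χ * a χ + 2 * ε * a (μ i) + 1 = (e : ℤ) + 1 := by
    intro i
    rw [← hnorm i]
    have : ∀ χ, c i χ * c i χ = a χ * a χ + (2 * ε * a χ + 1) * ind i χ := by
      intro χ
      rw [hca]
      simp only [ind]
      split_ifs with h
      · linear_combination hεε
      · ring
    rw [Finset.sum_congr rfl fun χ _ => this χ, Finset.sum_add_distrib]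
    simp only [ind, mul_ite, mul_one, mul_zero, Finset.sum_ite_eq, Finset.mem_univ, if_true]
    ring
  have hμpr : ∀ i, μ i ≠ pr := by
    have hall : ∀ i j, ind i pr = ind j pr := fun i j => by
      have := (hca i pr).symm.trans ((hcpr i).trans ((hcpr j).symm.trans (hca j pr)))
      rcases hε with rfl | rfl <;> linarith
    intro i hi
    obtain ⟨j, hj⟩ : ∃ j : Fin m, j ≠ i := by
      have : Nontrivial (Fin m) := Fin.nontrivial_iff_two_le.2 (by omega)
      exact exists_ne i
    have := hall i j
    simp only [ind, hi, if_true] at this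
    rw [if_neg (fun h => hj (hμinj (h.trans hi.symm)))] at this
    exact one_ne_zero this
  have hapr : a pr = 1 := by
    have := hca i₀ pr
    rw [hcpr] at this
    simp only [ind, if_neg (hμpr i₀)] at this
    linarith
  have haconst : ∀ i, a (μ i) = a (μ i₀) := fun i => by
    have h1 := hsq i; have h2 := hsq i₀
    rcases hε with rfl | rfl <;> linarith
  have ha0 : ∀ i, a (μ i) = 0 := by
    suffices a (μ i₀) = 0 from fun i => (haconst i).trans this
    by_contra hne
    have h1 : 1 ≤ a (μ i₀) * a (μ i₀) := by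
      have := mul_self_pos.2 hne; omega
    have hT : ∑ χ ∈ insert pr ((Finset.univ.erase i₀).image μ), c i₀ χ * c i₀ χ ≤ (e : ℤ) + 1 :=
      hnorm i₀ ▸ Finset.sum_le_sum_of_subset_of_nonneg (Finset.subset_univ _)
        (fun χ _ _ => mul_self_nonneg _)
    rw [Finset.sum_insert (by
      simp only [Finset.mem_image, Finset.mem_erase, not_exists, not_and]
      exact fun i _ => hμpr i), hcpr, Finset.sum_image hμinj.injOn,
      Finset.sum_congr rfl fun i hi => by
        rw [show c i₀ (μ i) = a (μ i₀) by
          rw [hca, haconst]; simp only [ind, if_neg (fun h => (Finset.mem_erase.1 hi).1 (hμinj h).symm),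
            mul_zero, add_zero]],
      Finset.sum_const, Finset.card_erase_of_mem (Finset.mem_univ _), Finset.card_univ, Fintype.card_fin,
      nsmul_eq_mul, Nat.cast_sub (by omega : 1 ≤ m)] at hT
    push_cast at hT
    nlinarith
  let s : Finset (IrrCharacter G) := Finset.univ.filter fun χ => a χ ≠ 0 ∧ χ ≠ pr
  have hs : ∀ χ ∈ s, ∀ i, μ i ≠ χ := fun χ hχ i h => (Finset.mem_filter.1 hχ).2.1 (h ▸ ha0 i)
  have hprs : pr ∉ s := fun h => (Finset.mem_filter.1 h).2.2 rfl
  have hzero : ∀ χ, χ ∉ insert pr s → a χ = 0 := fun χ hχ => by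
    by_contra h
    exact hχ (Finset.mem_insert.2 (or_iff_not_imp_left.2 fun h' => Finset.mem_filter.2 ⟨Finset.mem_univ _, h, h'⟩))
  let deg : IrrCharacter G → ℕ := fun χ => charDegree (χ : G → ℂ)
  have hdeg : ∀ χ : IrrCharacter G, (χ : G → ℂ) 1 = (deg χ : ℂ) := fun χ =>
    apply_one_eq_charDegree (isCharacter_of_isIrr χ.2)
  have hsum0 : ∀ i, ∑ χ, c i χ * (deg χ : ℤ) = 0 := by
    intro i
    have h := congrFun (eq_sum_classInner_smul (isClassFunction_indFun P (b (r i)))) 1
    simp only [Finset.sum_apply, Pi.smul_apply, smul_eq_mul] at h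
    change β i 1 = ∑ χ : IrrCharacter G, classInner (β i) (χ : G → ℂ) * (χ : G → ℂ) 1 at h
    simp only [hc, hβ1, hdeg] at h
    exact_mod_cast h.symm
  -- congruences
  have hcong : ∀ χ : IrrCharacter G, (p : ℤ) ∣ (deg χ : ℤ) + e * ∑ i, c i χ := by
    intro χ
    have hres := isCharacter_restrict (isCharacter_of_isIrr χ.2) P
    choose n hn using fun l : P →* ℂˣ =>
      classInner_natCast (isCharacter_of_isIrr (isIrrCharacter_linear l)) hres
    have hcn : ∀ i (g : Subgroup.normalizer (P : Set G)),
        (c i χ : ℤ) = (n 1 : ℤ) - n ((r i).comp (normConj P g)) := by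
      intro i g
      have h := hc i χ
      rw [show β i = indFun P (fun y => b (r i) (normConj P g y)) from (indFun_normConj P g _).symm,
        classInner_indFun P _ (isClassFunction_of_isIrr χ.2),
        show (fun y => b (r i) (normConj P g y)) = lin 1 - lin ((r i).comp (normConj P g)) by
          rw [honelin]; rfl, classInner_sub_left] at h
      simp only [lin] at h hn
      rw [hn, hn] at h
      exact_mod_cast h.symm
    have : Finite (P →* ℂˣ) := by
      let cP : CommGroup P := @IsCyclic.commGroup P _ (@isCyclic_of_prime_card P _ p ⟨hp⟩ hP)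
      exact Nat.finite_of_card_ne_zero (by
        rw [@CommGroup.card_monoidHom_of_hasEnoughRootsOfUnity P ℂ cP]; exact Nat.card_pos.ne')
    have : Fintype (P →* ℂˣ) := Fintype.ofFinite _
    have hcardH : Fintype.card (P →* ℂˣ) = p := by
      let cP : CommGroup P := @IsCyclic.commGroup P _ (@isCyclic_of_prime_card P _ p ⟨hp⟩ hP)
      rw [← Nat.card_eq_fintype_card, @CommGroup.card_monoidHom_of_hasEnoughRootsOfUnity P ℂ cP, hP]
    -- the degree
    have hd : (deg χ : ℂ) = ∑ l : P →* ℂˣ, (n l : ℂ) := by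
      rw [← hdeg]
      have hreg : ∀ y : P, ∑ l : P →* ℂˣ, (l y : ℂ) = if y = 1 then (p : ℂ) else 0 := by
        intro y
        by_cases hy : y = 1
        · subst hy; simp [hcardH]
        · rw [if_neg hy]
          obtain ⟨l₀, hl₀⟩ : ∃ l₀ : P →* ℂˣ, l₀ y ≠ 1 := by
            let cP : CommGroup P := @IsCyclic.commGroup P _ (@isCyclic_of_prime_card P _ p ⟨hp⟩ hP)
            exact @CommGroup.exists_apply_ne_one_of_hasEnoughRootsOfUnity P ℂ cP _ _ _ _ hy
          have h := Fintype.sum_equiv (Equiv.mulLeft l₀) (fun l => (l₀ y : ℂ) * (l y : ℂ))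
            (fun l => (l y : ℂ)) fun l => by simp
          rw [← Finset.mul_sum] at h
          by_contra hs
          exact hl₀ (Units.ext (mul_right_cancel₀ hs (h.trans (one_mul _).symm)))
      calc (χ : G → ℂ) 1 = (starRingEnd ℂ) ((χ : G → ℂ) 1) := by rw [hdeg]; simp
        _ = (p : ℂ)⁻¹ * ∑ y : P, (∑ l : P →* ℂˣ, (l y : ℂ)) * conj ((χ : G → ℂ) y) := by
            simp only [hreg, ite_mul, zero_mul, Finset.sum_ite_eq', Finset.mem_univ, if_true]
            rw [← mul_assoc, inv_mul_cancel₀ hp0, one_mul, OneMemClass.coe_one]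
        _ = _ := by
            simp only [← hn, classInner, hP, Finset.sum_mul, Finset.mul_sum]
            rw [Finset.sum_comm]
    have hd' : (deg χ : ℤ) = ∑ l : P →* ℂˣ, (n l : ℤ) := by exact_mod_cast hd
    have horbit : ∑ l : P →* ℂˣ, ((n 1 : ℤ) - n l) = e * ∑ i, c i χ := by
      rw [Finset.mul_sum]
      have hs1 : ∑ l : P →* ℂˣ, ((n 1 : ℤ) - n l) =
          ∑ i, ∑ l ∈ Finset.univ.filter (fun l => ∃ g, (r i).comp (normConj P g) = l), ((n 1 : ℤ) - n l) := by
        rw [← Finset.sum_biUnion]
        · refine (Finset.sum_subset (Finset.subset_univ _) fun l _ hl => ?_).symm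
          obtain rfl : l = 1 := by
            by_contra h
            obtain ⟨i, g, hg⟩ := hrsurj l h
            exact hl (Finset.mem_biUnion.2 ⟨i, Finset.mem_univ _,
              Finset.mem_filter.2 ⟨Finset.mem_univ _, g, hg⟩⟩)
          exact sub_self _
        · intro i _ j _ hij
          rw [Function.onFun, Finset.disjoint_filter]
          rintro l _ ⟨g, hg⟩ ⟨g', hg'⟩
          refine hij (hrinj i j (g' * g⁻¹) ?_)
          refine MonoidHom.ext fun y => ?_
          have e1 := DFunLike.congr_fun (hg'.trans hg.symm) (normConj P g⁻¹ y)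
          simp only [MonoidHom.comp_apply] at e1 ⊢
          convert e1 using 2 <;> exact Subtype.ext (by simp [normConj_coe, mul_assoc])
      rw [hs1]
      refine Finset.sum_congr rfl fun i _ => ?_
      rw [Finset.sum_eq_card_nsmul (b := c i χ) (fun l hl => by
        obtain ⟨g, rfl⟩ := (Finset.mem_filter.1 hl).2
        exact (hcn i g).symm), ← Fintype.card_subtype, ← Nat.card_eq_fintype_card, hrorb, nsmul_eq_mul]
    rw [Finset.sum_sub_distrib, Finset.sum_const, Finset.card_univ, hcardH, nsmul_eq_mul, ← hd'] at horbit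
    exact ⟨n 1, by linarith⟩
  refine ⟨deg (μ i₀), ε, s, a, hε, charDegree_dvd_card (μ i₀).2, charDegree_pos (μ i₀).2, ?_, ?_, ?_, ?_, ?_⟩
  · have h := hcong (μ i₀)
    rw [Finset.sum_eq_single i₀ (fun i _ hi => by
        rw [hca, ha0]; simp only [ind]; rw [if_neg (fun h => hi (hμinj h))]; ring) (by simp), hca, ha0] at h
    simpa [ind] using h
  · have h := hsq i₀
    rw [ha0, ← Finset.sum_subset (Finset.subset_univ (insert pr s))
      (fun χ _ hχ => by rw [hzero χ hχ, mul_zero]), Finset.sum_insert hprs, hapr] at h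
    linarith
  · intro χ hχ
    refine ⟨(Finset.mem_filter.1 hχ).2.1, charDegree_dvd_card χ.2, ?_, ?_⟩
    · have h1 := charDegree_pos χ.2
      rcases lt_or_eq_of_le (show 1 ≤ deg χ from h1) with h | h
      · exact h
      exfalso
      obtain ⟨l, hl⟩ := exists_hom_of_degree_one (isCharacter_of_isIrr χ.2) (by rw [hdeg, ← h, Nat.cast_one])
      refine (Finset.mem_filter.1 hχ).2.2 (Subtype.ext (funext fun g => ?_))
      have hg : g ∈ l.ker := Abelianization.commutator_subset_ker l (hperf ▸ Subgroup.mem_top g)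
      rw [hl, hg]; rfl
    · have h := hcong χ
      rw [Finset.sum_eq_card_nsmul (b := a χ) (fun i _ => by
        rw [hca]; simp [ind, hs χ hχ i]), Finset.card_univ, Fintype.card_fin, nsmul_eq_mul,
        ← mul_assoc, show (e : ℤ) * (m : ℤ) = (p : ℤ) - 1 by
          have : ((m * e : ℕ) : ℤ) = ((p - 1 : ℕ) : ℤ) := by rw [hm]
          rw [Nat.cast_sub hp.one_le, Nat.cast_mul, Nat.cast_one] at this
          linarith] at h
      obtain ⟨k, hk⟩ := h
      exact ⟨k - a χ, by change (deg χ : ℤ) - a χ = _; linear_combination hk⟩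
  · have h := hsum0 i₀
    simp only [hca, add_mul, Finset.sum_add_distrib, ind, mul_ite, mul_one, mul_zero, ite_mul, zero_mul,
      Finset.sum_ite_eq, Finset.mem_univ, if_true] at h
    rw [← Finset.sum_subset (Finset.subset_univ (insert pr s))
      (fun χ _ hχ => by rw [hzero χ hχ, zero_mul]), Finset.sum_insert hprs, hapr,
      show deg pr = 1 from charDegree_one, one_mul, Nat.cast_one] at h
    linarith
  · have htot : ∑ χ : IrrCharacter G, deg χ ^ 2 = Nat.card G := by
      have h := sum_degree_sq (G := G)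
      simp only [hdeg] at h
      exact_mod_cast h
    have hconst : ∀ i, deg (μ i) = deg (μ i₀) := by
      intro i
      have h := congrFun (hμ i) 1
      simp only [Pi.sub_apply, Pi.smul_apply, hβ1, sub_self, smul_eq_mul, hdeg] at h
      have : (deg (μ i) : ℂ) - deg (μ i₀) = 0 := by
        have hε0 : (ε : ℂ) ≠ 0 := by rcases hε with rfl | rfl <;> simp
        exact (mul_eq_zero.1 h.symm).resolve_left hε0
      exact_mod_cast sub_eq_zero.1 this
    rw [← htot]
    refine le_trans (le_of_eq ?_) (Finset.sum_le_sum_of_subset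
      (Finset.subset_univ (insert pr (Finset.univ.image μ ∪ s))))
    rw [Finset.sum_insert (by simp [hprs, hμpr]), Finset.sum_union (by
        rw [Finset.disjoint_right]
        intro χ hχ h
        obtain ⟨i, -, rfl⟩ := Finset.mem_image.1 h
        exact hs _ hχ i rfl), Finset.sum_image hμinj.injOn,
      show ∑ i, deg (μ i) ^ 2 = m * deg (μ i₀) ^ 2 by simp [hconst],
      show deg pr = 1 from charDegree_one]
    ring

end

end Cfsg.Agent.Lib.Char
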