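import Cfsg.Agent.Lib.Char.AbelianTI
import Cfsg.Agent.Lib.Char.Kernel
import Cfsg.Agent.Lib.Block.Klein

/-!
# The case `|N : C| = 3` of the abelian TI principal block theorem
-/

set_option linter.unusedSectionVars false
set_option linter.style.haveILetI false

namespace Cfsg.Agent.Lib.Char.ATI

open Cfsg Cfsg.Agent.Lib
open scoped ComplexConjugate

universe u

variable {G : Type u} [Group G] [Finite G] {p : ℕ} [hp : Fact p.Prime]
variable {M : Ideal AlgInt} [M.IsPrime]

/-- Conjugate elements of an abelian Sylow subgroup are conjugate in its normalizer. -/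
theorem fusion (P : Sylow p G)
    (hcomm : ∀ a ∈ (P : Subgroup G), ∀ b ∈ (P : Subgroup G), a * b = b * a) {y y' : G}
    (hy : y ∈ (P : Subgroup G)) (hy' : y' ∈ (P : Subgroup G)) (h : IsConj y y') :
    ∃ n ∈ Subgroup.normalizer ((P : Subgroup G) : Set G), n * y * n⁻¹ = y' := by
  have hsing : ∀ a ∈ (P : Subgroup G), (P : Subgroup G) ≤ Subgroup.normalizer ({a} : Set G) := by
    intro a ha b hb
    rw [Subgroup.mem_set_normalizer_iff]
    intro h
    simp only [Set.mem_singleton_iff]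
    constructor
    · rintro rfl; rw [hcomm b hb h ha, mul_inv_cancel_right]
    · intro e
      have e2 : b * h * b⁻¹ = b * a * b⁻¹ := by rw [e, hcomm b hb a ha, mul_inv_cancel_right]
      exact mul_left_cancel (mul_right_cancel e2)
  obtain ⟨w, hw⟩ := isConj_iff.1 h
  obtain ⟨n, hn, hny⟩ := Transfer.burnside_fusion_sets P (X := ({y} : Set G)) (Y := ({y'} : Set G))
    (hsing y hy) (hsing y' hy') w (fun z => by
      simp only [Set.mem_singleton_iff]
      constructor
      · rintro rfl; exact hw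
      · intro h'; exact mul_left_cancel (mul_right_cancel (h'.trans hw.symm)))
  exact ⟨n, hn, (hny y).1 rfl⟩

/-- Values of principal block characters on a section. -/
theorem section_value (hM : IsPModular p M) (P : Sylow p G)
    (hcomm : ∀ a ∈ (P : Subgroup G), ∀ b ∈ (P : Subgroup G), a * b = b * a)
    (hfrob : ∀ y : G, y ∈ (P : Subgroup G) → y ≠ 1 → Subgroup.centralizer ({y} : Set G) ⊓
      Subgroup.normalizer ((P : Subgroup G) : Set G) = Subgroup.centralizer ((P : Subgroup G) : Set G))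
    {χ : IrrCharacter G} (hχ : χ ∈ principalBlock M G) {z y : G} (hzy : IsPPart p z y)
    (hy : y ∈ (P : Subgroup G)) (hy1 : y ≠ 1) : (χ : G → ℂ) z = (χ : G → ℂ) y := by
  obtain ⟨v, hv, hc, hyp, hvr⟩ := hzy
  obtain ⟨⟨k, hk⟩, -, -⟩ := centralizer_data P hcomm hfrob hy hy1
  set w : Subgroup.centralizer ({y} : Set G) :=
    ⟨v, Subgroup.mem_centralizer_singleton_iff.2 hc.symm.eq⟩ with hw
  have hwK := Block.mem_of_regular_of_index
    (pPrimeCore p (Subgroup.centralizer ({y} : Set G))) hM hk (x := w)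
    (by rwa [hw, Subgroup.orderOf_mk])
  rw [← hv]
  exact S0942.result p M hM y hyp v ⟨w, hwK, rfl⟩ χ hχ

/-- A character whose value at a normal generator equals its degree is trivial. -/
theorem eq_one_of_value [Fintype G] {t : G} (hgen : ∀ K : Subgroup G, K.Normal → t ∈ K → K = ⊤)
    (χ : IrrCharacter G) (h : (χ : G → ℂ) t = (χ : G → ℂ) 1) : (χ : G → ℂ) = fun _ => 1 := by
  have hc := isCharacter_of_isIrr χ.2
  have htop := hgen (charKer (χ : G → ℂ)) (charKer_normal hc) ((mem_charKer hc).2 h)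
  have hall : ∀ g, (χ : G → ℂ) g = (χ : G → ℂ) 1 := fun g =>
    (mem_charKer hc).1 (by rw [htop]; trivial)
  by_contra hne
  have hone : IsIrrCharacter G (fun _ : G => (1 : ℂ)) := by
    have := isIrrCharacter_linear (1 : G →* ℂˣ)
    simpa using this
  have h0 := classInner_irr_ne χ.2 hone hne
  simp only [classInner, map_one, mul_one, hall, Finset.sum_const, Finset.card_univ, nsmul_eq_mul,
    ← Nat.card_eq_fintype_card] at h0
  rw [← mul_assoc, inv_mul_cancel₀ (card_ne_zero_complex G), one_mul] at h0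
  exact irr_degree_ne_zero χ.2 h0

variable (P : Sylow p G)

/-- Class multiplication: the weighted squares vanish away from the products. -/
theorem pair_sum_zero [Fintype G] (hM : IsPModular p M) (S : Finset (IrrCharacter G))
    (hS : ∀ χ, χ ∈ S ↔ χ ∈ principalBlock M G)
    (hcomm : ∀ a ∈ (P : Subgroup G), ∀ b ∈ (P : Subgroup G), a * b = b * a)
    (hfrob : ∀ y : G, y ∈ (P : Subgroup G) → y ≠ 1 → Subgroup.centralizer ({y} : Set G) ⊓
      Subgroup.normalizer ((P : Subgroup G) : Set G) = Subgroup.centralizer ((P : Subgroup G) : Set G))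
    {t y : G} (hy : y ∈ (P : Subgroup G)) (hy1 : y ≠ 1)
    (hsec : ∀ u w : G, IsConj u t → IsConj w t → p ∣ orderOf (u * w) →
      ∃ c z : G, z ∈ (P : Subgroup G) ∧ z ≠ 1 ∧ IsPPart p (c * (u * w) * c⁻¹) z ∧ ¬ IsConj y z) :
    ∑ χ ∈ S, (χ : G → ℂ) t ^ 2 / (χ : G → ℂ) 1 * conj ((χ : G → ℂ) y) = 0 := by
  classical
  have hyP : p ∣ orderOf y := by
    obtain ⟨k, hk⟩ := Block.isPElem_of_mem P.2 hy
    rcases Nat.eq_zero_or_pos k with rfl | hk0
    · exact absurd (orderOf_eq_one_iff.1 (by simpa using hk)) hy1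
    · exact hk ▸ dvd_pow_self p hk0.ne'
  have h0 : ∀ u w : G, CharTools.classInd t u * CharTools.classInd t w *
      ∑ χ ∈ S, (χ : G → ℂ) (u * w) * conj ((χ : G → ℂ) y) = 0 := by
    intro u w
    by_cases hu : IsConj u t
    swap; · rw [CharTools.classInd_of_not hu, zero_mul, zero_mul]
    by_cases hw : IsConj w t
    swap; · rw [CharTools.classInd_of_not hw, mul_zero, zero_mul]
    refine mul_eq_zero_of_right _ ?_
    by_cases hd : p ∣ orderOf (u * w)
    · obtain ⟨c, z, hz, hz1, hzp, hzy⟩ := hsec u w hu hw hd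
      rw [Finset.sum_congr rfl (g := fun χ : IrrCharacter G => (χ : G → ℂ) z * conj ((χ : G → ℂ) y))
        fun χ hχ => by
          rw [← Char.isClassFunction_of_isIrr χ.2 (u * w) c,
            section_value hM P hcomm hfrob ((hS χ).1 hχ) hzp hz hz1]]
      have h := column_orth P hM hcomm hfrob S hS hy hy1 hz
      have e : (Finset.univ.filter fun n : G =>
          n ∈ Subgroup.normalizer ((P : Subgroup G) : Set G) ∧ n * y * n⁻¹ = z) = ∅ :=
        Finset.filter_eq_empty_iff.2 fun n _ hn => hzy (isConj_iff.2 ⟨n, hn.2⟩)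
      rw [e, Finset.card_empty, Nat.cast_zero, mul_zero] at h
      exact (mul_eq_zero.1 h).resolve_left (Nat.cast_ne_zero.2 Nat.card_pos.ne')
    · have h := Block.weak_orthogonality hM (B := principalBlock M G) Block.isPBlock_principalBlock hd hyP
      rw [← Finset.sum_filter] at h
      rw [show S = Finset.univ.filter (· ∈ principalBlock M G) by ext; simp [hS]]
      exact h
  set idx : ℂ := ((Subgroup.centralizer ({t} : Set G)).index : ℂ) with hidx
  have hidx0 : idx ≠ 0 := Nat.cast_ne_zero.2 Subgroup.index_ne_zero_of_finite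
  have h1 : ∑ χ ∈ S, (∑ u : G, ∑ w : G, CharTools.classInd t u * CharTools.classInd t w *
      (χ : G → ℂ) (u * w)) * conj ((χ : G → ℂ) y) = 0 := by
    simp only [Finset.sum_mul]
    rw [Finset.sum_comm]
    refine Finset.sum_eq_zero fun u _ => ?_
    rw [Finset.sum_comm]
    refine Finset.sum_eq_zero fun w _ => ?_
    rw [← h0 u w, Finset.mul_sum]
    exact Finset.sum_congr rfl fun χ _ => by ring
  rw [Finset.sum_congr rfl fun χ _ => by rw [CharTools.sum_classes_mul χ.2, ← hidx]] at h1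
  refine (mul_eq_zero.1 (?_ : idx * idx * _ = 0)).resolve_left (mul_ne_zero hidx0 hidx0)
  rw [← h1, Finset.mul_sum]
  exact Finset.sum_congr rfl fun χ _ => by ring

/-- The four-point lemma. -/
theorem four_point {w₁ w₂ w₃ y₁ y₂ y₃ : ℚ} (h0 : 1 + w₁ + w₂ + w₃ = 0)
    (h1 : w₁ * y₁ + w₂ * y₂ + w₃ * y₃ = 0)
    (h2 : w₁ * y₁ ^ 2 + w₂ * y₂ ^ 2 + w₃ * y₃ ^ 2 = 0)
    (n1 : y₁ ≠ 0) (n2 : y₂ ≠ 0) (n3 : y₃ ≠ 0) (m1 : w₁ ≠ 0) (m2 : w₂ ≠ 0) (m3 : w₃ ≠ 0) :
    ((if w₁ < 0 then 1 else 0 : ℕ) + (if w₂ < 0 then 1 else 0) + (if w₃ < 0 then 1 else 0) = 2) ∧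
      IsSquare (w₁ * w₂ * w₃) := by
  have hd : ∀ {a b c x y z : ℚ}, 1 + a + b + c = 0 → a * x + b * y + c * z = 0 →
      a * x ^ 2 + b * y ^ 2 + c * z ^ 2 = 0 → z ≠ 0 → x ≠ 0 → c ≠ 0 → x - y ≠ 0 := by
    intro a b c x y z g0 g1 g2 hz hx hc hxy
    have e : y = x := by linarith
    rw [e] at g1 g2
    have e1 : c * z * (z - x) = 0 := by linear_combination g2 - x * g1
    rcases mul_eq_zero.1 e1 with h | h
    · exact mul_ne_zero hc hz h
    · have e2 : z = x := by linarith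
      rw [e2] at g1
      exact hx (by linear_combination -g1 + x * g0)
  have d12 : y₁ - y₂ ≠ 0 := hd h0 h1 h2 n3 n1 m3
  have d13 : y₁ - y₃ ≠ 0 := hd (a := w₁) (b := w₃) (c := w₂) (by linarith) (by linarith)
    (by linarith) n2 n1 m2
  have d23 : y₂ - y₃ ≠ 0 := hd (a := w₂) (b := w₃) (c := w₁) (by linarith) (by linarith)
    (by linarith) n1 n2 m1
  refine ⟨?_, ?_⟩
  · have key : ∀ {a b c x y z : ℚ}, 1 + a + b + c = 0 → a * x + b * y + c * z = 0 →
        a * x ^ 2 + b * y ^ 2 + c * z ^ 2 = 0 → z ≠ 0 → 0 < a → 0 < b → False := by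
      intro a b c x y z g0 g1 g2 hz ha hb
      have hcs : 0 ≤ a * b * (x - y) ^ 2 := by positivity
      have hW : a * b * (x - y) ^ 2 = c * z ^ 2 := by
        linear_combination (a + b) * g2 - (a * x + b * y - c * z) * g1 - c * z ^ 2 * g0
      have hz2 : 0 < z ^ 2 := by positivity
      have hc : c < 0 := by linarith
      nlinarith
    rcases lt_or_gt_of_ne m1 with a | a <;> rcases lt_or_gt_of_ne m2 with b | b <;>
      rcases lt_or_gt_of_ne m3 with c | c
    · exfalso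
      have : 0 < -(w₁ * y₁ ^ 2) := by nlinarith [sq_pos_iff.2 n1]
      nlinarith [sq_nonneg y₂, sq_nonneg y₃]
    · simp [a, b, not_lt.2 c.le]
    · simp [a, c, not_lt.2 b.le]
    · exact (key (a := w₂) (b := w₃) (c := w₁) (x := y₂) (y := y₃) (z := y₁) (by linarith) (by linarith) (by linarith) n1 b c).elim
    · simp [b, c, not_lt.2 a.le]
    · exact (key (a := w₁) (b := w₃) (c := w₂) (x := y₁) (y := y₃) (z := y₂) (by linarith) (by linarith) (by linarith) n2 a c).elim
    · exact (key h0 h1 h2 n3 a b).elim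
    · exfalso; linarith
  · have e1 : w₁ * ((y₁ - y₂) * (y₁ - y₃)) = -(y₂ * y₃) := by
      linear_combination h2 - (y₂ + y₃) * h1 + y₂ * y₃ * h0
    have e2 : w₂ * ((y₂ - y₁) * (y₂ - y₃)) = -(y₁ * y₃) := by
      linear_combination h2 - (y₁ + y₃) * h1 + y₁ * y₃ * h0
    have e3 : w₃ * ((y₃ - y₁) * (y₃ - y₂)) = -(y₁ * y₂) := by
      linear_combination h2 - (y₁ + y₂) * h1 + y₁ * y₂ * h0
    refine ⟨y₁ * y₂ * y₃ / ((y₁ - y₂) * (y₁ - y₃) * (y₂ - y₃)), ?_⟩
    field_simp
    have key : (w₁ * ((y₁ - y₂) * (y₁ - y₃))) * (w₂ * ((y₂ - y₁) * (y₂ - y₃))) *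
        (w₃ * ((y₃ - y₁) * (y₃ - y₂))) = -(y₁ * y₂ * y₃) ^ 2 := by rw [e1, e2, e3]; ring
    linear_combination -key

/-- The last assertion of the theorem for `|N : C| = 3`. -/
theorem three_signs [Fintype G] (hM : IsPModular p M) (hab : IsMulCommutative P)
    (hm2 : 3 + 1 < Nat.card P)
    (hCN : (Subgroup.centralizer ((P : Subgroup G) : Set G)).relIndex
      (Subgroup.normalizer ((P : Subgroup G) : Set G)) = 3)
    (hfrob : ∀ y : G, y ∈ (P : Subgroup G) → y ≠ 1 → Subgroup.centralizer ({y} : Set G) ⊓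
      Subgroup.normalizer ((P : Subgroup G) : Set G) = Subgroup.centralizer ((P : Subgroup G) : Set G))
    {ι : Type u} [Fintype ι] {rep : ι → ((P : Subgroup G) →* ℂˣ)} {μ : ι → IrrCharacter G}
    {χ₂ χ₃ : IrrCharacter G} {a₂ a₃ δ : ℤ}
    (h2 : (χ₂ : G → ℂ) ≠ fun _ => 1) (h3 : (χ₃ : G → ℂ) ≠ fun _ => 1)
    (hne : χ₂ ≠ χ₃) (hμ2 : ∀ i, μ i ≠ χ₂) (hμ3 : ∀ i, μ i ≠ χ₃)
    (hμ1 : ∀ i, μ i ≠ Block.oneIrr G) (hμi : Function.Injective μ)
    (hmem : ∀ χ, χ ∈ principalBlock M G ↔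
      (χ = Block.oneIrr G ∨ χ = χ₂ ∨ χ = χ₃) ∨ ∃ i, μ i = χ)
    (hδ : δ = 1 ∨ δ = -1) (ha₂ : a₂ = 1 ∨ a₂ = -1) (ha₃ : a₃ = 1 ∨ a₃ = -1)
    (hrep1 : ∀ i, rep i ≠ 1) (huniq : ∀ ψ, ψ ≠ 1 → ∃! i, Rel P (rep i) ψ)
    (hv2 : ∀ y : G, y ∈ (P : Subgroup G) → y ≠ 1 → (χ₂ : G → ℂ) y = a₂)
    (hv3 : ∀ y : G, y ∈ (P : Subgroup G) → y ≠ 1 → (χ₃ : G → ℂ) y = a₃)
    (hYv : ∀ i, ∀ y : (P : Subgroup G), (y : G) ≠ 1 → (μ i : G → ℂ) y =
        (δ : ℂ) * ∑ᶠ ψ' ∈ {ψ' | Rel P (rep i) ψ'}, ((ψ' y : ℂˣ) : ℂ))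
    (hYreg : ∀ i j, ∀ g : G, ¬ p ∣ orderOf g → (μ i : G → ℂ) g = (μ j : G → ℂ) g)
    (hrel : ∀ i, ∀ g : G, ¬ p ∣ orderOf g → 1 + (a₂ : ℂ) * (χ₂ : G → ℂ) g +
        (a₃ : ℂ) * (χ₃ : G → ℂ) g - (δ : ℂ) * (μ i : G → ℂ) g = 0)
    {t : G} (ht : orderOf t = 2) (hgen : ∀ K : Subgroup G, K.Normal → t ∈ K → K = ⊤) :
    ((if a₂ = -1 then 1 else 0 : ℕ) + (if a₃ = -1 then 1 else 0) + (if δ = 1 then 1 else 0) = 2) ∧
      ∀ i, IsSquare (charDegree (μ i : G → ℂ) *
        (charDegree (χ₂ : G → ℂ) * charDegree (χ₃ : G → ℂ))) := by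
  classical
  have hcomm : ∀ a ∈ (P : Subgroup G), ∀ b ∈ (P : Subgroup G), a * b = b * a :=
    fun a ha b hb => congrArg Subtype.val (hab.1.1 ⟨a, ha⟩ ⟨b, hb⟩)
  have hcP : ∀ a b : (P : Subgroup G), a * b = b * a := hab.1.1
  haveI : Fintype (P : Subgroup G) := Fintype.ofFinite _
  haveI : Fintype ((P : Subgroup G) →* ℂˣ) := Fintype.ofFinite _
  set N := Subgroup.normalizer ((P : Subgroup G) : Set G) with hN
  set C := Subgroup.centralizer ((P : Subgroup G) : Set G) with hC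
  have hCle : C ≤ N := Subgroup.centralizer_le_normalizer _
  -- structure of `N / C`
  have hCnorm : (C.subgroupOf N).Normal := by
    refine ⟨fun c hc g => ?_⟩
    rw [Subgroup.mem_subgroupOf] at hc ⊢
    refine Subgroup.mem_centralizer_iff.2 fun x hx => ?_
    have hx' : (g : G)⁻¹ * x * g ∈ (P : Subgroup G) := by
      have := (Subgroup.mem_normalizer_iff.1 (inv_mem g.2) x).1 hx
      simpa using this
    have e := Subgroup.mem_centralizer_iff.1 hc _ hx'
    push_cast
    calc x * ((g : G) * c * (g : G)⁻¹) = (g : G) * ((g : G)⁻¹ * x * g * c) * (g : G)⁻¹ := by group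
      _ = (g : G) * c * (g : G)⁻¹ * x := by rw [e]; group
  have h3C : ∀ n ∈ N, n ^ 3 ∈ C := by
    intro n hn
    have := (C.subgroupOf N).pow_index_mem ⟨n, hn⟩
    rw [show (C.subgroupOf N).index = 3 from hCN, Subgroup.mem_subgroupOf] at this
    exact this
  have h2C : ∀ n ∈ N, n * n ∈ C → n ∈ C := by
    intro n hn h
    have e : n = (n * n)⁻¹ * n ^ 3 := by group
    rw [e]; exact mul_mem (inv_mem h) (h3C n hn)
  have hfix : ∀ n ∈ N, ∀ y ∈ (P : Subgroup G), y ≠ 1 → n * y * n⁻¹ = y → n ∈ C := by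
    intro n hn y hy hy1 h
    rw [← hfrob y hy hy1]
    exact Subgroup.mem_inf.2 ⟨Subgroup.mem_centralizer_singleton_iff.2 (mul_inv_eq_iff_eq_mul.1 h), hn⟩
  have hinvfix : ∀ y ∈ (P : Subgroup G), IsConj y y⁻¹ → y * y = 1 := by
    intro y hy h
    by_cases hy1 : y = 1
    · simp [hy1]
    obtain ⟨n, hn, hny⟩ := fusion P hcomm hy (inv_mem hy) h
    have h2 : n * n * y * (n * n)⁻¹ = y := by
      calc n * n * y * (n * n)⁻¹ = n * (n * y * n⁻¹) * n⁻¹ := by group
        _ = n * y⁻¹ * n⁻¹ := by rw [hny]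
        _ = (n * y * n⁻¹)⁻¹ := by group
        _ = y := by rw [hny, inv_inv]
    have hc := h2C n hn (hfix _ (mul_mem hn hn) y hy hy1 h2)
    have e : y * n = n * y := Subgroup.mem_centralizer_iff.1 hc y hy
    rw [← e, mul_inv_cancel_right] at hny
    exact eq_inv_iff_mul_eq_one.1 hny
  -- products of two conjugates of `t`
  have htt : ∀ {u : G}, IsConj u t → u * u = 1 := fun {u} h => by
    have h2 := Block.orderOf_of_isConj h.symm
    have := pow_orderOf_eq_one u
    rwa [h2, ht, pow_two] at this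
  have hsylow : ∀ z : G, Block.IsPElem p z → ∃ c, c * z * c⁻¹ ∈ (P : Subgroup G) := by
    intro z hz
    obtain ⟨Q, hQ⟩ := (Block.IsPElem.isPGroup_zpowers hz).exists_le_sylow
    obtain ⟨g, hg⟩ := MulAction.exists_smul_eq G Q P
    refine ⟨g, ?_⟩
    rw [← hg, Sylow.coe_subgroup_smul]
    exact Subgroup.smul_mem_pointwise_smul z (MulAut.conj g) (Q : Subgroup G)
      (hQ (Subgroup.mem_zpowers z))
  have hpair : ∀ u w : G, IsConj u t → IsConj w t → p ∣ orderOf (u * w) →
      ∃ c z : G, z ∈ (P : Subgroup G) ∧ z ≠ 1 ∧ IsPPart p (c * (u * w) * c⁻¹) z ∧ z * z = 1 ∧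
        Commute (c * u * c⁻¹) z := by
    intro u w hu hw hd
    obtain ⟨z, hz⟩ := Block.exists_isPPart (p := p) (u * w)
    obtain ⟨v, hzv, hcv, hzp, hvr⟩ := id hz
    obtain ⟨c, hc⟩ := hsylow z hzp
    have hz1 : z ≠ 1 := by
      rintro rfl
      rw [one_mul] at hzv
      exact hvr (hzv ▸ hd)
    have hz' := Block.IsPPart.conj hz c
    set u' := c * u * c⁻¹ with hu'
    set z' := c * z * c⁻¹ with hz'def
    have hu2 : u * u = 1 := htt hu
    have hinv : u * (u * w) * u⁻¹ = (u * w)⁻¹ := by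
      rw [mul_inv_rev, inv_eq_of_mul_eq_one_left hu2, inv_eq_of_mul_eq_one_left (htt hw),
        ← mul_assoc, hu2, one_mul]
    have hzinv : u * z * u⁻¹ = z⁻¹ := by
      have h1 := Block.IsPPart.conj hz u
      rw [hinv] at h1
      refine Block.IsPPart.unique h1 ?_
      refine ⟨v⁻¹, by rw [← mul_inv_rev, ← hcv.eq, hzv], hcv.inv_inv, ?_, by rwa [orderOf_inv]⟩
      obtain ⟨k, hk⟩ := hzp
      exact ⟨k, by rw [orderOf_inv, hk]⟩
    have hconj : IsConj z' z'⁻¹ := by
      refine isConj_iff.2 ⟨u', ?_⟩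
      rw [hu', hz'def]
      calc c * u * c⁻¹ * (c * z * c⁻¹) * (c * u * c⁻¹)⁻¹ = c * (u * z * u⁻¹) * c⁻¹ := by group
        _ = (c * z * c⁻¹)⁻¹ := by rw [hzinv]; group
    have hzz := hinvfix z' hc hconj
    refine ⟨c, z', hc, fun e => hz1 (conj_eq_one_iff.1 e), hz', hzz, ?_⟩
    show u' * z' = z' * u'
    have e : u' * z' * u'⁻¹ = z' := by
      have h' : z'⁻¹ = z' := inv_eq_of_mul_eq_one_left hzz
      rw [hz'def] at h'
      rw [hu', hz'def]
      calc c * u * c⁻¹ * (c * z * c⁻¹) * (c * u * c⁻¹)⁻¹ = c * (u * z * u⁻¹) * c⁻¹ := by group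
        _ = (c * z * c⁻¹)⁻¹ := by rw [hzinv]; group
        _ = c * z * c⁻¹ := h'
    exact mul_inv_eq_iff_eq_mul.1 e
  set S := Finset.univ.filter (fun χ : IrrCharacter G => χ ∈ principalBlock M G) with hSdef
  have hS : ∀ χ, χ ∈ S ↔ χ ∈ principalBlock M G := fun χ => by simp [hSdef]
  have h1f : (Block.oneIrr G : G → ℂ) = fun _ => 1 := funext Block.oneIrr_apply
  have hSsum : ∀ f : IrrCharacter G → ℂ, ∑ χ ∈ S, f χ =
      f (Block.oneIrr G) + f χ₂ + f χ₃ + ∑ i, f (μ i) := by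
    intro f
    have e : S = ({Block.oneIrr G, χ₂, χ₃} : Finset (IrrCharacter G)) ∪ Finset.univ.image μ := by
      ext χ; rw [hS, hmem]; simp [or_assoc]
    rw [e, Finset.sum_union, Finset.sum_image (fun i _ j _ h => hμi h),
      Finset.sum_insert, Finset.sum_pair hne]
    · ring
    · simp only [Finset.mem_insert, Finset.mem_singleton, not_or]
      exact ⟨fun h => h2 (h ▸ h1f), fun h => h3 (h ▸ h1f)⟩
    · rw [Finset.disjoint_left]
      intro χ hχ hχ'
      obtain ⟨i, -, rfl⟩ := Finset.mem_image.1 hχ'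
      simp only [Finset.mem_insert, Finset.mem_singleton] at hχ
      rcases hχ with h | h | h
      exacts [hμ1 i h, hμ2 i h, hμ3 i h]
  have hbij := lin_bijective (H := (P : Subgroup G)) hcP
  have hcolP : ∀ y : (P : Subgroup G), ∑ ψ : (P : Subgroup G) →* ℂˣ, (ψ y : ℂ) =
      if y = 1 then (Nat.card P : ℂ) else 0 := by
    intro y
    rw [← sum_degree_mul y]
    refine Fintype.sum_bijective lin hbij _ _ fun ψ => ?_
    simp
  have hone1 : ∀ y : (P : Subgroup G), ((((1 : (P : Subgroup G) →* ℂˣ) y : ℂˣ)) : ℂ) = 1 := fun y => rfl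
  have hdecomp : ∀ F : ((P : Subgroup G) →* ℂˣ) → ℂ, ∑ ψ : (P : Subgroup G) →* ℂˣ, F ψ =
      F 1 + ∑ i, ∑ ψ ∈ orb P (rep i), F ψ := by
    intro F
    rw [← Finset.add_sum_erase _ _ (Finset.mem_univ (1 : (P : Subgroup G) →* ℂˣ))]
    congr 1
    rw [← Finset.sum_biUnion]
    · congr 1
      ext ψ
      simp only [Finset.mem_erase, Finset.mem_univ, and_true, Finset.mem_biUnion, orb,
        Finset.mem_filter, true_and]
      constructor
      · intro h; obtain ⟨i, hi, -⟩ := huniq ψ h; exact ⟨i, hi⟩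
      · rintro ⟨i, hi⟩ rfl; exact hrep1 i (rel_one P hi)
    · intro i _ j _ hij
      rw [Function.onFun, Finset.disjoint_left]
      intro ψ h1 h2
      have hi := (Finset.mem_filter.1 h1).2
      have hj := (Finset.mem_filter.1 h2).2
      exact hij ((huniq ψ fun e => hrep1 i (rel_one P (e ▸ hi))).unique hi hj)
  have hfilt : ∀ (y : (P : Subgroup G)) (i : ι), ∑ᶠ ψ' ∈ {ψ' | Rel P (rep i) ψ'}, ((ψ' y : ℂˣ) : ℂ) =
      ∑ ψ ∈ orb P (rep i), (ψ y : ℂ) := by
    intro y i
    rw [finsum_mem_eq_finite_toFinset_sum _ (Set.toFinite _)]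
    refine Finset.sum_congr ?_ fun _ _ => rfl
    ext; simp [orb]
  have hlamSum : ∀ y : (P : Subgroup G), y ≠ 1 → ∑ i, ∑ ψ ∈ orb P (rep i), (ψ y : ℂ) = -1 := by
    intro y hy
    have h := hcolP y
    rw [if_neg hy, hdecomp, hone1] at h
    linear_combination h
  obtain ⟨i₀⟩ : Nonempty ι := by
    obtain ⟨y, hy1⟩ : ∃ y : (P : Subgroup G), y ≠ 1 := by
      by_contra h
      push Not at h
      have : Nat.card (P : Subgroup G) ≤ 1 :=
        Finite.card_le_one_iff_subsingleton.2 ⟨fun a b => (h a).trans (h b).symm⟩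
      omega
    by_contra hne'
    have h := hlamSum y hy1
    rw [not_nonempty_iff] at hne'
    simp at h
  have hTint : ∀ χ : IrrCharacter G, ∃ z : ℤ, (χ : G → ℂ) t = z :=
    fun χ => Block.exists_int_of_sq_eq_one (isCharacter_of_isIrr χ.2) (htt (IsConj.refl t))
  choose T hT using hTint
  have hTne : ∀ χ : IrrCharacter G, (χ : G → ℂ) ≠ (fun _ => 1) →
      T χ ≠ (charDegree (χ : G → ℂ) : ℤ) := by
    intro χ hχ h
    refine hχ (eq_one_of_value hgen χ ?_)
    rw [hT χ, h, Block.irr_one_eq_natCast]; norm_num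
  have he1 : 1 + (a₂ : ℂ) * charDegree (χ₂ : G → ℂ) + (a₃ : ℂ) * charDegree (χ₃ : G → ℂ) -
      (δ : ℂ) * charDegree (μ i₀ : G → ℂ) = 0 := by
    have h := hrel i₀ 1 Block.regular_one
    rwa [Block.irr_one_eq_natCast, Block.irr_one_eq_natCast, Block.irr_one_eq_natCast] at h
  have hdeg : ∀ i, charDegree (μ i : G → ℂ) = charDegree (μ i₀ : G → ℂ) := by
    intro i
    have h := hYreg i i₀ 1 Block.regular_one
    rwa [Block.irr_one_eq_natCast, Block.irr_one_eq_natCast, Nat.cast_inj] at h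
  set f₂ := charDegree (χ₂ : G → ℂ) with hf₂
  set f₃ := charDegree (χ₃ : G → ℂ) with hf₃
  set e := charDegree (μ i₀ : G → ℂ) with he
  have f2p : 0 < f₂ := charDegree_pos χ₂.2
  have f3p : 0 < f₃ := charDegree_pos χ₃.2
  have ep : 0 < e := charDegree_pos (μ i₀).2
  have hμne : (μ i₀ : G → ℂ) ≠ fun _ => 1 := fun h =>
    hμ1 i₀ (Subtype.ext (h.trans h1f.symm))
  by_cases hp2 : p = 2
  · exfalso
    subst hp2
    obtain ⟨c₀, hc₀⟩ := hsylow t ⟨1, by rw [ht, pow_one]⟩
    set s := c₀ * t * c₀⁻¹ with hs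
    have hst : IsConj s t := (isConj_iff.2 ⟨c₀, rfl⟩ : IsConj t s).symm
    have hss : s * s = 1 := htt hst
    have hs1 : s ≠ 1 := fun h => by
      have h' := conj_eq_one_iff.1 h
      rw [h', orderOf_one] at ht; omega
    -- a generator of `N / C`
    obtain ⟨n₁, hn₁, hn₁C⟩ : ∃ n ∈ N, n ∉ C := by
      by_contra h
      push Not at h
      have : C.relIndex N = 1 := Subgroup.relIndex_eq_one.2 h
      rw [hCN] at this; omega
    have hcov : ∀ n ∈ N, ∃ k : Fin 3, (n₁ ^ (k : ℕ))⁻¹ * n ∈ C := by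
      intro n hn
      let e : Fin 3 → N ⧸ C.subgroupOf N := fun k =>
        QuotientGroup.mk (⟨n₁ ^ (k : ℕ), pow_mem hn₁ _⟩ : N)
      have hinj : Function.Injective e := by
        intro a b hab
        rw [QuotientGroup.eq, Subgroup.mem_subgroupOf] at hab
        push_cast at hab
        have h2 : n₁ * n₁ ∉ C := fun h => hn₁C (h2C n₁ hn₁ h)
        fin_cases a <;> fin_cases b <;> try rfl
        all_goals exfalso
        all_goals simp [pow_succ, ← mul_assoc] at hab
        all_goals first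
          | exact hn₁C hab
          | exact hn₁C (inv_inv n₁ ▸ inv_mem hab)
          | exact h2 hab
          | exact h2 (by have := inv_mem hab; simpa [mul_assoc] using this)
      have hcard : Nat.card (N ⧸ C.subgroupOf N) = 3 := hCN
      have hbij' : Function.Bijective e := (Nat.bijective_iff_injective_and_card e).2
        ⟨hinj, by rw [hcard, Nat.card_fin]⟩
      obtain ⟨k, hk⟩ := hbij'.2 (QuotientGroup.mk ⟨n, hn⟩)
      refine ⟨k, ?_⟩
      rw [QuotientGroup.eq, Subgroup.mem_subgroupOf] at hk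
      exact hk
    let cn : Fin 3 → ↥(P : Subgroup G) →* ↥(P : Subgroup G) := fun k =>
      cj P (n₁ ^ (k : ℕ)) (pow_mem hn₁ _)
    have hcnfree : ∀ a b : Fin 3, ∀ w : (P : Subgroup G), w ≠ 1 → cn a w = cn b w → a = b := by
      intro a b w hw hab
      have h0 : (n₁ ^ (b : ℕ))⁻¹ * n₁ ^ (a : ℕ) ∈ C := by
        refine hfix _ (mul_mem (inv_mem (pow_mem hn₁ _)) (pow_mem hn₁ _)) w w.2
          (fun h => hw (Subtype.ext h)) ?_
        have e : n₁ ^ (a : ℕ) * w * (n₁ ^ (a : ℕ))⁻¹ = n₁ ^ (b : ℕ) * w * (n₁ ^ (b : ℕ))⁻¹ :=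
          congrArg Subtype.val hab
        calc (n₁ ^ (b : ℕ))⁻¹ * n₁ ^ (a : ℕ) * w * ((n₁ ^ (b : ℕ))⁻¹ * n₁ ^ (a : ℕ))⁻¹
            = (n₁ ^ (b : ℕ))⁻¹ * (n₁ ^ (a : ℕ) * w * (n₁ ^ (a : ℕ))⁻¹) * n₁ ^ (b : ℕ) := by group
          _ = w := by rw [e]; group
      have h2 : n₁ * n₁ ∉ C := fun h => hn₁C (h2C n₁ hn₁ h)
      fin_cases a <;> fin_cases b <;> try rfl
      all_goals exfalso
      all_goals simp [pow_succ, ← mul_assoc] at h0
      all_goals first
        | exact hn₁C h0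
        | exact hn₁C (inv_inv n₁ ▸ inv_mem h0)
        | exact h2 h0
        | exact h2 (by have := inv_mem h0; simpa [mul_assoc] using this)
    have hs' : s ∈ (P : Subgroup G) := hc₀
    set t₀ : (P : Subgroup G) := ⟨s, hs'⟩ with ht₀
    set O := Finset.univ.filter (fun a : (P : Subgroup G) => IsConj (a : G) t) with hO
    have ht₀1 : t₀ ≠ 1 := fun h => hs1 (congrArg Subtype.val h)
    have hOimg : O = Finset.univ.image fun k => cn k t₀ := by
      ext a
      simp only [hO, Finset.mem_filter, Finset.mem_univ, true_and, Finset.mem_image]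
      constructor
      · intro ha
        obtain ⟨n, hn, hna⟩ := fusion P hcomm hs' a.2 (hst.trans ha.symm)
        obtain ⟨k, hk⟩ := hcov n hn
        refine ⟨k, Subtype.ext ?_⟩
        have e := Subgroup.mem_centralizer_iff.1 hk s hs'
        show n₁ ^ (k : ℕ) * s * (n₁ ^ (k : ℕ))⁻¹ = a
        rw [← hna]
        calc n₁ ^ (k : ℕ) * s * (n₁ ^ (k : ℕ))⁻¹
            = n₁ ^ (k : ℕ) * (s * ((n₁ ^ (k : ℕ))⁻¹ * n)) * n⁻¹ := by group
          _ = n * s * n⁻¹ := by rw [e]; group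
      · rintro ⟨k, rfl⟩
        exact (isConj_iff.2 ⟨n₁ ^ (k : ℕ), rfl⟩ : IsConj s (cn k t₀ : G)).symm.trans hst
    have hOinj : Function.Injective fun k => cn k t₀ := fun a b h => hcnfree a b t₀ ht₀1 h
    -- the product of the three conjugates is trivial
    have hprod : cn 0 t₀ * cn 1 t₀ * cn 2 t₀ = 1 := by
      by_contra hne'
      have hper : ∀ k : Fin 3, cn 1 (cn k t₀) = cn (k + 1) t₀ := by
        intro k
        refine Subtype.ext ?_
        show n₁ ^ 1 * (n₁ ^ (k : ℕ) * s * (n₁ ^ (k : ℕ))⁻¹) * (n₁ ^ 1)⁻¹ =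
          n₁ ^ ((k + 1 : Fin 3) : ℕ) * s * (n₁ ^ ((k + 1 : Fin 3) : ℕ))⁻¹
        fin_cases k
        · simp
        · simp [pow_succ, mul_assoc]
        · have e := Subgroup.mem_centralizer_iff.1 (h3C n₁ hn₁) s hs'
          calc n₁ ^ 1 * (n₁ ^ 2 * s * (n₁ ^ 2)⁻¹) * (n₁ ^ 1)⁻¹
              = n₁ ^ 3 * s * (n₁ ^ 3)⁻¹ := by group
            _ = n₁ ^ 0 * s * (n₁ ^ 0)⁻¹ := by rw [← e]; group
      have h1 : cn 1 (cn 0 t₀ * cn 1 t₀ * cn 2 t₀) = cn 0 t₀ * cn 1 t₀ * cn 2 t₀ := by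
        rw [map_mul, map_mul, hper, hper, hper]
        show cn 1 t₀ * cn 2 t₀ * cn 0 t₀ = _
        rw [hcP (cn 1 t₀ * cn 2 t₀), mul_assoc]
      exact absurd (hcnfree 1 0 _ hne' (h1.trans (Subtype.ext (by simp [cn])))) (by decide)
    have hOpair : ∀ a ∈ O, ∀ b ∈ O, a * b ≠ 1 → a * b ∈ O := by
      intro a ha b hb hab1
      have hsq : ∀ x ∈ O, x * x = 1 := fun x hx => Subtype.ext (htt (Finset.mem_filter.1 hx).2)
      rw [hOimg, Finset.mem_image] at ha hb
      obtain ⟨i, -, rfl⟩ := ha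
      obtain ⟨j, -, rfl⟩ := hb
      have hm : ∀ k, cn k t₀ ∈ O := fun k => by rw [hOimg]; exact Finset.mem_image_of_mem _ (Finset.mem_univ _)
      have hij : i ≠ j := fun h => hab1 (by rw [h]; exact hsq _ (hm j))
      have q : ∀ x y z : Fin 3, cn x t₀ * cn y t₀ * cn z t₀ = 1 → cn x t₀ * cn y t₀ ∈ O := by
        intro x y z h
        have : cn x t₀ * cn y t₀ = cn z t₀ := mul_right_cancel (h.trans (hsq _ (hm z)).symm)
        rw [this]; exact hm z
      have p1 : cn 1 t₀ * cn 2 t₀ * cn 0 t₀ = 1 := by rw [hcP (cn 1 t₀ * cn 2 t₀), ← mul_assoc, hprod]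
      have p2 : cn 2 t₀ * cn 0 t₀ * cn 1 t₀ = 1 := by rw [hcP (cn 2 t₀ * cn 0 t₀), ← mul_assoc, p1]
      fin_cases i <;> fin_cases j
      · exact absurd rfl hij
      · exact q 0 1 2 hprod
      · rw [hcP]; exact q 2 0 1 p2
      · rw [hcP]; exact q 0 1 2 hprod
      · exact absurd rfl hij
      · exact q 1 2 0 p1
      · exact q 2 0 1 p2
      · rw [hcP]; exact q 1 2 0 p1
      · exact absurd rfl hij
    -- the sections met by products of two conjugates
    have hsec2 : ∀ u w : G, IsConj u t → IsConj w t → 2 ∣ orderOf (u * w) →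
        ∃ c z : G, z ∈ (P : Subgroup G) ∧ z ≠ 1 ∧ IsPPart 2 (c * (u * w) * c⁻¹) z ∧ IsConj z t := by
      intro u w hu hw hd
      obtain ⟨c, z, hz, hz1, hzp, hzz, hcz⟩ := hpair u w hu hw hd
      refine ⟨c, z, hz, hz1, hzp, ?_⟩
      obtain ⟨⟨k, hk⟩, -, -⟩ := centralizer_data P hcomm hfrob hz hz1
      set Z := Subgroup.centralizer ({z} : Set G) with hZ
      set u' := c * u * c⁻¹ with hu'
      have hu't : IsConj u' t := (isConj_iff.2 ⟨c, rfl⟩ : IsConj u u').symm.trans hu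
      have hw't : IsConj (c * w * c⁻¹) t := (isConj_iff.2 ⟨c, rfl⟩ : IsConj w (c * w * c⁻¹)).symm.trans hw
      obtain ⟨v, hv, hcv, -, hvr⟩ := hzp
      have hu'Z : u' ∈ Z := Subgroup.mem_centralizer_singleton_iff.2 hcz.eq
      have hvZ : v ∈ Z := Subgroup.mem_centralizer_singleton_iff.2 hcv.symm.eq
      have hwZ : c * w * c⁻¹ ∈ Z := by
        have e : c * w * c⁻¹ = u' * (z * v) := by
          rw [hv, hu']
          calc c * w * c⁻¹ = c * (u * u) * w * c⁻¹ := by rw [htt hu]; group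
            _ = c * u * c⁻¹ * (c * (u * w) * c⁻¹) := by group
        rw [e]
        exact mul_mem hu'Z (mul_mem (Subgroup.mem_centralizer_singleton_iff.2 rfl) hvZ)
      have hPZ : (P : Subgroup G) ≤ Z := fun a ha =>
        Subgroup.mem_centralizer_singleton_iff.2 (hcomm a ha z hz)
      set Q : Sylow 2 Z := P.subtype hPZ with hQ
      set K := pPrimeCore 2 Z with hK
      have hKodd : ¬ 2 ∣ Nat.card K := Hall.not_dvd_card_pPrimeCore Nat.prime_two
      have hdecompZ : ∀ x : Z, ∃ a : (P : Subgroup G), (⟨a, hPZ a.2⟩ : Z)⁻¹ * x ∈ K := by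
        intro x
        let e : ↥(P : Subgroup G) → Z ⧸ K := fun a => QuotientGroup.mk (⟨a, hPZ a.2⟩ : Z)
        have hinj : Function.Injective e := by
          intro a b hab
          rw [QuotientGroup.eq] at hab
          by_contra hne'
          have h1 : orderOf ((⟨a, hPZ a.2⟩ : Z)⁻¹ * ⟨b, hPZ b.2⟩) ∣ Nat.card K :=
            (Subgroup.orderOf_mk _ hab).symm ▸ orderOf_dvd_natCard (⟨_, hab⟩ : K)
          have h2' : orderOf ((a⁻¹ * b : (P : Subgroup G)) : G) ∣ Nat.card K := by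
            rwa [← Subgroup.orderOf_coe] at h1
          obtain ⟨j, hj⟩ := Block.isPElem_of_mem P.2 (a⁻¹ * b : (P : Subgroup G)).2
          rcases Nat.eq_zero_or_pos j with rfl | hj0
          · refine hne' (inv_mul_eq_one.1 (Subtype.ext ?_))
            exact orderOf_eq_one_iff.1 (by simpa using hj)
          · exact hKodd ((hj ▸ dvd_pow_self 2 hj0.ne').trans h2')
        obtain ⟨-, hcard, hv'⟩ := centralizer_data P hcomm hfrob hz hz1
        have hcard' : Nat.card (Z ⧸ K) = Nat.card P := by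
          have h1 := K.card_mul_index
          rw [hcard, centralizerPPrimeCore, Subgroup.card_map_of_injective Z.subtype_injective] at h1
          exact Nat.eq_of_mul_eq_mul_left Nat.card_pos h1
        obtain ⟨a, ha⟩ := ((Nat.bijective_iff_injective_and_card e).2 ⟨hinj, hcard'.symm⟩).2
          (QuotientGroup.mk x)
        exact ⟨a, QuotientGroup.eq.1 ha⟩
      have hinvol : ∀ (x : Z) (a : (P : Subgroup G)), IsConj (x : G) t →
          (⟨a, hPZ a.2⟩ : Z)⁻¹ * x ∈ K → IsConj (a : G) t := by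
        intro x a hx hax
        set a' : Z := ⟨a, hPZ a.2⟩ with ha'
        set y := a'⁻¹ * x with hy
        have hx2 : x * x = 1 := Subtype.ext (htt hx)
        have hxay : x = a' * y := by rw [hy, mul_inv_cancel_left]
        have haa : a' * a' = 1 := by
          have h1 : a' * a' ∈ K := by
            have h0 : x * x = (a' * a') * (a'⁻¹ * y * a' * y) := by rw [hxay]; group
            rw [hx2] at h0
            have h2 : a'⁻¹ * y * a' * y ∈ K := by
              have h3 := (inferInstance : K.Normal).conj_mem y hax a'⁻¹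
              rw [inv_inv] at h3
              exact K.mul_mem h3 hax
            have h4 : a' * a' = (a'⁻¹ * y * a' * y)⁻¹ := eq_inv_of_mul_eq_one_left h0.symm
            rw [h4]; exact inv_mem h2
          by_contra hne'
          have hdvd : orderOf (a' * a') ∣ Nat.card K :=
            (Subgroup.orderOf_mk _ h1).symm ▸ orderOf_dvd_natCard (⟨_, h1⟩ : K)
          obtain ⟨j, hj⟩ := Block.isPElem_of_mem P.2 (a * a).2
          rcases Nat.eq_zero_or_pos j with rfl | hj0
          · refine hne' (Subtype.ext ?_)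
            exact orderOf_eq_one_iff.1 (by simpa using hj)
          · rw [← Subgroup.orderOf_coe] at hdvd
            exact hKodd ((hj ▸ dvd_pow_self 2 hj0.ne').trans hdvd)
        have hay : a' * y * a' = y⁻¹ := by
          refine eq_inv_of_mul_eq_one_left ?_
          rw [hxay] at hx2
          rw [← hx2]; simp [mul_assoc]
        obtain ⟨i, hi⟩ : Odd (Nat.card K) := Nat.odd_iff.2 (by omega)
        set r := y ^ (i + 1) with hr
        have hrr : r * r = y := by
          have h1 : y ^ Nat.card K = 1 :=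
            orderOf_dvd_iff_pow_eq_one.1 ((Subgroup.orderOf_mk _ hax).symm ▸ orderOf_dvd_natCard (⟨y, hax⟩ : K))
          rw [hr, ← pow_add, show i + 1 + (i + 1) = Nat.card K + 1 by omega, pow_succ, h1, one_mul]
        have hra : a' * r * a' = r⁻¹ := by
          rw [hr, ← inv_pow, ← hay]
          have := (conj_pow (i := i + 1) (a := a') (b := y)).symm
          rwa [inv_eq_of_mul_eq_one_left haa] at this
        have hconj : r⁻¹ * a' * r = x := by
          rw [hxay, ← hrr, ← hra]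
          simp only [mul_assoc]
          rw [← mul_assoc a' a', haa, one_mul]
        refine (isConj_iff.2 ⟨(r : G)⁻¹, ?_⟩ : IsConj (a : G) (x : G)).trans hx
        have := congrArg Subtype.val hconj
        simpa using this
      obtain ⟨a, ha⟩ := hdecompZ ⟨u', hu'Z⟩
      obtain ⟨b, hb⟩ := hdecompZ ⟨c * w * c⁻¹, hwZ⟩
      have haO : a ∈ O := Finset.mem_filter.2 ⟨Finset.mem_univ _, hinvol _ a hu't ha⟩
      have hbO : b ∈ O := Finset.mem_filter.2 ⟨Finset.mem_univ _, hinvol _ b hw't hb⟩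
      -- `z` is congruent to `a b`
      have hab : (a * b : (P : Subgroup G)) = ⟨z, hz⟩ := by
        set a' : Z := ⟨a, hPZ a.2⟩
        set b' : Z := ⟨b, hPZ b.2⟩
        set z' : Z := ⟨z, hPZ hz⟩
        set v' : Z := ⟨v, hvZ⟩
        have hvK : v' ∈ K :=
          Block.mem_of_regular_of_index K hM hk (x := v') (by rwa [Subgroup.orderOf_mk])
        have hprod' : (⟨u', hu'Z⟩ : Z) * ⟨c * w * c⁻¹, hwZ⟩ = z' * v' := Subtype.ext (by
          show c * u * c⁻¹ * (c * w * c⁻¹) = z * v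
          rw [hv]; group)
        have hmk : ∀ {x y : Z}, x⁻¹ * y ∈ K → (QuotientGroup.mk y : Z ⧸ K) = QuotientGroup.mk x :=
          fun {x y} h => (QuotientGroup.eq.2 h).symm
        have q1 : (QuotientGroup.mk (z' * v') : Z ⧸ K) = QuotientGroup.mk z' := hmk (by
          rw [inv_mul_cancel_left]; exact hvK)
        have q2 : (QuotientGroup.mk (z' * v') : Z ⧸ K) = QuotientGroup.mk (a' * b') := by
          rw [← hprod', QuotientGroup.mk_mul, QuotientGroup.mk_mul, hmk ha, hmk hb]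
        have q3 : (a' * b')⁻¹ * z' ∈ K := QuotientGroup.eq.1 (q2.symm.trans q1)
        by_contra hne'
        have h1 : orderOf ((a' * b')⁻¹ * z') ∣ Nat.card K :=
          (Subgroup.orderOf_mk _ q3).symm ▸ orderOf_dvd_natCard (⟨_, q3⟩ : K)
        rw [← Subgroup.orderOf_coe] at h1
        obtain ⟨j, hj⟩ := Block.isPElem_of_mem P.2 ((a * b)⁻¹ * ⟨z, hz⟩ : (P : Subgroup G)).2
        rcases Nat.eq_zero_or_pos j with rfl | hj0
        · exact hne' (inv_mul_eq_one.1 (Subtype.ext (orderOf_eq_one_iff.1 (by simpa using hj))))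
        · exact hKodd ((hj ▸ dvd_pow_self 2 hj0.ne').trans h1)
      have hzO := hOpair a haO b hbO (by rw [hab]; exact fun h => hz1 (congrArg Subtype.val h))
      rw [hab] at hzO
      exact (Finset.mem_filter.1 hzO).2
    have hOcard : O.card = 3 := by
      rw [hOimg, Finset.card_image_of_injective _ hOinj, Finset.card_univ, Fintype.card_fin]
    obtain ⟨y, hy1, hyO⟩ : ∃ y : (P : Subgroup G), y ≠ 1 ∧ y ∉ O := by
      by_contra h
      push Not at h
      have hsub : (Finset.univ : Finset (P : Subgroup G)) ⊆ insert 1 O := fun x _ => by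
        by_cases hx : x = 1
        · rw [hx]; exact Finset.mem_insert_self _ _
        · exact Finset.mem_insert_of_mem (h x hx)
      have h1 := (Finset.card_le_card hsub).trans (Finset.card_insert_le _ _)
      rw [hOcard, Finset.card_univ, ← Nat.card_eq_fintype_card] at h1
      omega
    have hyO' : ¬ IsConj (y : G) t := fun h => hyO (Finset.mem_filter.2 ⟨Finset.mem_univ _, h⟩)
    have hzero := pair_sum_zero P hM S hS hcomm hfrob y.2 (fun h => hy1 (Subtype.ext h))
      (t := t) (fun u w hu hw hd => by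
        obtain ⟨c, z, h1, h2, h3, h4⟩ := hsec2 u w hu hw hd
        exact ⟨c, z, h1, h2, h3, fun h => hyO' (h.trans h4)⟩)
    have hts : ∀ χ : IrrCharacter G, (χ : G → ℂ) t = (χ : G → ℂ) s := fun χ =>
      (isClassFunction_of_isIrr χ.2 t c₀).symm
    have horbimg : ∀ i, orb P (rep i) = Finset.univ.image fun k => (rep i).comp (cn k) := by
      intro i
      ext ψ
      simp only [orb, Finset.mem_filter, Finset.mem_univ, true_and, Finset.mem_image]
      constructor
      · intro h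
        obtain ⟨n, hn, hn'⟩ := (rel_iff P _ _).1 (rel_symm P h)
        obtain ⟨k, hk⟩ := hcov n hn
        refine ⟨k, ?_⟩
        rw [hn']
        refine MonoidHom.ext fun w => congrArg (rep i) (Subtype.ext ?_)
        have e := Subgroup.mem_centralizer_iff.1 hk w w.2
        show n₁ ^ (k : ℕ) * w * (n₁ ^ (k : ℕ))⁻¹ = n * w * n⁻¹
        calc n₁ ^ (k : ℕ) * w * (n₁ ^ (k : ℕ))⁻¹
            = n₁ ^ (k : ℕ) * (w * ((n₁ ^ (k : ℕ))⁻¹ * n)) * n⁻¹ := by group
          _ = n * w * n⁻¹ := by rw [e]; group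
      · rintro ⟨k, rfl⟩
        exact rel_symm P ((rel_iff P _ _).2 ⟨_, pow_mem hn₁ _, rfl⟩)
    have horbinj : ∀ i, Function.Injective fun k => (rep i).comp (cn k) := by
      intro i
      intro a b hab
      by_contra hne'
      -- otherwise the character would be trivial
      refine hrep1 i (MonoidHom.ext fun v => ?_)
      have hβ : Function.Injective fun w : (P : Subgroup G) => cn a w * (cn b w)⁻¹ := by
        intro x x' he'
        by_contra hx
        have h1 : cn a (x * x'⁻¹) = cn b (x * x'⁻¹) := by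
          rw [map_mul, map_mul, map_inv, map_inv]
          have h2 : cn a x * (cn b x)⁻¹ = cn a x' * (cn b x')⁻¹ := he'
          have h3 : cn a x = cn a x' * (cn b x')⁻¹ * cn b x := mul_inv_eq_iff_eq_mul.1 h2
          rw [h3, mul_assoc (cn a x'), hcP (cn b x')⁻¹, hcP (cn a x'), mul_inv_cancel_right]
        exact hne' (hcnfree a b _ (fun h => hx (mul_inv_eq_one.1 h)) h1)
      obtain ⟨w, rfl⟩ := Finite.surjective_of_injective hβ v
      rw [map_mul, map_inv]
      have := DFunLike.congr_fun hab w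
      simp only [MonoidHom.comp_apply] at this
      rw [this, mul_inv_cancel]; rfl
    have hcardorb : ∀ i, (orb P (rep i)).card = 3 := fun i => by
      rw [horbimg i, Finset.card_image_of_injective _ (horbinj i), Finset.card_univ, Fintype.card_fin]
    have hΦ : ∀ i, ∑ ψ ∈ orb P (rep i), (ψ t₀ : ℂ) = ∑ a ∈ O, (rep i a : ℂ) := by
      intro i
      rw [horbimg i, Finset.sum_image fun a _ b _ h => horbinj i h, hOimg,
        Finset.sum_image fun a _ b _ h => hOinj h]
      rfl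
    have hΦinv : ∀ i, ∀ ψ ∈ orb P (rep i), ∑ a ∈ O, (ψ a : ℂ) = ∑ a ∈ O, (rep i a : ℂ) := by
      intro i ψ hψ
      obtain ⟨n, hn, hn'⟩ := (rel_iff P _ _).1 ((Finset.mem_filter.1 hψ).2)
      rw [hn']
      refine Finset.sum_bij (fun a _ => cj P n hn a) (fun a ha => ?_) (fun a _ b _ h => ?_)
        (fun b hb => ?_) (fun a _ => rfl) |>.symm
      · refine Finset.mem_filter.2 ⟨Finset.mem_univ _, ?_⟩
        exact (isConj_iff.2 ⟨n, rfl⟩ : IsConj (a : G) (cj P n hn a : G)).symm.trans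
          (Finset.mem_filter.1 ha).2
      · exact Subtype.ext (mul_left_cancel (mul_right_cancel (congrArg Subtype.val h)))
      · refine ⟨cj P n⁻¹ (inv_mem hn) b, Finset.mem_filter.2 ⟨Finset.mem_univ _, ?_⟩, ?_⟩
        · exact (isConj_iff.2 ⟨n⁻¹, rfl⟩ : IsConj (b : G) (cj P n⁻¹ (inv_mem hn) b : G)).symm.trans
            (Finset.mem_filter.1 hb).2
        · exact Subtype.ext (by simp [mul_assoc])
    -- evaluation on the exceptional characters
    have hYsum : ∑ i, (∑ a ∈ O, (rep i a : ℂ)) ^ 2 * conj (∑ ψ ∈ orb P (rep i), (ψ y : ℂ)) = -9 := by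
      have h1 : ∀ ψ : (P : Subgroup G) →* ℂˣ, (∑ a ∈ O, (ψ a : ℂ)) ^ 2 * conj ((ψ y : ℂ)) =
          ∑ a ∈ O, ∑ b ∈ O, (ψ (a * b) : ℂ) * conj ((ψ y : ℂ)) := by
        intro ψ
        rw [pow_two, Finset.sum_mul_sum, Finset.sum_mul]
        refine Finset.sum_congr rfl fun a _ => ?_
        rw [Finset.sum_mul]
        exact Finset.sum_congr rfl fun b _ => by rw [map_mul]; push_cast; ring
      have h2 : ∀ i, (∑ a ∈ O, (rep i a : ℂ)) ^ 2 * conj (∑ ψ ∈ orb P (rep i), (ψ y : ℂ)) =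
          ∑ ψ ∈ orb P (rep i), ∑ a ∈ O, ∑ b ∈ O, (ψ (a * b) : ℂ) * conj ((ψ y : ℂ)) := by
        intro i
        rw [map_sum, Finset.mul_sum]
        exact Finset.sum_congr rfl fun ψ hψ => by rw [← h1, hΦinv i ψ hψ]
      simp only [h2]
      have h3 := hdecomp fun ψ => ∑ a ∈ O, ∑ b ∈ O, (ψ (a * b) : ℂ) * conj ((ψ y : ℂ))
      have h4 : ∑ ψ : (P : Subgroup G) →* ℂˣ, ∑ a ∈ O, ∑ b ∈ O,
          (ψ (a * b) : ℂ) * conj ((ψ y : ℂ)) = 0 := by
        rw [Finset.sum_comm]
        refine Finset.sum_eq_zero fun a ha => ?_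
        rw [Finset.sum_comm]
        refine Finset.sum_eq_zero fun b hb => ?_
        have e : ∀ ψ : (P : Subgroup G) →* ℂˣ, (ψ (a * b) : ℂ) * conj ((ψ y : ℂ)) =
            (ψ (a * b * y⁻¹) : ℂ) := by
          intro ψ
          rw [map_mul ψ (a * b), Units.val_mul, map_inv]
          congr 1
          exact (char_inv (isCharacter_of_isIrr (lin ψ).2) y).symm.trans (by simp)
        rw [Finset.sum_congr rfl fun ψ _ => e ψ, hcolP, if_neg]
        intro h
        have hyab : a * b = y := mul_inv_eq_one.1 h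
        exact hyO (hyab ▸ hOpair a ha b hb (hyab ▸ hy1))
      rw [h4] at h3
      simp only [hone1, map_one, mul_one, Finset.sum_const, hOcard, nsmul_eq_mul] at h3
      push_cast at h3
      linear_combination -h3
    rw [hSsum, h1f] at hzero
    have hY : ∀ i, (μ i : G → ℂ) t ^ 2 / (μ i : G → ℂ) 1 * conj ((μ i : G → ℂ) y) =
        (δ : ℂ) / e * ((∑ a ∈ O, (rep i a : ℂ)) ^ 2 * conj (∑ ψ ∈ orb P (rep i), (ψ y : ℂ))) := by
      intro i
      rw [hts, Block.irr_one_eq_natCast, hdeg i]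
      have e1 := hYv i t₀ hs1
      have e2 := hYv i y fun h => hy1 (Subtype.ext h)
      rw [hfilt, hΦ] at e1
      rw [hfilt] at e2
      rw [show (μ i : G → ℂ) s = (μ i : G → ℂ) (t₀ : G) from rfl, e1, e2, map_mul, map_intCast]
      rcases hδ with rfl | rfl <;> push_cast <;> ring
    rw [Finset.sum_congr rfl fun i _ => hY i, ← Finset.mul_sum, hYsum, hts χ₂, hts χ₃,
      hv2 s hs' hs1, hv3 s hs' hs1, hv2 y y.2 (fun h => hy1 (Subtype.ext h)),
      hv3 y y.2 (fun h => hy1 (Subtype.ext h)), Block.irr_one_eq_natCast,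
      Block.irr_one_eq_natCast, ← hf₂, ← hf₃] at hzero
    simp only [map_one, map_intCast] at hzero
    -- congruences
    have hcong : ∀ χ : IrrCharacter G, ∀ r : ℤ,
        (∑ w ∈ Finset.univ.erase (1 : (P : Subgroup G)), (χ : G → ℂ) w) = r →
        (Nat.card P : ℤ) ∣ (charDegree (χ : G → ℂ) : ℤ) + r := by
      intro χ r hr
      have hint := Block.isIntegral_average (G := G) (isCharacter_of_isIrr χ.2)
        (S := (P : Subgroup G)) (g := 1) (fun s _ => Commute.one_left s)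
      have hsum : ∑ u : (P : Subgroup G), (χ : G → ℂ) (1 * (u : G)) =
          (charDegree (χ : G → ℂ) : ℂ) + r := by
        rw [← Finset.add_sum_erase _ _ (Finset.mem_univ (1 : (P : Subgroup G)))]
        simp only [one_mul, Subgroup.coe_one]
        rw [Block.irr_one_eq_natCast, hr]
      rw [hsum] at hint
      obtain ⟨m, hm⟩ := exists_int_of_isIntegral
        (q := (((charDegree (χ : G → ℂ) : ℤ) + r : ℤ) : ℚ) / (Nat.card P : ℚ)) (by
          push_cast at hint ⊢
          rwa [div_eq_inv_mul])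
      rw [div_eq_iff (Nat.cast_ne_zero.2 Nat.card_pos.ne')] at hm
      have h5 : (charDegree (χ : G → ℂ) : ℤ) + r = m * Nat.card P := by exact_mod_cast hm
      exact ⟨m, by rw [h5]; ring⟩
    have hq : Nat.card P ≥ 16 := by
      obtain ⟨k, hk⟩ := P.2.exists_card_eq
      rcases Nat.lt_or_ge k 4 with h | h
      · exfalso
        have h3 : 3 ∣ Nat.card P - 1 := by
          refine ⟨Fintype.card ι, ?_⟩
          have hh := hdecomp fun _ => (1 : ℂ)
          simp only [Finset.sum_const, hcardorb, Finset.card_univ, nsmul_eq_mul, mul_one] at hh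
          have hL : Fintype.card ((P : Subgroup G) →* ℂˣ) = Nat.card P := by
            have := hcolP 1
            simp only [map_one, Units.val_one, Finset.sum_const, Finset.card_univ, nsmul_eq_mul,
              mul_one, if_true, Nat.cast_inj] at this
            exact this
          rw [hL] at hh
          have : Nat.card P = 1 + Fintype.card ι * 3 := by exact_mod_cast hh
          omega
        rw [hk] at hm2 h3
        interval_cases k <;> omega
      · rw [hk]
        calc 16 = 2 ^ 4 := by norm_num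
          _ ≤ 2 ^ k := Nat.pow_le_pow_right (by norm_num) h
    have hPe : (Finset.univ.erase (1 : (P : Subgroup G))).card = Nat.card P - 1 := by
      rw [Finset.card_erase_of_mem (Finset.mem_univ _), Finset.card_univ, Nat.card_eq_fintype_card]
    have hX : ∀ χ : IrrCharacter G, ∀ a : ℤ,
        (∀ y : G, y ∈ (P : Subgroup G) → y ≠ 1 → (χ : G → ℂ) y = a) → (a = 1 ∨ a = -1) →
        (χ : G → ℂ) ≠ (fun _ => 1) → 15 ≤ (charDegree (χ : G → ℂ) : ℤ) := by
      intro χ a hv ha hχ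
      have hd := hcong χ (a * (Nat.card P - 1 : ℕ)) (by
        rw [Finset.sum_congr rfl (g := fun _ => (a : ℂ)) fun (w : (P : Subgroup G)) hw => hv w w.2 fun h =>
          (Finset.ne_of_mem_erase hw) (Subtype.ext h), Finset.sum_const, hPe, nsmul_eq_mul]
        push_cast; ring)
      have hd' : (Nat.card P : ℤ) ∣ (charDegree (χ : G → ℂ) : ℤ) - a := by
        have hc1 : ((Nat.card P - 1 : ℕ) : ℤ) = (Nat.card P : ℤ) - 1 := by omega
        rw [hc1] at hd
        have : (charDegree (χ : G → ℂ) : ℤ) - a =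
            ((charDegree (χ : G → ℂ) : ℤ) + a * ((Nat.card P : ℤ) - 1)) - a * Nat.card P := by ring
        rw [this]
        exact dvd_sub hd (dvd_mul_left _ _)
      have hpos := charDegree_pos χ.2
      have htf := hTne χ hχ
      have hT' : T χ = a := by
        have := (hT χ).symm.trans ((hts χ).trans (hv s hs' hs1))
        exact_mod_cast this
      rw [hT'] at htf
      have hne0 : (charDegree (χ : G → ℂ) : ℤ) - a ≠ 0 := sub_ne_zero.2 (Ne.symm htf)
      have hge : (Nat.card P : ℤ) ≤ |(charDegree (χ : G → ℂ) : ℤ) - a| :=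
        Int.le_of_dvd (abs_pos.2 hne0) ((dvd_abs _ _).2 hd')
      rcases ha with rfl | rfl
      · rw [abs_of_nonneg (by omega)] at hge; omega
      · rw [abs_of_nonneg (by omega)] at hge; omega
    have hf2 := hX χ₂ a₂ hv2 ha₂ h2
    have hf3 := hX χ₃ a₃ hv3 ha₃ h3
    have hee : (13 : ℤ) ≤ e := by
      have hd := hcong (μ i₀) (-(3 * δ)) (by
        have hw : ∀ w ∈ Finset.univ.erase (1 : (P : Subgroup G)),
            (μ i₀ : G → ℂ) w = (δ : ℂ) * ∑ ψ ∈ orb P (rep i₀), (ψ w : ℂ) := fun w hw => by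
          rw [hYv i₀ w (fun h => Finset.ne_of_mem_erase hw (Subtype.ext h)), hfilt]
        rw [Finset.sum_congr rfl hw, ← Finset.mul_sum, Finset.sum_comm]
        have hψ : ∀ ψ ∈ orb P (rep i₀), ∑ w ∈ Finset.univ.erase (1 : (P : Subgroup G)), (ψ w : ℂ) = -1 := by
          intro ψ hψ
          have hψ1 : ψ ≠ 1 := fun e => hrep1 i₀ (rel_one P (e ▸ (Finset.mem_filter.1 hψ).2))
          have h := classInner_irr_ne (lin ψ).2 (lin (1 : (P : Subgroup G) →* ℂˣ)).2 (fun h =>
            hψ1 (hbij.1 (Subtype.ext h)))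
          simp only [classInner, lin_apply, hone1, map_one, mul_one] at h
          have h' := (mul_eq_zero.1 h).resolve_left (inv_ne_zero (card_ne_zero_complex _))
          rw [← Finset.add_sum_erase _ _ (Finset.mem_univ (1 : (P : Subgroup G))), map_one,
            Units.val_one] at h'
          linear_combination h'
        have hc3 : (orb P (rep i₀)).card = 3 := hcardorb i₀
        rw [Finset.sum_congr rfl hψ, Finset.sum_const, hc3, nsmul_eq_mul]
        push_cast; ring)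
      rw [← he] at hd
      have hne0 : (e : ℤ) + -(3 * δ) ≠ 0 := by
        intro h
        rcases hδ with rfl | rfl
        · have he3 : e = 3 := by omega
          rw [he3] at he1
          push_cast at he1
          have h' : (1 : ℤ) + a₂ * f₂ + a₃ * f₃ - 3 = 0 := by exact_mod_cast (by linear_combination he1 :
            (1 : ℂ) + a₂ * f₂ + a₃ * f₃ - 3 = 0)
          rcases ha₂ with rfl | rfl <;> rcases ha₃ with rfl | rfl
          · linarith
          · have : (f₂ : ℤ) - f₃ = 2 := by linarith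
            have h9 := hcong χ₂ ((Nat.card P - 1 : ℕ) : ℤ) (by
              rw [Finset.sum_congr rfl (g := fun _ => (1 : ℂ)) fun w hw => by
                rw [hv2 w w.2 fun h => (Finset.ne_of_mem_erase hw) (Subtype.ext h)]; simp,
                Finset.sum_const, hPe, nsmul_eq_mul]
              simp)
            have h10 := hcong χ₃ (-((Nat.card P - 1 : ℕ) : ℤ)) (by
              rw [Finset.sum_congr rfl (g := fun _ => (-1 : ℂ)) fun w hw => by
                rw [hv3 w w.2 fun h => (Finset.ne_of_mem_erase hw) (Subtype.ext h)]; simp,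
                Finset.sum_const, hPe, nsmul_eq_mul]
              simp)
            rw [← hf₂] at h9; rw [← hf₃] at h10
            have hlow : (0 : ℂ) = 1 + 1 / (f₂ : ℂ) - 1 / f₃ - 9 / 3 := by
              rw [← hzero, he3]; push_cast; ring
            have hR : (0 : ℝ) = 1 + 1 / (f₂ : ℝ) - 1 / f₃ - 9 / 3 := by
              apply Complex.ofReal_injective
              push_cast
              exact hlow
            have i2 : 1 / (f₂ : ℝ) ≤ 1 / 15 :=
              one_div_le_one_div_of_le (by norm_num) (by exact_mod_cast hf2)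
            have i3 : (0 : ℝ) ≤ 1 / (f₃ : ℝ) := by positivity
            linarith
          · have hlow : (0 : ℂ) = 1 - 1 / (f₂ : ℂ) + 1 / f₃ - 9 / 3 := by
              rw [← hzero, he3]; push_cast; ring
            have hR : (0 : ℝ) = 1 - 1 / (f₂ : ℝ) + 1 / f₃ - 9 / 3 := by
              apply Complex.ofReal_injective
              push_cast
              exact hlow
            have i3 : 1 / (f₃ : ℝ) ≤ 1 / 15 :=
              one_div_le_one_div_of_le (by norm_num) (by exact_mod_cast hf3)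
            have i2 : (0 : ℝ) ≤ 1 / (f₂ : ℝ) := by positivity
            linarith
          · linarith
        · omega
      have hge : (Nat.card P : ℤ) ≤ |(e : ℤ) + -(3 * δ)| :=
        Int.le_of_dvd (abs_pos.2 hne0) ((dvd_abs _ _).2 hd)
      rcases hδ with rfl | rfl <;> rcases abs_cases ((e : ℤ) + -(3 * _)) with ⟨h, -⟩ | ⟨h, -⟩ <;>
        rw [h] at hge <;> omega
    -- the numerical contradiction
    have hR : (0 : ℝ) = 1 + (a₂ : ℝ) / f₂ + (a₃ : ℝ) / f₃ - 9 * δ / e := by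
      have hC' : (0 : ℂ) = 1 + (a₂ : ℂ) / f₂ + (a₃ : ℂ) / f₃ - 9 * δ / e := by
        rw [← hzero]
        rcases ha₂ with rfl | rfl <;> rcases ha₃ with rfl | rfl <;> push_cast <;> ring
      apply Complex.ofReal_injective
      push_cast
      exact hC'
    have i2 : 1 / (f₂ : ℝ) ≤ 1 / 15 :=
      one_div_le_one_div_of_le (by norm_num) (by exact_mod_cast hf2)
    have i3 : 1 / (f₃ : ℝ) ≤ 1 / 15 :=
      one_div_le_one_div_of_le (by norm_num) (by exact_mod_cast hf3)
    have i4 : 9 / (e : ℝ) ≤ 9 / 13 := by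
      gcongr
      exact_mod_cast hee
    have p2 : (0 : ℝ) ≤ 1 / (f₂ : ℝ) := by positivity
    have p3 : (0 : ℝ) ≤ 1 / (f₃ : ℝ) := by positivity
    have p4 : (0 : ℝ) ≤ 9 / (e : ℝ) := by positivity
    rcases ha₂ with rfl | rfl <;> rcases ha₃ with rfl | rfl <;> rcases hδ with rfl | rfl <;>
      push_cast at hR <;> ring_nf at hR i2 i3 i4 p2 p3 p4 <;> linarith
  -- odd characteristic
  · have htreg : ¬ p ∣ orderOf t := by
      rw [ht]; intro h
      exact hp2 ((Nat.prime_dvd_prime_iff_eq hp.out Nat.prime_two).1 h)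
    obtain ⟨y, hy1⟩ : ∃ y : (P : Subgroup G), y ≠ 1 := by
      by_contra h
      push Not at h
      have : Nat.card (P : Subgroup G) ≤ 1 :=
        Finite.card_le_one_iff_subsingleton.2 ⟨fun a b => (h a).trans (h b).symm⟩
      omega
    have hzero := pair_sum_zero P hM S hS hcomm hfrob y.2 (fun h => hy1 (Subtype.ext h))
      (t := t) (fun u w hu hw hd => by
        obtain ⟨c, z, hz, hz1, -, hzz, -⟩ := hpair u w hu hw hd
        exfalso
        obtain ⟨k, hk⟩ := Block.isPElem_of_mem P.2 hz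
        have h2 : orderOf z = 2 := orderOf_eq_prime (by rw [pow_two, hzz]) hz1
        rw [h2] at hk
        rcases Nat.eq_zero_or_pos k with rfl | hk0
        · simp at hk
        · exact hp2 ((Nat.prime_dvd_prime_iff_eq hp.out Nat.prime_two).1
            (hk ▸ dvd_pow_self p hk0.ne')))
    rw [hSsum, h1f] at hzero
    have hY : ∀ i, (μ i : G → ℂ) t ^ 2 / (μ i : G → ℂ) 1 * conj ((μ i : G → ℂ) y) =
        (T (μ i₀) : ℂ) ^ 2 / e * (δ : ℂ) * conj (∑ ψ ∈ orb P (rep i), (ψ y : ℂ)) := by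
      intro i
      rw [hYreg i i₀ t htreg, hT, Block.irr_one_eq_natCast, hdeg i,
        hYv i y fun h => hy1 (Subtype.ext h), hfilt, map_mul, map_intCast]
      ring
    rw [Finset.sum_congr rfl fun i _ => hY i, ← Finset.mul_sum, ← map_sum, hlamSum y hy1,
      hT χ₂, hT χ₃, hv2 y y.2 (fun h => hy1 (Subtype.ext h)),
      hv3 y y.2 (fun h => hy1 (Subtype.ext h)), Block.irr_one_eq_natCast,
      Block.irr_one_eq_natCast, ← hf₂, ← hf₃] at hzero
    simp only [map_one, map_neg, map_intCast] at hzero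
    have he2 : 1 + (a₂ : ℂ) * T χ₂ + (a₃ : ℂ) * T χ₃ - (δ : ℂ) * T (μ i₀) = 0 := by
      have h := hrel i₀ t htreg
      rwa [hT, hT, hT] at h
    have q0 : 1 + (a₂ : ℚ) * f₂ + (a₃ : ℚ) * f₃ + -(δ : ℚ) * e = 0 := by
      have h : ((1 + (a₂ : ℚ) * f₂ + (a₃ : ℚ) * f₃ + -(δ : ℚ) * e : ℚ) : ℂ) = ((0 : ℚ) : ℂ) := by
        push_cast; linear_combination he1
      exact_mod_cast h
    have n2 : (f₂ : ℚ) ≠ 0 := Nat.cast_ne_zero.2 f2p.ne'
    have n3 : (f₃ : ℚ) ≠ 0 := Nat.cast_ne_zero.2 f3p.ne'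
    have n4 : (e : ℚ) ≠ 0 := Nat.cast_ne_zero.2 ep.ne'
    set x₂ : ℚ := (T χ₂ : ℚ) / f₂ - 1 with hx₂
    set x₃ : ℚ := (T χ₃ : ℚ) / f₃ - 1 with hx₃
    set x₄ : ℚ := (T (μ i₀) : ℚ) / e - 1 with hx₄
    have r1 : 1 + (a₂ : ℚ) * T χ₂ + (a₃ : ℚ) * T χ₃ - (δ : ℚ) * T (μ i₀) = 0 := by
      have h : ((1 + (a₂ : ℚ) * T χ₂ + (a₃ : ℚ) * T χ₃ - (δ : ℚ) * T (μ i₀) : ℚ) : ℂ) =
          ((0 : ℚ) : ℂ) := by
        push_cast; linear_combination he2
      exact_mod_cast h
    have r2 : 1 + (T χ₂ : ℚ) ^ 2 / f₂ * a₂ + (T χ₃ : ℚ) ^ 2 / f₃ * a₃ -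
        (T (μ i₀) : ℚ) ^ 2 / e * δ = 0 := by
      have h : ((1 + (T χ₂ : ℚ) ^ 2 / f₂ * a₂ + (T χ₃ : ℚ) ^ 2 / f₃ * a₃ -
          (T (μ i₀) : ℚ) ^ 2 / e * δ : ℚ) : ℂ) = ((0 : ℚ) : ℂ) := by
        push_cast
        linear_combination hzero
      exact_mod_cast h
    have q1 : (a₂ : ℚ) * f₂ * x₂ + (a₃ : ℚ) * f₃ * x₃ + -(δ : ℚ) * e * x₄ = 0 := by
      rw [hx₂, hx₃, hx₄]; field_simp
      linear_combination r1 - q0
    have q2 : (a₂ : ℚ) * f₂ * x₂ ^ 2 + (a₃ : ℚ) * f₃ * x₃ ^ 2 + -(δ : ℚ) * e * x₄ ^ 2 = 0 := by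
      have e2 : (a₂ : ℚ) * f₂ * x₂ ^ 2 = (T χ₂ : ℚ) ^ 2 / f₂ * a₂ - 2 * a₂ * T χ₂ + a₂ * f₂ := by
        rw [hx₂]; field_simp; ring
      have e3 : (a₃ : ℚ) * f₃ * x₃ ^ 2 = (T χ₃ : ℚ) ^ 2 / f₃ * a₃ - 2 * a₃ * T χ₃ + a₃ * f₃ := by
        rw [hx₃]; field_simp; ring
      have e4 : (δ : ℚ) * e * x₄ ^ 2 =
          (T (μ i₀) : ℚ) ^ 2 / e * δ - 2 * δ * T (μ i₀) + δ * e := by
        rw [hx₄]; field_simp; ring
      linear_combination e2 + e3 - e4 + r2 - 2 * r1 + q0
    have hx : ∀ (χ : IrrCharacter G) (f : ℕ), f = charDegree (χ : G → ℂ) → (f : ℚ) ≠ 0 →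
        (χ : G → ℂ) ≠ (fun _ => 1) → (T χ : ℚ) / f - 1 ≠ 0 := by
      intro χ f hf hf0 hχ h
      rw [sub_eq_zero, div_eq_one_iff_eq hf0] at h
      exact hTne χ hχ (by rw [← hf]; exact_mod_cast h)
    have nz : ∀ (a : ℤ) (f : ℚ), (a = 1 ∨ a = -1) → f ≠ 0 → (a : ℚ) * f ≠ 0 := by
      intro a f ha hf
      rcases ha with rfl | rfl <;> simp [hf]
    obtain ⟨hsigns, q, hq⟩ := four_point q0 q1 q2 (hx χ₂ f₂ hf₂ n2 h2) (hx χ₃ f₃ hf₃ n3 h3)
      (hx (μ i₀) e he n4 hμne) (nz a₂ _ ha₂ n2) (nz a₃ _ ha₃ n3)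
      (by rw [neg_mul, neg_ne_zero]; exact nz δ _ hδ n4)
    have c2 : (0 : ℚ) < f₂ := Nat.cast_pos.2 f2p
    have c3 : (0 : ℚ) < f₃ := Nat.cast_pos.2 f3p
    have c4 : (0 : ℚ) < e := Nat.cast_pos.2 ep
    have hsigns' : ((if a₂ = -1 then 1 else 0 : ℕ) + (if a₃ = -1 then 1 else 0) +
        (if δ = 1 then 1 else 0) = 2) := by
      rcases ha₂ with rfl | rfl <;> rcases ha₃ with rfl | rfl <;> rcases hδ with rfl | rfl <;>
        simp [c2, c3, c4, not_lt.2 c2.le, not_lt.2 c3.le, not_lt.2 c4.le] at hsigns ⊢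
    refine ⟨hsigns', fun i => ?_⟩
    rw [hdeg i, ← Rat.isSquare_natCast_iff]
    refine ⟨q, ?_⟩
    rw [← hq]
    push_cast
    rcases ha₂ with rfl | rfl <;> rcases ha₃ with rfl | rfl <;> rcases hδ with rfl | rfl <;>
      simp at hsigns' ⊢ <;> ring

/-- The orbit sums add up to `-1`. -/
theorem lam_sum (hab : IsMulCommutative P) {ι : Type u} [Fintype ι]
    {rep : ι → ((P : Subgroup G) →* ℂˣ)} (hrep1 : ∀ i, rep i ≠ 1)
    (huniq : ∀ ψ, ψ ≠ 1 → ∃! i, Rel P (rep i) ψ) {y : (P : Subgroup G)} (hy : y ≠ 1) :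
    ∑ i, ∑ᶠ ψ' ∈ {ψ' | Rel P (rep i) ψ'}, ((ψ' y : ℂˣ) : ℂ) = -1 := by
  classical
  haveI : Fintype (P : Subgroup G) := Fintype.ofFinite _
  haveI : Fintype ((P : Subgroup G) →* ℂˣ) := Fintype.ofFinite _
  have hbij := lin_bijective (H := (P : Subgroup G)) hab.1.1
  have hcol : ∑ ψ : (P : Subgroup G) →* ℂˣ, (ψ y : ℂ) = 0 := by
    have h := sum_degree_mul y
    rw [if_neg hy] at h
    rw [← h]
    refine Fintype.sum_bijective lin hbij _ _ fun ψ => ?_
    simp
  have hfilt : ∀ i, ∑ᶠ ψ' ∈ {ψ' | Rel P (rep i) ψ'}, ((ψ' y : ℂˣ) : ℂ) =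
      ∑ ψ ∈ orb P (rep i), (ψ y : ℂ) := by
    intro i
    rw [finsum_mem_eq_finite_toFinset_sum _ (Set.toFinite _)]
    refine Finset.sum_congr ?_ fun _ _ => rfl
    ext; simp [orb]
  simp only [hfilt]
  rw [← Finset.add_sum_erase _ _ (Finset.mem_univ (1 : (P : Subgroup G) →* ℂˣ))] at hcol
  rw [← Finset.sum_biUnion]
  · have e : Finset.univ.biUnion (fun i => orb P (rep i)) =
        Finset.univ.erase (1 : (P : Subgroup G) →* ℂˣ) := by
      ext ψ
      simp only [Finset.mem_erase, Finset.mem_univ, and_true, Finset.mem_biUnion, orb,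
        Finset.mem_filter, true_and]
      constructor
      · rintro ⟨i, hi⟩ rfl; exact hrep1 i (rel_one P hi)
      · intro h; obtain ⟨i, hi, -⟩ := huniq ψ h; exact ⟨i, hi⟩
    rw [e]
    simp only [MonoidHom.one_apply, Units.val_one] at hcol
    linear_combination hcol
  · intro i _ j _ hij
    rw [Function.onFun, Finset.disjoint_left]
    intro ψ h1 h2
    have hi := (Finset.mem_filter.1 h1).2
    have hj := (Finset.mem_filter.1 h2).2
    exact hij ((huniq ψ fun e => hrep1 i (rel_one P (e ▸ hi))).unique hi hj)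

end Cfsg.Agent.Lib.Char.ATI
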