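import Cfsg.Agent.Lib.Char.TwoDegreesPrime
import Cfsg.Agent.Lib.CharClifford.Linear
import Cfsg.Agent.Lib.Brauer43.Fix
import Cfsg.Agent.S4456
import Cfsg.Agent.S0176

/-!
# Groups with two character degrees
-/

set_option autoImplicit false
set_option linter.unusedSectionVars false
set_option linter.style.haveILetI false

namespace Cfsg.Agent.Lib.Char.TwoDegrees

open Cfsg Cfsg.Agent.Lib Cfsg.Agent.Lib.Char
open Cfsg.Agent.Lib.Char.TwoDegPrime (Deg lf cj cj_mul cj_prod cj_inv St mem_St cj_apply index_St_dvd)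
open scoped commutatorElement

universe u

variable {G : Type u} [Group G] [Finite G] {m : ℕ}

/-- Subgroups of index at most `m` contain the commutator subgroup. -/
theorem commutator_le_of_index (hd : Deg m G) (H : Subgroup G) (hH : H.index ≤ m) :
    commutator G ≤ H := by
  classical
  haveI := Fintype.ofFinite G
  rw [commutator_def]
  refine Subgroup.commutator_le.2 fun a _ b _ => ?_
  set π : G → ℂ := indFun H (fun _ : H => (1 : ℂ)) with hπ
  have hπc : IsCharacter G π := isCharacter_indFun _ isCharacter_one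
  have hπ1 : π 1 = (H.index : ℂ) := by rw [hπ, indFun_one, mul_one]
  have hπd : charDegree π = H.index := charDegree_eq_of_apply_one hπ1
  obtain ⟨k, hk⟩ := isCharacter_eq_sum hπc
  have hlin : ∀ ξ : IrrCharacter G, k ξ ≠ 0 → charDegree (ξ : G → ℂ) = 1 := by
    intro ξ hξ
    refine (hd ξ).elim id fun hξm => ?_
    rcases eq_or_ne m 1 with h1 | h1
    · rw [hξm, h1]
    exfalso
    have hξ1 : ξ ≠ Block.oneIrr G := fun e => h1 (by
      rw [← hξm, e]; exact charDegree_one)
    have hsum := Brauer43.sum_degree_le hπc {Block.oneIrr G, ξ} (fun η hη => by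
      rcases Finset.mem_insert.1 hη with rfl | hη
      · have e : classInner π ((Block.oneIrr G : IrrCharacter G) : G → ℂ) = 1 := by
          rw [hπ, classInner_indFun _ _ (isClassFunction_of_isIrr (Block.oneIrr G).2)]
          simp only [Block.oneIrr_apply]
          exact classInner_irr_self (isIrrCharacter_one (G := H))
        rw [e]; exact one_ne_zero
      · rw [Finset.mem_singleton.1 hη, hk, classInner_sum_left, Finset.sum_eq_single ξ]
        · rw [classInner_smul_left, classInner_irr_self ξ.2, mul_one]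
          exact Nat.cast_ne_zero.2 hξ
        · intro φ _ hφ
          rw [classInner_smul_left, classInner_irr_ne φ.2 ξ.2 (fun e => hφ (Subtype.ext e)), mul_zero]
        · exact fun e => absurd (Finset.mem_univ ξ) e)
    rw [Finset.sum_pair hξ1.symm, hπd, hξm,
      show charDegree ((Block.oneIrr G : IrrCharacter G) : G → ℂ) = 1 from charDegree_one] at hsum
    omega
  by_contra hmem
  have h1 : π ⁅a, b⁆ = π 1 := by
    have e1 := congrFun hk ⁅a, b⁆
    have e2 := congrFun hk 1
    simp only [Finset.sum_apply, Pi.smul_apply, smul_eq_mul] at e1 e2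
    rw [e1, e2]
    refine Finset.sum_congr rfl fun ξ _ => ?_
    rcases eq_or_ne (k ξ) 0 with h0 | h0
    · simp [h0]
    obtain ⟨l, hl⟩ := exists_hom_of_degree_one (isCharacter_of_isIrr ξ.2)
      (by rw [apply_one_eq_charDegree (isCharacter_of_isIrr ξ.2), hlin ξ h0, Nat.cast_one])
    rw [hl, hl, map_one, map_commutatorElement, commutatorElement_eq_one_iff_mul_comm.2 (mul_comm _ _)]
  rw [hπ1, hπ, indFun] at h1
  have h2 : ((Finset.univ.filter fun x : G => x⁻¹ * ⁅a, b⁆ * x ∈ H).card : ℂ) = Nat.card G := by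
    rw [← H.card_mul_index, Nat.cast_mul, ← h1, ← mul_assoc,
      mul_inv_cancel₀ (card_ne_zero_complex H), one_mul, Finset.card_eq_sum_ones, Nat.cast_sum,
      Finset.sum_filter]
    refine Finset.sum_congr rfl fun x _ => ?_
    by_cases hx : x⁻¹ * ⁅a, b⁆ * x ∈ H
    · rw [if_pos hx, extendByZero_mem H _ hx, Nat.cast_one]
    · rw [if_neg hx, extendByZero_not_mem H _ hx]
  have h3 : (Finset.univ.filter fun x : G => x⁻¹ * ⁅a, b⁆ * x ∈ H).card < Nat.card G := by
    rw [Nat.card_eq_fintype_card]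
    exact Finset.card_lt_univ_of_notMem (x := (1 : G)) (by simpa using hmem)
  have h4 := Nat.cast_injective h2
  omega

/-- The data: an abelian normal subgroup of order prime to `m` with an `m`-number index. -/
theorem exists_core (hd : Deg m G) (hm : m ≠ 0) :
    ∃ M : Subgroup G, M.Normal ∧ (∀ a ∈ M, ∀ b ∈ M, a * b = b * a) ∧
      (∀ r : ℕ, r.Prime → r ∣ M.index → r ∣ m) ∧ (Nat.card M).Coprime M.index ∧
      ∀ p : ℕ, p.Prime → p ∣ m → ∃ Q : Subgroup G, Q.Normal ∧ (∃ k, Q.index = p ^ k) ∧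
        (Nat.card Q).Coprime p ∧ M ≤ Q ∧ ((∀ r, r.Prime → r ∣ m → r = p) → M = Q) := by
  classical
  haveI := Fintype.ofFinite G
  have hQ : ∀ p : m.primeFactors, ∃ N : Subgroup G, N.Normal ∧ (Nat.card N).Coprime (p : ℕ) ∧
      ∃ k : ℕ, N.index = (p : ℕ) ^ k := fun p =>
    Cfsg.Agent.S4456.result (G := G) p (Nat.prime_of_mem_primeFactors p.2) fun χ hne => by
      rw [(hd χ).resolve_left hne]; exact Nat.dvd_of_mem_primeFactors p.2
  choose Q hQn hQc k hQi using hQ
  set M : Subgroup G := Finset.univ.inf Q with hM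
  have hinf : ∀ S : Finset m.primeFactors, (S.inf Q).Normal ∧
      ∀ r : ℕ, r.Prime → r ∣ (S.inf Q).index → r ∣ m := by
    intro S
    induction S using Finset.induction_on with
    | empty =>
      rw [Finset.inf_empty]
      exact ⟨inferInstance, fun r hr h => absurd (Nat.dvd_one.1 (Subgroup.index_top (G := G) ▸ h))
        hr.ne_one⟩
    | insert p S hp ih =>
      rw [Finset.inf_insert]
      haveI := ih.1
      haveI := hQn p
      refine ⟨inferInstance, fun r hr h => ?_⟩
      have h2 : r ∣ (Q p).relIndex (S.inf Q) * (S.inf Q).index := by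
        rwa [← Subgroup.inf_relIndex_right (Q p) (S.inf Q),
          Subgroup.relIndex_mul_index inf_le_right]
      rcases hr.dvd_mul.1 h2 with h3 | h3
      · have h4 := h3.trans (Subgroup.relIndex_dvd_index_of_normal (Q p) _)
        rw [hQi p] at h4
        rw [(Nat.prime_dvd_prime_iff_eq hr (Nat.prime_of_mem_primeFactors p.2)).1
          (hr.dvd_of_dvd_pow h4)]
        exact Nat.dvd_of_mem_primeFactors p.2
      · exact ih.2 r hr h3
  obtain ⟨hMn, hMi⟩ := hinf Finset.univ
  haveI := hMn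
  have hMp : ∀ r : ℕ, r.Prime → r ∣ m → ¬ r ∣ Nat.card M := by
    intro r hr hrm hdvd
    have hmem : r ∈ m.primeFactors := Nat.mem_primeFactors.2 ⟨hr, hrm, hm⟩
    have h1 := hdvd.trans (Subgroup.card_dvd_of_le (Finset.inf_le (Finset.mem_univ (⟨r, hmem⟩ : m.primeFactors)) :
      M ≤ Q ⟨r, hmem⟩))
    exact hr.ne_one (Nat.eq_one_of_dvd_coprimes (hQc ⟨r, hmem⟩) h1 dvd_rfl)
  refine ⟨M, hMn, ?_, hMi, ?_, fun p hp hpm => ?_⟩
  · intro a ha b hb
    refine congrArg Subtype.val ((Cfsg.Agent.S0187.result (G := M)).2 (fun θ => ?_) ⟨a, ha⟩ ⟨b, hb⟩)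
    have h1 : charDegree (θ : M → ℂ) ∣ m :=
      (dvd_mul_left _ _).trans (TwoDegPrime.index_mul_dvd hd M θ.2)
    rw [apply_one_eq_charDegree (isCharacter_of_isIrr θ.2)]
    suffices h : charDegree (θ : M → ℂ) = 1 by rw [h, Nat.cast_one]
    by_contra hne
    obtain ⟨r, hr, hrd⟩ := Nat.exists_prime_and_dvd hne
    exact hMp r hr (hrd.trans h1) (hrd.trans (charDegree_dvd_card θ.2))
  · refine Nat.coprime_of_dvd fun r hr h1 h2 => hMp r hr (hMi r hr h2) h1
  · have hmem : p ∈ m.primeFactors := Nat.mem_primeFactors.2 ⟨hp, hpm, hm⟩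
    refine ⟨Q ⟨p, hmem⟩, hQn _, ⟨_, hQi _⟩, hQc _, Finset.inf_le (Finset.mem_univ _), fun hall => ?_⟩
    refine le_antisymm (Finset.inf_le (Finset.mem_univ _)) (Finset.le_inf fun r _ => le_of_eq ?_)
    congr 1
    exact Subtype.ext (hall r (Nat.prime_of_mem_primeFactors r.2) (Nat.dvd_of_mem_primeFactors r.2)).symm

/-- An abelian subgroup from a central subgroup of coprime index with abelian quotient. -/
theorem comm_of_central {M T : Subgroup G} (hcop : (Nat.card M).Coprime M.index)
    (hMn : M.Normal) (hcen : ∀ t ∈ T, ∀ x ∈ M, t * x = x * t)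
    (hq : ∀ a ∈ T, ∀ b ∈ T, ⁅a, b⁆ ∈ M) : ∀ a ∈ T, ∀ b ∈ T, a * b = b * a := by
  intro a ha b hb
  haveI := hMn
  set c := ⁅a, b⁆ with hc
  have hcM := hq a ha b hb
  have hcomm : Commute c a := (hcen a ha c hcM).symm
  have hstep : ∀ j : ℕ, ⁅a ^ j, b⁆ = c ^ j := by
    intro j
    induction j with
    | zero => simp
    | succ j ih =>
      rw [pow_succ' a j, pow_succ' c j]
      have e : ⁅a * a ^ j, b⁆ = a * ⁅a ^ j, b⁆ * a⁻¹ * c := by
        rw [hc, commutatorElement_def, commutatorElement_def, commutatorElement_def]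
        group
      rw [e, ih, ← ((hcomm.pow_left j).eq), mul_inv_cancel_right]
      exact (pow_mul_comm' c j)
  have h1 : c ^ M.index = 1 := by
    rw [← hstep, commutatorElement_eq_one_iff_mul_comm]
    exact (hcen b hb _ (M.pow_index_mem a)).symm
  have h2 : c ^ Nat.card M = 1 := by
    exact congrArg Subtype.val (pow_card_eq_one' (x := (⟨c, hcM⟩ : M)))
  have h3 : c ^ (Nat.card M).gcd M.index = 1 :=
    orderOf_dvd_iff_pow_eq_one.1 (Nat.dvd_gcd (orderOf_dvd_of_pow_eq_one h2) (orderOf_dvd_of_pow_eq_one h1))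
  rw [hcop.gcd_eq_one, pow_one, commutatorElement_eq_one_iff_mul_comm] at h3
  exact h3

/-- The stabiliser of a moved linear character. -/
theorem moved_stab (hd : Deg m G) (hm : m ≠ 0) (M : Subgroup G) [M.Normal]
    (hab : ∀ a ∈ M, ∀ b ∈ M, a * b = b * a) (hcop : (Nat.card M).Coprime M.index)
    (θ : M →* ℂˣ) (hθ : St M θ ≠ ⊤) :
    commutator G ≤ St M θ ∧ (St M θ).index = m ∧
      ∀ a ∈ St M θ, ∀ b ∈ St M θ, ⁅a, b⁆ ∈ M := by
  classical
  haveI := Fintype.ofFinite G
  set T := St M θ with hT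
  have hθi : IsIrrCharacter M (lf θ) := isIrrCharacter_linear θ
  have hMT : M ≤ T := le_inertia M (isClassFunction_of_isIrr hθi)
  have hle := commutator_le_of_index hd T
    (Nat.le_of_dvd (Nat.pos_of_ne_zero hm) (index_St_dvd hd M θ))
  haveI hTn : T.Normal := ⟨fun x hx g => by
    have h : g * x * g⁻¹ * x⁻¹ ∈ T := hle (by
      rw [commutator_def]
      exact Subgroup.commutator_mem_commutator (Subgroup.mem_top g) (Subgroup.mem_top x))
    simpa [mul_assoc] using mul_mem h hx⟩
  haveI := Fintype.ofFinite T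
  set M' := M.subgroupOf T with hM'
  set φ : M' →* ℂˣ := θ.comp (Subgroup.subgroupOfEquivOfLe hMT).toMonoidHom with hφ
  obtain ⟨μ, hμ, -, -⟩ := CharClifford.exists_extension_coprime (N := M') φ (fun g n => by
    have hg : cj M (g : G) θ = θ := (mem_St M).1 g.2
    have h := DFunLike.congr_fun hg ⟨((n : T) : G), n.2⟩
    rw [cj_apply] at h
    exact h) (by
    refine Nat.Coprime.coprime_dvd_left ?_ (Nat.Coprime.coprime_dvd_right ?_ hcop.symm)
    · exact Subgroup.relIndex_dvd_index_of_normal M T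
    · refine orderOf_dvd_of_pow_eq_one (MonoidHom.ext fun x => ?_)
      rw [MonoidHom.pow_apply, MonoidHom.one_apply, ← map_pow]
      have : x ^ Nat.card M = 1 := by
        rw [← Nat.card_congr (Subgroup.subgroupOfEquivOfLe hMT).toEquiv]
        exact pow_card_eq_one'
      rw [this, map_one])
  have hprod : ∀ ξ : IrrCharacter T, (∀ x : M', (ξ : T → ℂ) x = (ξ : T → ℂ) 1) →
      T.index * charDegree (ξ : T → ℂ) = 1 ∨ T.index * charDegree (ξ : T → ℂ) = m := by
    intro ξ hξ
    have hirr : IsIrrCharacter T (fun t => (μ t : ℂ) * (ξ : T → ℂ) t) :=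
      isIrrCharacter_linear_mul ξ.2 μ
    have hin : inertia T (fun t => (μ t : ℂ) * (ξ : T → ℂ) t) = T := by
      refine le_antisymm (fun g hg => ?_) (le_inertia T (isClassFunction_of_isIrr hirr))
      rw [hT, mem_St]
      refine MonoidHom.ext fun x => Units.ext ?_
      have hx : (x : G) ∈ T := hMT x.2
      have h := congrFun ((mem_inertia T).1 hg) ⟨x, hx⟩
      simp only [conjChar_apply] at h
      have hgx : g * (x : G) * g⁻¹ ∈ M := (inferInstance : M.Normal).conj_mem x x.2 g
      rw [hξ ⟨⟨x, hx⟩, x.2⟩, hξ ⟨⟨_, hTn.conj_mem x hx g⟩, hgx⟩,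
        hμ ⟨⟨x, hx⟩, x.2⟩, hμ ⟨⟨_, hTn.conj_mem x hx g⟩, hgx⟩] at h
      rw [cj_apply]
      exact mul_right_cancel₀ (irr_degree_ne_zero ξ.2) h
    have hI := isIrrCharacter_indFun T hirr hin
    have hdeg : charDegree (indFun T fun t => (μ t : ℂ) * (ξ : T → ℂ) t) =
        T.index * charDegree (ξ : T → ℂ) := by
      refine charDegree_eq_of_apply_one ?_
      rw [indFun_one, map_one, Units.val_one, one_mul,
        apply_one_eq_charDegree (isCharacter_of_isIrr ξ.2), Nat.cast_mul]
    rw [← hdeg]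
    exact hd ⟨_, hI⟩
  have hTm : T.index = m := by
    have h := hprod ⟨fun _ => 1, isIrrCharacter_one⟩ fun _ => rfl
    rw [show charDegree (fun _ : T => (1 : ℂ)) = 1 from charDegree_one, mul_one] at h
    exact h.resolve_left fun h1 => hθ (Subgroup.index_eq_one.1 h1)
  refine ⟨hle, hTm, fun a ha b hb => ?_⟩
  have hcomm : ∀ x y : T ⧸ M', x * y = y * x := (Cfsg.Agent.S0187.result (G := T ⧸ M')).2 fun η => by
    have he : ∀ x : M', ((inflateEquiv M' η).1 : T → ℂ) x = ((inflateEquiv M' η).1 : T → ℂ) 1 := by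
      intro x
      rw [inflateEquiv_apply, inflateEquiv_apply, (QuotientGroup.eq_one_iff (x : T)).2 x.2,
        QuotientGroup.mk_one]
    have hd1 : charDegree ((inflateEquiv M' η).1 : T → ℂ) = charDegree (η : T ⧸ M' → ℂ) := by
      refine charDegree_eq_of_apply_one ?_
      rw [inflateEquiv_apply, QuotientGroup.mk_one, apply_one_eq_charDegree (isCharacter_of_isIrr η.2)]
    have h := hprod (inflateEquiv M' η).1 he
    rw [hd1, hTm] at h
    rw [apply_one_eq_charDegree (isCharacter_of_isIrr η.2)]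
    suffices h' : charDegree (η : T ⧸ M' → ℂ) = 1 by rw [h', Nat.cast_one]
    rcases h with h | h
    · exact Nat.eq_one_of_mul_eq_one_left h
    · exact Nat.eq_of_mul_eq_mul_left (Nat.pos_of_ne_zero hm) (h.trans (mul_one m).symm)
  have h : ((⁅(⟨a, ha⟩ : T), ⟨b, hb⟩⁆ : T) : T ⧸ M') = 1 := by
    rw [commutatorElement_def]
    simp only [QuotientGroup.mk_mul, QuotientGroup.mk_inv]
    rw [hcomm ((⟨a, ha⟩ : T) : T ⧸ M'), mul_inv_cancel_right, mul_inv_cancel]
  have h' := Subgroup.mem_subgroupOf.1 ((QuotientGroup.eq_one_iff _).1 h)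
  simpa [commutatorElement_def] using h'

/-- All moved linear characters have the same stabiliser. -/
theorem stab_eq (hd : Deg m G) (hm : m ≠ 0) (M : Subgroup G) [M.Normal]
    (hab : ∀ a ∈ M, ∀ b ∈ M, a * b = b * a) (hcop : (Nat.card M).Coprime M.index)
    (θ θ' : M →* ℂˣ) (hθ : St M θ ≠ ⊤) (hθ' : St M θ' ≠ ⊤) : St M θ = St M θ' := by
  classical
  haveI := Fintype.ofFinite G
  have hfixM : ∀ (φ : M →* ℂˣ), ∀ b ∈ M, cj M b φ = φ := fun φ b hb => MonoidHom.ext fun x => by
    rw [cj_apply]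
    exact congrArg φ (Subtype.ext (by
      show b * x * b⁻¹ = x
      rw [hab b hb x x.2, mul_inv_cancel_right]))
  by_contra hne
  obtain ⟨hT, hTm, -⟩ := moved_stab hd hm M hab hcop θ hθ
  obtain ⟨hT', hTm', -⟩ := moved_stab hd hm M hab hcop θ' hθ'
  set T := St M θ with hTdef
  set T' := St M θ' with hT'def
  set R := T ⊔ T' with hR
  have hnor : ∀ S : Subgroup G, commutator G ≤ S → S.Normal := fun S hS => ⟨fun x hx g => by
    have h : g * x * g⁻¹ * x⁻¹ ∈ S := hS (by
      rw [commutator_def]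
      exact Subgroup.commutator_mem_commutator (Subgroup.mem_top g) (Subgroup.mem_top x))
    simpa [mul_assoc] using mul_mem h hx⟩
  haveI := hnor T hT
  haveI := hnor T' hT'
  haveI hRn : R.Normal := hnor R (hT.trans le_sup_left)
  have hsame : ∀ S S' : Subgroup G, S ≤ S' → S.index = m → S'.index = m → S = S' := by
    intro S S' hle h1 h2
    refine Subgroup.eq_of_le_of_card_ge hle (le_of_eq
      (Nat.eq_of_mul_eq_mul_right (Nat.pos_of_ne_zero hm) ?_))
    conv_lhs => rw [← h2, S'.card_mul_index, ← S.card_mul_index, h1]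
  have hRlt : R.index < m := by
    refine lt_of_le_of_ne (Nat.le_of_dvd (Nat.pos_of_ne_zero hm)
      (hTm ▸ Subgroup.index_dvd_of_le (le_sup_left : T ≤ R))) fun e => hne ?_
    have h1 : T = R := hsame T R le_sup_left hTm e
    have h2 : T' ≤ T := h1 ▸ le_sup_right
    exact (hsame T' T h2 hTm' hTm).symm
  set T2 := St M (θ * θ') with hT2
  -- elements fixing `θ θ'` fix `θ`
  have main : ∀ g ∈ T2, g ∈ T := by
    intro g hg
    rw [hT2, mem_St, cj_prod] at hg
    set ν : M →* ℂˣ := cj M g θ * θ⁻¹ with hν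
    have hνT : ∀ u ∈ T, cj M u ν = ν := by
      intro u hu
      have hu' : g * u * g⁻¹ ∈ T := (inferInstance : T.Normal).conj_mem u hu g
      rw [hν, cj_prod, cj_inv, (mem_St M).1 hu, ← cj_mul, show g * u = (g * u * g⁻¹) * g by group,
        cj_mul, (mem_St M).1 hu']
    have hν' : ν = (cj M g θ' * θ'⁻¹)⁻¹ := by
      refine MonoidHom.ext fun b => ?_
      have h1 := DFunLike.congr_fun hg b
      simp only [hν, MonoidHom.mul_apply, MonoidHom.inv_apply] at h1 ⊢
      rw [mul_inv_rev, inv_inv, mul_inv_eq_iff_eq_mul, mul_comm (θ' b), mul_assoc,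
        eq_inv_mul_iff_mul_eq, mul_comm, h1, mul_comm]
    have hνT' : ∀ u ∈ T', cj M u ν = ν := by
      intro u hu
      have hu' : g * u * g⁻¹ ∈ T' := (inferInstance : T'.Normal).conj_mem u hu g
      rw [hν', cj_inv, cj_prod, cj_inv, (mem_St M).1 hu, ← cj_mul,
        show g * u = (g * u * g⁻¹) * g by group, cj_mul, (mem_St M).1 hu']
    have hνR : R ≤ St M ν :=
      sup_le (fun u hu => (mem_St M).2 (hνT u hu)) (fun u hu => (mem_St M).2 (hνT' u hu))
    -- averaging over `R`
    set M' := M.subgroupOf R with hM'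
    haveI : Fintype (R ⧸ M') := Fintype.ofFinite _
    let av : (M →* ℂˣ) → (M →* ℂˣ) := fun φ => ∏ q : R ⧸ M', cj M ((q.out : R) : G) φ
    have hout : ∀ (φ : M →* ℂˣ) (r : R), cj M (((QuotientGroup.mk r : R ⧸ M').out : R) : G) φ =
        cj M (r : G) φ := by
      intro φ r
      obtain ⟨⟨n, hn⟩, he⟩ := QuotientGroup.mk_out_eq_mul M' r
      rw [he, Subgroup.coe_mul, cj_mul, hfixM _ _ (Subgroup.mem_subgroupOf.1 hn)]
    have havfix : ∀ φ : M →* ℂˣ, ∀ u ∈ R, cj M u (av φ) = av φ := by
      intro φ u hu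
      have e1 : cj M u (av φ) = ∏ q : R ⧸ M', cj M u (cj M ((q.out : R) : G) φ) := by
        show ((∏ q : R ⧸ M', cj M ((q.out : R) : G) φ)).comp (MulAut.conjNormal u).toMonoidHom = _
        refine MonoidHom.ext fun x => ?_
        rw [MonoidHom.comp_apply, MonoidHom.finsetProd_apply, MonoidHom.finsetProd_apply]
        rfl
      rw [e1]
      refine Fintype.prod_equiv (Equiv.mulRight (QuotientGroup.mk (⟨u, hu⟩ : R))) _ _ fun q => ?_
      rw [← cj_mul]
      obtain ⟨r, rfl⟩ := QuotientGroup.mk_surjective q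
      show _ = cj M (((QuotientGroup.mk (r * ⟨u, hu⟩) : R ⧸ M').out : R) : G) φ
      rw [hout φ (r * ⟨u, hu⟩), Subgroup.coe_mul,
        cj_mul, hout φ r, ← cj_mul]
    have havg : cj M g (av θ) = av (cj M g θ) := by
      have e1 : cj M g (av θ) = ∏ q : R ⧸ M', cj M g (cj M ((q.out : R) : G) θ) := by
        show ((∏ q : R ⧸ M', cj M ((q.out : R) : G) θ)).comp (MulAut.conjNormal g).toMonoidHom = _
        refine MonoidHom.ext fun x => ?_
        rw [MonoidHom.comp_apply, MonoidHom.finsetProd_apply, MonoidHom.finsetProd_apply]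
        rfl
      rw [e1]
      let c : R ≃* R := (MulAut.conjNormal g⁻¹ : MulAut R)
      have hc : M'.map c.toMonoidHom = M' := by
        ext r
        constructor
        · rintro ⟨n, hn, rfl⟩
          simpa [hM', c, Subgroup.mem_subgroupOf, MulAut.conjNormal_apply] using
            (inferInstance : M.Normal).conj_mem _ hn g⁻¹
        · intro hr
          refine ⟨c.symm r, ?_, c.apply_symm_apply r⟩
          simpa [hM', c, Subgroup.mem_subgroupOf, MulAut.conjNormal_symm_apply] using
            (inferInstance : M.Normal).conj_mem _ hr g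
      refine Fintype.prod_equiv (QuotientGroup.congr M' M' c hc).toEquiv _ _ fun q => ?_
      obtain ⟨r, rfl⟩ := QuotientGroup.mk_surjective q
      show _ = cj M (((QuotientGroup.mk (c r) : R ⧸ M').out : R) : G) (cj M g θ)
      rw [hout, hout, ← cj_mul, ← cj_mul]
      congr 1
      simp [c, MulAut.conjNormal_apply]
      group
    have hfix : cj M g (av θ) = av θ := by
      have hle : R ≤ St M (av θ) := fun u hu => (mem_St M).2 (havfix θ u hu)
      have htop : St M (av θ) = ⊤ := by
        by_contra hmv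
        obtain ⟨-, hi, -⟩ := moved_stab hd hm M hab hcop (av θ) hmv
        have := Nat.le_of_dvd (Nat.pos_of_ne_zero Subgroup.index_ne_zero_of_finite)
          (hi ▸ Subgroup.index_dvd_of_le hle)
        omega
      exact (mem_St M).1 (htop ▸ Subgroup.mem_top g)
    -- so `ν` has order dividing `|R : M|`
    have hpow : ν ^ Fintype.card (R ⧸ M') = 1 := by
      refine MonoidHom.ext fun x => ?_
      have h1 : av (cj M g θ) x = av θ x := by rw [← havg, hfix]
      simp only [av, MonoidHom.finsetProd_apply] at h1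
      have h2 : ∀ q : R ⧸ M', cj M ((q.out : R) : G) (cj M g θ) x =
          ν x * cj M ((q.out : R) : G) θ x := by
        intro q
        have h3 := DFunLike.congr_fun ((mem_St M).1 (hνR (q.out : R).2)) x
        rw [hν, cj_prod, cj_inv, MonoidHom.mul_apply, MonoidHom.inv_apply] at h3
        rw [hν]
        exact mul_inv_eq_iff_eq_mul.1 h3
      rw [Finset.prod_congr rfl fun q _ => h2 q, Finset.prod_mul_distrib, Finset.prod_const,
        Finset.card_univ] at h1
      rw [MonoidHom.pow_apply, MonoidHom.one_apply]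
      exact mul_eq_right.1 h1
    have hν1 : ν = 1 := by
      refine MonoidHom.ext fun x => ?_
      have hdiv : Fintype.card (R ⧸ M') ∣ M.index := by
        rw [← Nat.card_eq_fintype_card]
        exact Subgroup.relIndex_dvd_index_of_normal M R
      have h1 : ν x ^ Fintype.card (R ⧸ M') = 1 := by
        have h := DFunLike.congr_fun hpow x
        rwa [MonoidHom.pow_apply, MonoidHom.one_apply] at h
      have h2 : ν x ^ Nat.card M = 1 := by rw [← map_pow, pow_card_eq_one', map_one]
      have h3 := orderOf_dvd_iff_pow_eq_one.1 (Nat.dvd_gcd (orderOf_dvd_of_pow_eq_one h2)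
        ((orderOf_dvd_of_pow_eq_one h1).trans hdiv))
      rwa [hcop.gcd_eq_one, pow_one] at h3
    refine (mem_St M).2 (MonoidHom.ext fun x => ?_)
    have h4 := DFunLike.congr_fun hν1 x
    rw [hν, MonoidHom.mul_apply, MonoidHom.inv_apply, MonoidHom.one_apply] at h4
    exact mul_inv_eq_one.1 h4
  have main' : ∀ g ∈ T2, g ∈ T' := by
    intro g hg
    have h1 := main g hg
    rw [hT2, mem_St, cj_prod, (mem_St M).1 h1] at hg
    exact (mem_St M).2 (mul_left_cancel hg)
  have hmv : St M (θ * θ') ≠ ⊤ := fun h => hθ (top_le_iff.1 (h ▸ main))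
  obtain ⟨-, hi, -⟩ := moved_stab hd hm M hab hcop _ hmv
  have e1 : T2 = T := hsame T2 T main hi hTm
  have e2 : T2 = T' := hsame T2 T' main' hi hTm'
  exact hne (e1.symm.trans e2)

/-- The two cases for groups with two degrees. -/
theorem dichotomy (hd : Deg m G) (hm : ∃ χ : IrrCharacter G, charDegree (χ : G → ℂ) = m)
    (hm1 : m ≠ 1) :
    (∃ A : Subgroup G, A.Normal ∧ (∀ a ∈ A, ∀ b ∈ A, a * b = b * a) ∧ A.index = m ∧
      commutator G ≤ A) ∨
    ∃ (p e : ℕ) (P A : Subgroup G), p.Prime ∧ m = p ^ e ∧ P.Normal ∧ A.Normal ∧ IsPGroup p P ∧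
      (∀ a ∈ A, ∀ b ∈ A, a * b = b * a) ∧ P ⊓ A = ⊥ ∧ P ⊔ A = ⊤ ∧ A ≤ Subgroup.center G ∧
      Group.IsNilpotent G := by
  classical
  haveI := Fintype.ofFinite G
  obtain ⟨χ, hχ⟩ := hm
  have hm0 : m ≠ 0 := hχ ▸ (charDegree_pos χ.2).ne'
  obtain ⟨M, hMn, hab, hMi, hcop, hQ⟩ := exists_core hd hm0
  haveI := hMn
  have habM : ∀ a b : M, a * b = b * a := fun a b => Subtype.ext (hab a a.2 b b.2)
  by_cases hmv : ∃ θ : M →* ℂˣ, St M θ ≠ ⊤
  · left
    obtain ⟨θ, hθ⟩ := hmv
    obtain ⟨hle, hTm, hq⟩ := moved_stab hd hm0 M hab hcop θ hθ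
    refine ⟨St M θ, ⟨fun x hx g => ?_⟩, ?_, hTm, hle⟩
    · have h : g * x * g⁻¹ * x⁻¹ ∈ St M θ := hle (by
        rw [commutator_def]
        exact Subgroup.commutator_mem_commutator (Subgroup.mem_top g) (Subgroup.mem_top x))
      simpa [mul_assoc] using mul_mem h hx
    refine comm_of_central hcop hMn (fun t ht x hx => ?_) hq
    have h := TwoDegPrime.eq_of_forall_hom habM (x := ⟨t * x * t⁻¹, hMn.conj_mem x hx t⟩)
      (y := ⟨x, hx⟩) fun φ => by
        by_cases hφ : St M φ = ⊤
        · rw [← cj_apply M t φ ⟨x, hx⟩, (mem_St M).1 (hφ ▸ Subgroup.mem_top t)]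
        · rw [← cj_apply M t φ ⟨x, hx⟩,
            (mem_St M).1 ((stab_eq hd hm0 M hab hcop θ φ hθ hφ) ▸ ht)]
    exact mul_inv_eq_iff_eq_mul.1 (congrArg Subtype.val h)
  push Not at hmv
  right
  have hcen : M ≤ Subgroup.center G := fun x hx => Subgroup.mem_center_iff.2 fun t => by
    have h := TwoDegPrime.eq_of_forall_hom habM (x := ⟨t * x * t⁻¹, hMn.conj_mem x hx t⟩)
      (y := ⟨x, hx⟩) fun φ => by
        rw [← cj_apply M t φ ⟨x, hx⟩, (mem_St M).1 (hmv φ ▸ Subgroup.mem_top t)]
    exact mul_inv_eq_iff_eq_mul.1 (congrArg Subtype.val h)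
  have hGne : ¬ ∀ a b : G, a * b = b * a := fun h => by
    have h1 := (Cfsg.Agent.S0187.result (G := G)).1 h χ
    rw [apply_one_eq_charDegree (isCharacter_of_isIrr χ.2), hχ] at h1
    exact hm1 (by exact_mod_cast h1)
  -- `m` is a prime power
  obtain ⟨p, hp, hpm, hall⟩ : ∃ p, p.Prime ∧ p ∣ m ∧ ∀ r, r.Prime → r ∣ m → r = p := by
    by_contra hno
    push Not at hno
    refine hGne fun a b => ?_
    have hder : ∀ a ∈ (⊤ : Subgroup G), ∀ b ∈ (⊤ : Subgroup G), ⁅a, b⁆ ∈ M := by
      intro a _ b _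
      by_contra hnot
      obtain ⟨r, hr, hrd⟩ : ∃ r, r.Prime ∧ r ∣ M.index := by
        refine Nat.exists_prime_and_dvd fun h => hnot ?_
        rw [Subgroup.index_eq_one] at h
        rw [h]; trivial
      -- the element lies in every complement
      have hin : ∀ q, q.Prime → q ∣ m → ∃ Q : Subgroup G, Q.Normal ∧ (∃ k, Q.index = q ^ k) ∧
          M ≤ Q ∧ ⁅a, b⁆ ∈ Q := by
        intro q hq hqm
        obtain ⟨Q, hQn, ⟨k, hk⟩, -, hMQ, -⟩ := hQ q hq hqm
        refine ⟨Q, hQn, ⟨k, hk⟩, hMQ, ?_⟩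
        haveI := hQn
        have hcomm : ∀ x y : G ⧸ Q, x * y = y * x := (Cfsg.Agent.S0187.result (G := G ⧸ Q)).2 fun η => by
          have hd1 : charDegree ((inflateEquiv Q η).1 : G → ℂ) = charDegree (η : G ⧸ Q → ℂ) := by
            refine charDegree_eq_of_apply_one ?_
            rw [inflateEquiv_apply, QuotientGroup.mk_one,
              apply_one_eq_charDegree (isCharacter_of_isIrr η.2)]
          rw [apply_one_eq_charDegree (isCharacter_of_isIrr η.2)]
          rcases hd (inflateEquiv Q η).1 with h | h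
          · rw [← hd1, h, Nat.cast_one]
          · exfalso
            obtain ⟨r', hr', hr'm, hne⟩ := hno q hq hqm
            have h2 : m ∣ q ^ k := by
              rw [← hk, Subgroup.index_eq_card, ← h, hd1]
              exact charDegree_dvd_card η.2
            exact hne ((Nat.prime_dvd_prime_iff_eq hr' hq).1 (hr'.dvd_of_dvd_pow (hr'm.trans h2)))
        rw [← QuotientGroup.eq_one_iff, commutatorElement_def]
        simp only [QuotientGroup.mk_mul, QuotientGroup.mk_inv]
        rw [hcomm (a : G ⧸ Q), mul_inv_cancel_right, mul_inv_cancel]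
      set c := ⁅a, b⁆ with hc
      -- the order of the image modulo `M` is prime to `m`
      have hMc : (orderOf (QuotientGroup.mk' M c)) = 1 := by
        by_contra hne
        obtain ⟨q, hq, hqd⟩ := Nat.exists_prime_and_dvd hne
        have hqi : q ∣ M.index := hqd.trans (Subgroup.index_eq_card M ▸ orderOf_dvd_natCard _)
        obtain ⟨Q, -, -, hQc, hMQ, -⟩ := hQ q hq (hMi q hq hqi)
        obtain ⟨Q', hQ'n, -, hMQ', hcQ'⟩ := hin q hq (hMi q hq hqi)
        obtain ⟨Q'', hQ''n, ⟨k, hk⟩, hQ''c, -, -⟩ := hQ q hq (hMi q hq hqi)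
        haveI := hQ''n
        have hcQ : c ∈ Q'' := by
          have hcomm : ∀ x y : G ⧸ Q'', x * y = y * x :=
            (Cfsg.Agent.S0187.result (G := G ⧸ Q'')).2 fun η => by
              have hd1 : charDegree ((inflateEquiv Q'' η).1 : G → ℂ) = charDegree (η : G ⧸ Q'' → ℂ) := by
                refine charDegree_eq_of_apply_one ?_
                rw [inflateEquiv_apply, QuotientGroup.mk_one,
                  apply_one_eq_charDegree (isCharacter_of_isIrr η.2)]
              rw [apply_one_eq_charDegree (isCharacter_of_isIrr η.2)]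
              rcases hd (inflateEquiv Q'' η).1 with h | h
              · rw [← hd1, h, Nat.cast_one]
              · exfalso
                obtain ⟨r', hr', hr'm, hne⟩ := hno q hq (hMi q hq hqi)
                have h2 : m ∣ q ^ k := by
                  rw [← hk, Subgroup.index_eq_card, ← h, hd1]
                  exact charDegree_dvd_card η.2
                exact hne ((Nat.prime_dvd_prime_iff_eq hr' hq).1 (hr'.dvd_of_dvd_pow (hr'm.trans h2)))
          rw [← QuotientGroup.eq_one_iff, hc, commutatorElement_def]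
          simp only [QuotientGroup.mk_mul, QuotientGroup.mk_inv]
          rw [hcomm (a : G ⧸ Q''), mul_inv_cancel_right, mul_inv_cancel]
        have h1 : orderOf (QuotientGroup.mk' M c) ∣ orderOf c := orderOf_map_dvd _ _
        have h2 : orderOf c ∣ Nat.card Q'' := Q''.orderOf_dvd_natCard hcQ
        exact hq.ne_one (Nat.eq_one_of_dvd_coprimes hQ''c (hqd.trans (h1.trans h2)) dvd_rfl)
      exact hnot ((QuotientGroup.eq_one_iff c).1 (orderOf_eq_one_iff.1 hMc))
    exact comm_of_central hcop hMn (fun t _ x hx => Subgroup.mem_center_iff.1 (hcen hx) t) hder a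
      (Subgroup.mem_top a) b (Subgroup.mem_top b)
  haveI := Fact.mk hp
  obtain ⟨Q, hQn, ⟨k, hk⟩, hQc, -, hMQ⟩ := hQ p hp hpm
  have hMQ' : M = Q := hMQ hall
  obtain ⟨P⟩ : Nonempty (Sylow p G) := inferInstance
  obtain ⟨j, hj⟩ := IsPGroup.iff_card.1 P.2
  have hcopr : (Nat.card (P : Subgroup G)).Coprime (Nat.card M) := by
    rw [hj, hMQ']; exact Nat.Coprime.pow_left _ hQc.symm
  have hcard : Nat.card (P : Subgroup G) * Nat.card M = Nat.card G := by
    have h1 : Nat.card (P : Subgroup G) = M.index := by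
      rw [P.card_eq_multiplicity, ← M.card_mul_index, hMQ', hk, Nat.factorization_mul
        Nat.card_pos.ne' (pow_ne_zero _ hp.ne_zero), Finsupp.add_apply,
        Nat.factorization_eq_zero_of_not_dvd
          (fun h => hp.ne_one (Nat.eq_one_of_dvd_coprimes hQc h dvd_rfl)), zero_add,
        Nat.factorization_pow_self hp]
    rw [h1, mul_comm, M.card_mul_index]
  have hcompl := Subgroup.isComplement'_of_coprime hcard hcopr
  have hsup : (P : Subgroup G) ⊔ M = ⊤ := hcompl.sup_eq_top
  have hPn : (P : Subgroup G).Normal := ⟨fun x hx g => by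
    obtain ⟨y, hy, z, hz, rfl⟩ := Subgroup.mem_sup_of_normal_right.1 (hsup ▸ Subgroup.mem_top g)
    have hz' := Subgroup.mem_center_iff.1 (hcen hz)
    rw [show y * z * x * (y * z)⁻¹ = y * (z * x) * z⁻¹ * y⁻¹ by group, ← hz' x,
      mul_assoc y (x * z), mul_inv_cancel_right]
    exact mul_mem (mul_mem hy hx) (inv_mem hy)⟩
  obtain ⟨e, -, he⟩ : ∃ e, e ≤ m ∧ m = p ^ e := by
    refine ⟨m.factorization p, (Nat.factorization_lt p hm0).le, ?_⟩
    exact Nat.eq_prime_pow_of_unique_prime_dvd hm0 (fun hd' hdd => hall _ hd' hdd) |>.trans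
      (congrArg (p ^ ·) (by
        conv_rhs => rw [Nat.eq_prime_pow_of_unique_prime_dvd hm0 (fun hd' hdd => hall _ hd' hdd)]
        rw [Nat.factorization_pow_self hp]))
  haveI : Group.IsNilpotent (G ⧸ M) :=
    (IsPGroup.of_card (p := p) (n := k) (by rw [← Subgroup.index_eq_card, hMQ', hk])).isNilpotent
  exact ⟨p, e, P, M, hp, he, hPn, hMn, P.2, hab, hcompl.disjoint.eq_bot, hsup, hcen,
    Subgroup.isNilpotent_of_ker_le_center (QuotientGroup.mk' M) (by rwa [QuotientGroup.ker_mk'])⟩

/-- The derived group is abelian. -/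
theorem derived_comm (hd : Deg m G) (hm : ∃ χ : IrrCharacter G, charDegree (χ : G → ℂ) = m)
    (hm1 : m ≠ 1) : ∀ a ∈ commutator G, ∀ b ∈ commutator G, a * b = b * a := by
  classical
  haveI := Fintype.ofFinite G
  intro a ha b hb
  rcases dichotomy hd hm hm1 with ⟨A, -, hab, -, hle⟩ | ⟨p, e, P, A, -, -, -, -, -, -, -, -, -, hnil⟩
  · exact hab a (hle ha) b (hle hb)
  haveI := hnil
  suffices h : ⁅a, b⁆ = 1 by exact commutatorElement_eq_one_iff_mul_comm.1 h
  refine eq_one_of_forall_irr fun χ => ?_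
  obtain ⟨H, lam, hlam⟩ := Cfsg.Agent.S0176.result (χ : G → ℂ) χ.2
  have hidx : H.index = charDegree (χ : G → ℂ) := by
    have h := congrFun hlam 1
    rw [indFun_one, apply_one_eq_charDegree (isCharacter_of_isIrr χ.2), map_one,
      Units.val_one, mul_one] at h
    exact_mod_cast h.symm
  have hle : commutator G ≤ H := commutator_le_of_index hd H (by
    obtain ⟨χ₀, hχ₀⟩ := hm
    rcases hd χ with h | h <;> rw [hidx, h]
    exact hχ₀ ▸ charDegree_pos χ₀.2)
  haveI : H.Normal := ⟨fun x hx g => by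
    have h : g * x * g⁻¹ * x⁻¹ ∈ H := hle (by
      rw [commutator_def]
      exact Subgroup.commutator_mem_commutator (Subgroup.mem_top g) (Subgroup.mem_top x))
    simpa [mul_assoc] using mul_mem h hx⟩
  have hmem : ⁅a, b⁆ ∈ H := by
    have := Subgroup.commutator_mem_commutator (H₁ := H) (H₂ := H) (hle ha) (hle hb)
    exact (Subgroup.commutator_le_self H) this
  rw [hlam, indFun_one, map_one, Units.val_one, mul_one,
    show indFun H (fun h => (lam h : ℂ)) ⁅a, b⁆ =
      indFun H (fun h => (lam h : ℂ)) ((⟨_, hmem⟩ : H) : G) from rfl, indFun_apply_of_mem]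
  have hone : ∀ x : G, conjChar H x (fun h => (lam h : ℂ)) ⟨_, hmem⟩ = 1 := by
    intro x
    have hx : (⟨x * ⁅a, b⁆ * x⁻¹, (inferInstance : H.Normal).conj_mem _ hmem x⟩ : H) =
        ⁅(⟨x * a * x⁻¹, (inferInstance : H.Normal).conj_mem _ (hle ha) x⟩ : H),
          ⟨x * b * x⁻¹, (inferInstance : H.Normal).conj_mem _ (hle hb) x⟩⁆ := by
      refine Subtype.ext ?_
      simp only [commutatorElement_def, Subgroup.coe_mul, Subgroup.coe_inv]
      group
    rw [conjChar_apply, hx, map_commutatorElement,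
      commutatorElement_eq_one_iff_mul_comm.2 (mul_comm _ _), Units.val_one]
  rw [Finset.sum_congr rfl fun x _ => hone x, Finset.sum_const, nsmul_eq_mul, mul_one,
    Finset.card_univ, ← Nat.card_eq_fintype_card, ← H.card_mul_index, Nat.cast_mul, ← mul_assoc,
    inv_mul_cancel₀ (card_ne_zero_complex H), one_mul]

end Cfsg.Agent.Lib.Char.TwoDegrees
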