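import Cfsg.Agent.Lib.Char.Monomial
import Cfsg.Agent.Lib.Char.Ito
import Cfsg.Agent.S4456
import Cfsg.Agent.S0065
import Cfsg.Agent.S0187
import Cfsg.Agent.S0176
import Mathlib.GroupTheory.PGroup
import Mathlib.RingTheory.RootsOfUnity.Complex

/-!
# Groups with character degrees `1` and `p`
-/

set_option autoImplicit false
set_option linter.unusedSectionVars false
set_option linter.style.haveILetI false

namespace Cfsg.Agent.Lib.Char.TwoDegPrime

open Cfsg Cfsg.Agent.Lib.Char

universe u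

variable {G : Type u} [Group G]

/-- A homomorphism as a class function. -/
noncomputable def lf {H : Type*} [Group H] (l : H →* ℂˣ) : H → ℂ := fun h => (l h : ℂ)

theorem lf_inj {H : Type*} [Group H] {l l' : H →* ℂˣ} (h : lf l = lf l') : l = l' :=
  MonoidHom.ext fun x => Units.ext (congrFun h x)

section Action

variable (B : Subgroup G) [B.Normal]

/-- The conjugate of a linear character of a normal subgroup. -/
noncomputable def cj (g : G) (θ : B →* ℂˣ) : B →* ℂˣ := θ.comp (MulAut.conjNormal g).toMonoidHom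

theorem lf_cj (g : G) (θ : B →* ℂˣ) : lf (cj B g θ) = conjChar B g (lf θ) := by
  rw [conjChar_eq_comp]; rfl

theorem cj_mul (g h : G) (θ : B →* ℂˣ) : cj B (g * h) θ = cj B h (cj B g θ) :=
  lf_inj (by rw [lf_cj, lf_cj, lf_cj, conjChar_mul])

theorem cj_one (θ : B →* ℂˣ) : cj B 1 θ = θ :=
  lf_inj (by rw [lf_cj, conjChar_one])

theorem cj_prod (g : G) (θ θ' : B →* ℂˣ) : cj B g (θ * θ') = cj B g θ * cj B g θ' :=
  MonoidHom.ext fun _ => rfl

theorem cj_inv (g : G) (θ : B →* ℂˣ) : cj B g θ⁻¹ = (cj B g θ)⁻¹ :=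
  MonoidHom.ext fun _ => rfl

theorem cj_apply (g : G) (θ : B →* ℂˣ) (b : B) :
    cj B g θ b = θ ⟨g * b * g⁻¹, (inferInstance : B.Normal).conj_mem b b.2 g⟩ :=
  congrArg θ (Subtype.ext (by simp [MulAut.conjNormal_apply]))

/-- The stabiliser of a linear character. -/
noncomputable def St (θ : B →* ℂˣ) : Subgroup G := inertia B (lf θ)

theorem mem_St {θ : B →* ℂˣ} {g : G} : g ∈ St B θ ↔ cj B g θ = θ := by
  rw [St, mem_inertia, ← lf_cj]
  exact ⟨fun h => lf_inj h, fun h => by rw [h]⟩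

end Action

variable [Finite G] {p : ℕ}

/-- The degree hypothesis. -/
def Deg (p : ℕ) (G : Type u) [Group G] : Prop :=
  ∀ χ : IrrCharacter G, charDegree (χ : G → ℂ) = 1 ∨ charDegree (χ : G → ℂ) = p

theorem exists_mult (N : Subgroup G) [N.Normal] [Fintype G] [Fintype N] {θ : N → ℂ}
    (hθ : IsIrrCharacter N θ) : ∃ (χ : IrrCharacter G) (e : ℕ),
      charDegree (χ : G → ℂ) = e * (inertia N θ).index * charDegree θ := by
  obtain ⟨χ, hχ⟩ := exists_irr_over N hθ
  obtain ⟨e, he⟩ := classInner_natCast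
    (isCharacter_restrict (isCharacter_of_isIrr χ.2) N) (isCharacter_of_isIrr hθ)
  refine ⟨χ, e, ?_⟩
  have h := clifford_degree N χ.2 hθ hχ
  rw [he, apply_one_eq_charDegree (isCharacter_of_isIrr χ.2),
    apply_one_eq_charDegree (isCharacter_of_isIrr hθ)] at h
  exact_mod_cast h

/-- Orbit size times degree divides `p`. -/
theorem index_mul_dvd (hd : Deg p G) (N : Subgroup G) [N.Normal] {θ : N → ℂ}
    (hθ : IsIrrCharacter N θ) : (inertia N θ).index * charDegree θ ∣ p := by
  classical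
  haveI := Fintype.ofFinite G
  obtain ⟨χ, e, he⟩ := exists_mult N hθ
  rw [mul_assoc] at he
  rcases hd χ with h | h <;> rw [h] at he
  · exact (Dvd.intro_left _ he.symm).trans (one_dvd p)
  · exact Dvd.intro_left _ he.symm

theorem index_St_dvd (hd : Deg p G) (B : Subgroup G) [B.Normal] (θ : B →* ℂˣ) :
    (St B θ).index ∣ p :=
  (dvd_mul_right _ _).trans (index_mul_dvd hd B (θ := lf θ) (isIrrCharacter_linear θ))

theorem normal_of_index_prime {H : Type*} [Group H] [Finite H] [Group.IsNilpotent H]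
    (K : Subgroup H) (hK : K.index.Prime) : K.Normal := by
  refine Subgroup.NormalizerCondition.normal_of_coatom _ Group.normalizerCondition_of_isNilpotent
    ⟨fun h => hK.ne_one (h ▸ Subgroup.index_top), fun L hL => ?_⟩
  rcases (Nat.dvd_prime hK).1 (Subgroup.index_dvd_of_le hL.le) with h | h
  · exact Subgroup.index_eq_one.1 h
  · refine absurd ?_ hL.ne
    exact Subgroup.eq_of_le_of_card_ge hL.le (le_of_eq (Nat.eq_of_mul_eq_mul_right
      (Nat.pos_of_ne_zero hK.ne_zero) (by
        rw [K.card_mul_index]; conv_lhs => rw [← h]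
        exact L.card_mul_index)))

/-- Elements are separated by the linear characters of an abelian subgroup. -/
theorem eq_of_forall_hom {B : Type*} [Group B] [Finite B] (hab : ∀ a b : B, a * b = b * a)
    {x y : B} (h : ∀ θ : B →* ℂˣ, θ x = θ y) : x = y := by
  haveI := Fintype.ofFinite B
  rw [← div_eq_one, div_eq_mul_inv]
  refine eq_one_of_forall_irr fun χ => ?_
  have h1 : (χ : B → ℂ) 1 = 1 := (Cfsg.Agent.S0187.result.1 hab) χ
  obtain ⟨l, hl⟩ := exists_hom_of_degree_one (isCharacter_of_isIrr χ.2) h1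
  rw [hl, h1, map_mul, map_inv, h l, mul_inv_cancel, Units.val_one]

/-- A normal subgroup of index `p` with a linear character which is not invariant. -/
theorem exists_moved (hp : p.Prime) (hd : Deg p G)
    (hχ : ∃ χ : IrrCharacter G, charDegree (χ : G → ℂ) = p) :
    ∃ A : Subgroup G, ∃ _ : A.Normal, A.index = p ∧ ∃ l : A →* ℂˣ, St A l ≠ ⊤ := by
  classical
  haveI := Fintype.ofFinite G
  haveI := Fact.mk hp
  obtain ⟨Q, hQn, hQc, k, hk⟩ := Cfsg.Agent.S4456.result (G := G) p hp fun χ hne => by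
    rcases hd χ with h | h
    · exact absurd h hne
    · rw [h]
  haveI := hQn
  have hQab : ∀ a b : Q, a * b = b * a := (Cfsg.Agent.S0187.result (G := Q)).2 fun θ => by
    have h1 : charDegree (θ : Q → ℂ) ∣ p := (dvd_mul_left _ _).trans (index_mul_dvd hd Q θ.2)
    rcases (Nat.dvd_prime hp).1 h1 with h | h
    · rw [apply_one_eq_charDegree (isCharacter_of_isIrr θ.2), h, Nat.cast_one]
    · have h2 := charDegree_dvd_card θ.2
      rw [h] at h2
      exact absurd h2 (fun hh => hp.ne_one (Nat.eq_one_of_dvd_coprimes hQc hh dvd_rfl))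
  have hGQ : IsPGroup p (G ⧸ Q) := IsPGroup.of_card (n := k) (by rw [← Subgroup.index_eq_card, hk])
  haveI : Group.IsNilpotent (G ⧸ Q) := hGQ.isNilpotent
  by_cases hmv : ∀ θ : Q →* ℂˣ, St Q θ = ⊤
  · -- `Q` is central, the group is nilpotent
    have hcen : (QuotientGroup.mk' Q).ker ≤ Subgroup.center G := by
      intro q hq
      rw [QuotientGroup.ker_mk'] at hq
      refine Subgroup.mem_center_iff.2 fun g => ?_
      have := eq_of_forall_hom hQab (x := ⟨g * q * g⁻¹, hQn.conj_mem q hq g⟩) (y := ⟨q, hq⟩)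
        fun θ => by
          have h : g ∈ St Q θ := by rw [hmv θ]; trivial
          rw [mem_St] at h
          rw [← cj_apply Q g θ ⟨q, hq⟩, h]
      have := congrArg Subtype.val this
      simp only at this
      calc g * q = g * q * g⁻¹ * g := by group
        _ = q * g := by rw [this]
    haveI : Group.IsNilpotent G := Subgroup.isNilpotent_of_ker_le_center _ hcen
    obtain ⟨χ, hdeg⟩ := hχ
    obtain ⟨H, lam, hlam⟩ := Cfsg.Agent.S0176.result (χ : G → ℂ) χ.2
    have hidx : H.index = p := by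
      have h := congrFun hlam 1
      rw [indFun_one, apply_one_eq_charDegree (isCharacter_of_isIrr χ.2), hdeg, map_one,
        Units.val_one, mul_one] at h
      exact_mod_cast h.symm
    haveI hHn := normal_of_index_prime H (hidx ▸ hp)
    refine ⟨H, hHn, hidx, lam, fun htop => ?_⟩
    have h := classInner_indFun_self H (θ := lf lam) (isIrrCharacter_linear lam)
    rw [show indFun H (lf lam) = (χ : G → ℂ) from hlam.symm, classInner_irr_self χ.2,
      show inertia H (lf lam) = ⊤ from htop, Subgroup.card_top, ← H.card_mul_index, hidx,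
      Nat.cast_mul, ← mul_assoc, inv_mul_cancel₀ (card_ne_zero_complex H), one_mul] at h
    exact hp.ne_one (by exact_mod_cast h.symm)
  · push Not at hmv
    obtain ⟨θ, hθ⟩ := hmv
    have hθi : IsIrrCharacter Q (lf θ) := isIrrCharacter_linear θ
    set I := St Q θ with hI
    have hIp : I.index = p := ((Nat.dvd_prime hp).1 (index_St_dvd hd Q θ)).resolve_left
      fun h => hθ (Subgroup.index_eq_one.1 h)
    have hQI : Q ≤ I := le_inertia Q (isClassFunction_of_isIrr hθi)
    have hcm : (I.map (QuotientGroup.mk' Q)).comap (QuotientGroup.mk' Q) = I :=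
      Subgroup.comap_map_eq_self (by rw [QuotientGroup.ker_mk']; exact hQI)
    have hidx : (I.map (QuotientGroup.mk' Q)).index = p := by
      rw [← Subgroup.index_comap_of_surjective _ (QuotientGroup.mk'_surjective Q), hcm, hIp]
    haveI : I.Normal := by
      rw [← hcm]
      exact (normal_of_index_prime _ (hidx ▸ hp)).comap _
    obtain ⟨χ, hχ'⟩ := exists_irr_over Q hθi
    obtain ⟨ψ, hψ, hind, e, -, hres⟩ := exists_clifford_correspondent Q χ.2 hθi hχ'
    have hψ1 : ψ 1 = 1 := by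
      have h := congrFun hind 1
      rw [indFun_one, show (inertia Q (lf θ)).index = p from hIp,
        apply_one_eq_charDegree (isCharacter_of_isIrr hψ),
        apply_one_eq_charDegree (isCharacter_of_isIrr χ.2)] at h
      have h' : p * charDegree ψ = charDegree (χ : G → ℂ) := by exact_mod_cast h
      rcases hd χ with h1 | h1 <;> rw [h1] at h'
      · exact absurd (Nat.eq_one_of_mul_eq_one_right h') hp.ne_one
      · rw [apply_one_eq_charDegree (isCharacter_of_isIrr hψ),
          Nat.eq_of_mul_eq_mul_left hp.pos (h'.trans (mul_one p).symm), Nat.cast_one]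
    obtain ⟨l, hl⟩ := exists_hom_of_degree_one (isCharacter_of_isIrr hψ) hψ1
    refine ⟨I, inferInstance, hIp, l, fun htop => hθ ?_⟩
    have hlQ : ∀ q : Q, (l ⟨q, hQI q.2⟩ : ℂ) = (θ q : ℂ) := by
      have he1 : (e : ℂ) = 1 := by
        have h := hres 1
        have h2 : ψ ⟨((1 : Q) : G), hQI (1 : Q).2⟩ = ψ 1 := rfl
        erw [h2, hψ1] at h
        simpa [lf] using h.symm
      intro q
      have h := hres q
      rw [he1, one_mul] at h
      exact (hl _).symm.trans h
    rw [eq_top_iff]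
    intro g _
    rw [mem_St]
    refine MonoidHom.ext fun q => Units.ext ?_
    have hg : cj I g l = l := (mem_St I).1 (htop ▸ Subgroup.mem_top g)
    have h1 := congrArg (fun f : I →* ℂˣ => (f ⟨q, hQI q.2⟩ : ℂ)) hg
    have h1 := (congrArg Units.val (cj_apply I g l ⟨q, hQI q.2⟩).symm).trans h1
    rw [cj_apply, ← hlQ, ← hlQ]
    exact h1

/-- An abelian normal subgroup of index `p` or `p ^ 2`. -/
theorem exists_abelian (hp : p.Prime) (hd : Deg p G)
    (hχ : ∃ χ : IrrCharacter G, charDegree (χ : G → ℂ) = p) :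
    (∃ A : Subgroup G, A.Normal ∧ (∀ a ∈ A, ∀ b ∈ A, a * b = b * a) ∧ A.index = p) ∨
      ∃ B : Subgroup G, B.Normal ∧ (∀ a ∈ B, ∀ b ∈ B, a * b = b * a) ∧ B.index = p ^ 2 := by
  classical
  haveI := Fintype.ofFinite G
  haveI := Fact.mk hp
  obtain ⟨A, hAn, hAp, l, hl⟩ := exists_moved hp hd hχ
  haveI := hAn
  by_cases hab : ∀ a b : A, a * b = b * a
  · exact Or.inl ⟨A, hAn, fun a ha b hb => congrArg Subtype.val (hab ⟨a, ha⟩ ⟨b, hb⟩), hAp⟩
  right
  -- the elements of `A` on which all conjugates of `l` agree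
  let D0 : Subgroup A := ⨅ g : G, (cj A g l / l).ker
  set D : Subgroup G := D0.map A.subtype with hD
  have hmemD : ∀ a : A, (a : G) ∈ D ↔ ∀ g, cj A g l a = l a := by
    intro a
    rw [hD, show (a : G) = A.subtype a from rfl, Subgroup.mem_map_iff_mem A.subtype_injective]
    simp only [D0, Subgroup.mem_iInf, MonoidHom.mem_ker, MonoidHom.div_apply, div_eq_one]
  have hDA : D ≤ A := Subgroup.map_subtype_le D0
  haveI hDn : D.Normal := ⟨fun x hx g => by
    have hxA := hDA hx
    have hgx : g * x * g⁻¹ ∈ A := hAn.conj_mem x hxA g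
    refine (hmemD ⟨_, hgx⟩).2 fun u => ?_
    have h1 := ((hmemD ⟨x, hxA⟩).1 hx (u * g)).trans ((hmemD ⟨x, hxA⟩).1 hx g).symm
    rw [cj_apply, cj_apply] at h1
    rw [cj_apply]
    simpa [mul_assoc] using h1⟩
  set D' := D.subgroupOf A with hD'
  have hne : D' ≠ ⊤ := by
    intro h
    refine hl (eq_top_iff.2 fun g _ => (mem_St A).2 (MonoidHom.ext fun a => ?_))
    exact (hmemD a).1 (Subgroup.mem_subgroupOf.1 (by rw [h]; trivial : a ∈ D')) g
  -- the nonlinear characters of `A`
  have hψd : ∀ ψ : IrrCharacter A, charDegree (ψ : A → ℂ) ≠ 1 →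
      charDegree (ψ : A → ℂ) = p ∧ inertia A (ψ : A → ℂ) = ⊤ := by
    intro ψ hψ1
    have h := index_mul_dvd hd A ψ.2
    have h1 := ((Nat.dvd_prime hp).1 ((dvd_mul_left _ _).trans h)).resolve_left hψ1
    refine ⟨h1, Subgroup.index_eq_one.1 ?_⟩
    rw [h1] at h
    have h2 := Nat.dvd_of_mul_dvd_mul_right hp.pos (h.trans (dvd_of_eq (one_mul p).symm))
    exact Nat.dvd_one.1 h2
  have hkey : ∀ ψ : IrrCharacter A, charDegree (ψ : A → ℂ) ≠ 1 →
      ∃ θ : IrrCharacter D', ∃ e : ℕ, (θ : D' → ℂ) 1 = 1 ∧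
        (fun n : D' => (ψ : A → ℂ) n) = (e : ℂ) • ∑ φ ∈ orbit D' (θ : D' → ℂ), φ ∧
        ((D'.index = p ^ 2 ∧ e = p ∧ inertia D' (θ : D' → ℂ) = ⊤) ∨ D'.index = p) := by
    intro ψ hψ1
    obtain ⟨hψp, hinv⟩ := hψd ψ hψ1
    have hψc := isCharacter_of_isIrr ψ.2
    have hprod : inertia A (fun a => (l a : ℂ) * (ψ : A → ℂ) a) = ⊤ :=
      (hψd ⟨_, isIrrCharacter_linear_mul ψ.2 l⟩ (by
        rw [charDegree_eq_of_apply_one (χ := fun a => (l a : ℂ) * (ψ : A → ℂ) a) (n := p) (by
          show (l 1 : ℂ) * (ψ : A → ℂ) 1 = p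
          rw [map_one, Units.val_one, one_mul, apply_one_eq_charDegree hψc, hψp])]
        exact hp.ne_one)).2
    have hvan : ∀ a : A, a ∉ D' → (ψ : A → ℂ) a = 0 := by
      intro a ha
      rw [hD', Subgroup.mem_subgroupOf, hmemD] at ha
      push Not at ha
      obtain ⟨g, hg⟩ := ha
      have h1 : g ∈ inertia A (fun a => (l a : ℂ) * (ψ : A → ℂ) a) := by rw [hprod]; trivial
      have h2 : g ∈ inertia A (ψ : A → ℂ) := by rw [hinv]; trivial
      rw [mem_inertia] at h1 h2
      have h3 := congrFun h1 a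
      simp only [conjChar_apply] at h3
      rw [show (ψ : A → ℂ) ⟨g * a * g⁻¹, hAn.conj_mem a a.2 g⟩ = (ψ : A → ℂ) a from congrFun h2 a,
        ← cj_apply A g l a] at h3
      by_contra hne0
      exact hg (Units.ext (mul_right_cancel₀ hne0 h3))
    -- the norm on `D'`
    have hnorm : classInner (fun n : D' => (ψ : A → ℂ) n) (fun n : D' => (ψ : A → ℂ) n) =
        (D'.index : ℂ) := by
      have h := classInner_irr_self ψ.2
      rw [classInner, ← Finset.sum_subset (Finset.subset_univ (Finset.univ.filter (· ∈ D')))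
        (fun a _ ha => by rw [hvan a (by simpa using ha), zero_mul]),
        Finset.sum_subtype (p := (· ∈ D')) _ (fun a => by simp) _] at h
      have hc : (Nat.card A : ℂ) = Nat.card D' * D'.index := by
        rw [← Nat.cast_mul, D'.card_mul_index]
      rw [hc] at h
      rw [classInner]
      have hi : (D'.index : ℂ) ≠ 0 := Nat.cast_ne_zero.2 Subgroup.index_ne_zero_of_finite
      have hd' := card_ne_zero_complex D'
      field_simp at h ⊢
      linear_combination h
    obtain ⟨θ, hθ⟩ := exists_constituent (G := D')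
      (isCharacter_restrict hψc D') (fun h => by
        have h' := congrFun h 1
        simp only [Subgroup.coe_one, Pi.zero_apply] at h'
        exact irr_degree_ne_zero ψ.2 h')
    obtain ⟨e, he⟩ := classInner_natCast (isCharacter_restrict hψc D') (isCharacter_of_isIrr θ.2)
    have hres := clifford D' ψ.2 θ.2 hθ
    have hdeg := clifford_degree D' ψ.2 θ.2 hθ
    rw [he] at hres hdeg
    rw [apply_one_eq_charDegree hψc, hψp,
      apply_one_eq_charDegree (isCharacter_of_isIrr θ.2)] at hdeg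
    have hdeg' : p = e * (inertia D' (θ : D' → ℂ)).index * charDegree (θ : D' → ℂ) := by
      exact_mod_cast hdeg
    -- the norm is `e ^ 2 t`
    have ht : (D'.index : ℂ) = (e : ℂ) * e * ((inertia D' (θ : D' → ℂ)).index : ℕ) := by
      rw [← hnorm]
      conv_lhs => arg 2; rw [hres]
      rw [classInner_conj_symm, classInner_smul_left, classInner_sum_left,
        Finset.sum_congr rfl (g := fun _ => (e : ℂ)) fun φ hφ => ?_, Finset.sum_const,
        card_orbit D' _ (irr_degree_ne_zero θ.2), nsmul_eq_mul]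
      · simp only [map_mul, map_natCast]
        ring
      · obtain ⟨a, rfl⟩ := (mem_orbit D').1 hφ
        rw [classInner_conj_symm,
          ← conjChar_restrict D' (isClassFunction_of_isIrr ψ.2) a, classInner_conjChar, he,
          map_natCast]
    have ht' : D'.index = e * e * (inertia D' (θ : D' → ℂ)).index := by exact_mod_cast ht
    have hi1 : D'.index ≠ 1 := fun h => hne (Subgroup.index_eq_one.1 h)
    rcases (Nat.dvd_prime hp).1 (Dvd.intro_left _ hdeg'.symm) with h | h
    · refine ⟨θ, e, by rw [apply_one_eq_charDegree (isCharacter_of_isIrr θ.2), h, Nat.cast_one],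
        hres, ?_⟩
      rw [h, mul_one] at hdeg'
      rcases (Nat.dvd_prime hp).1 (Dvd.intro _ hdeg'.symm) with h2 | h2
      · refine Or.inr ?_
        rw [ht', h2, one_mul, one_mul]
        rw [h2, one_mul] at hdeg'
        exact hdeg'.symm
      · rw [h2] at hdeg'
        have h3 : (inertia D' (θ : D' → ℂ)).index = 1 :=
          Nat.eq_of_mul_eq_mul_left hp.pos (hdeg'.symm.trans (mul_one p).symm)
        exact Or.inl ⟨by rw [ht', h2, h3, mul_one, sq], h2, Subgroup.index_eq_one.1 h3⟩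
    · exfalso
      rw [h] at hdeg'
      have h3 := Nat.eq_of_mul_eq_mul_right hp.pos ((one_mul p).trans hdeg')
      have h4 := Nat.eq_one_of_mul_eq_one_right h3.symm
      have h5 := Nat.eq_one_of_mul_eq_one_left h3.symm
      rw [h4, h5] at ht'
      exact hi1 ht'
  -- a nonlinear character of `A`
  obtain ⟨ψ₀, hψ₀⟩ : ∃ ψ : IrrCharacter A, charDegree (ψ : A → ℂ) ≠ 1 := by
    by_contra hc
    push Not at hc
    exact hab ((Cfsg.Agent.S0187.result (G := A)).2 fun ψ => by
      rw [apply_one_eq_charDegree (isCharacter_of_isIrr ψ.2), hc ψ, Nat.cast_one])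
  have hsep : ∀ x : A, (∀ ψ : IrrCharacter A, charDegree (ψ : A → ℂ) ≠ 1 →
      (ψ : A → ℂ) x = (ψ : A → ℂ) 1) → (∀ k : A →* ℂˣ, k x = 1) → x = 1 := by
    intro x hx hlin
    refine eq_one_of_forall_irr fun ψ => ?_
    by_cases h : charDegree (ψ : A → ℂ) = 1
    · have h1 : (ψ : A → ℂ) 1 = 1 := by
        rw [apply_one_eq_charDegree (isCharacter_of_isIrr ψ.2), h, Nat.cast_one]
      obtain ⟨k, hk⟩ := exists_hom_of_degree_one (isCharacter_of_isIrr ψ.2) h1
      rw [hk, h1, hlin k, Units.val_one]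
    · exact hx ψ h
  have hlinD : ∀ (θ : IrrCharacter D'), (θ : D' → ℂ) 1 = 1 →
      ∀ φ ∈ orbit D' (θ : D' → ℂ), ∀ x y : D', φ (x * y * x⁻¹ * y⁻¹) = 1 := by
    intro θ hθ1 φ hφ x y
    obtain ⟨a, rfl⟩ := (mem_orbit D').1 hφ
    obtain ⟨k, hk⟩ := exists_hom_of_degree_one
      (isCharacter_conjChar D' a (isCharacter_of_isIrr θ.2))
      (by rw [conjChar_apply_one, hθ1])
    rw [hk]
    simp only [map_mul, map_inv]
    rw [mul_right_comm (k x), mul_inv_cancel, one_mul, mul_inv_cancel, Units.val_one]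
  have hDab : ∀ x ∈ D', ∀ y ∈ D', x * y = y * x := by
    intro x hx y hy
    have h := hsep (x * y * x⁻¹ * y⁻¹) (fun ψ hψ => by
      obtain ⟨θ, e, hθ1, hres, -⟩ := hkey ψ hψ
      have h1 := congrFun hres (⟨x, hx⟩ * ⟨y, hy⟩ * ⟨x, hx⟩⁻¹ * ⟨y, hy⟩⁻¹ : D')
      have h2 := congrFun hres 1
      simp only [Pi.smul_apply, Finset.sum_apply, smul_eq_mul] at h1 h2
      rw [show (x * y * x⁻¹ * y⁻¹ : A) =
        ((⟨x, hx⟩ * ⟨y, hy⟩ * ⟨x, hx⟩⁻¹ * ⟨y, hy⟩⁻¹ : D') : A) from rfl, h1,
        show (ψ : A → ℂ) 1 = (ψ : A → ℂ) ((1 : D') : A) from rfl, h2]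
      congr 1
      refine Finset.sum_congr rfl fun φ hφ => ?_
      rw [hlinD θ hθ1 φ hφ]
      obtain ⟨a, rfl⟩ := (mem_orbit D').1 hφ
      rw [conjChar_apply_one, hθ1]) (fun k => by
      simp only [map_mul, map_inv]
      rw [mul_right_comm (k x), mul_inv_cancel, one_mul, mul_inv_cancel])
    calc x * y = x * y * x⁻¹ * y⁻¹ * (y * x) := by group
      _ = y * x := by rw [h, one_mul]
  have hidxD : D.index = D'.index * p := by
    rw [hD', ← hAp, ← Subgroup.relIndex_mul_index hDA]; rfl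
  obtain ⟨θ₀, e₀, -, -, hcase⟩ := hkey ψ₀ hψ₀
  by_cases hDp : D'.index = p
  · refine ⟨D, hDn, fun a ha b hb => congrArg Subtype.val (hDab ⟨a, hDA ha⟩
      (Subgroup.mem_subgroupOf.2 ha) ⟨b, hDA hb⟩ (Subgroup.mem_subgroupOf.2 hb)), ?_⟩
    rw [hidxD, hDp, sq]
  -- `D` is central in `A`
  have hD2 : D'.index = p ^ 2 := (hcase.resolve_right hDp).1
  have hDcen : ∀ x ∈ D', ∀ a : A, a * x = x * a := by
    intro x hx a
    have hconj : a * x * a⁻¹ ∈ D' := (inferInstance : D'.Normal).conj_mem x hx a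
    have h := hsep (a * x * a⁻¹ * x⁻¹) (fun ψ hψ => by
      obtain ⟨θ, e, hθ1, hres, hc⟩ := hkey ψ hψ
      obtain ⟨-, rfl, hinv⟩ := hc.resolve_right hDp
      obtain ⟨k, hk⟩ := exists_hom_of_degree_one (isCharacter_of_isIrr θ.2) hθ1
      have horb : orbit D' (θ : D' → ℂ) = {(θ : D' → ℂ)} := by
        ext φ
        rw [mem_orbit, Finset.mem_singleton]
        constructor
        · rintro ⟨b, rfl⟩
          exact (mem_inertia D').1 (by rw [hinv]; trivial)
        · rintro rfl
          exact ⟨1, conjChar_one D' _⟩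
      rw [horb, Finset.sum_singleton] at hres
      have hain : a ∈ inertia D' (θ : D' → ℂ) := by rw [hinv]; trivial
      have ha := congrFun ((mem_inertia D').1 hain) ⟨x, hx⟩
      rw [conjChar_apply, hk, hk] at ha
      have h1 := congrFun hres (⟨a * x * a⁻¹, hconj⟩ * ⟨x, hx⟩⁻¹ : D')
      have h2 := congrFun hres 1
      simp only [Pi.smul_apply, smul_eq_mul] at h1 h2
      rw [show (a * x * a⁻¹ * x⁻¹ : A) = ((⟨a * x * a⁻¹, hconj⟩ * ⟨x, hx⟩⁻¹ : D') : A) from rfl,
        h1, show (ψ : A → ℂ) 1 = (ψ : A → ℂ) ((1 : D') : A) from rfl, h2, hk, hk, map_mul,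
        map_inv, Units.ext ha, mul_inv_cancel, map_one]) (fun k => by
      simp only [map_mul, map_inv]
      rw [mul_right_comm (k a), mul_inv_cancel, one_mul, mul_inv_cancel])
    calc a * x = a * x * a⁻¹ * x⁻¹ * (x * a) := by group
      _ = x * a := by rw [h, one_mul]
  -- a central element of order `p` in `A ⧸ D`
  have hGD : Nat.card (G ⧸ D) = p ^ 3 := by
    rw [← Subgroup.index_eq_card, hidxD, hD2, ← pow_succ]
  have hpG : IsPGroup p (G ⧸ D) := IsPGroup.of_card hGD
  set π := QuotientGroup.mk' D with hπ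
  haveI hMn : (A.map π).Normal := hAn.map π (QuotientGroup.mk'_surjective D)
  haveI : Group.IsNilpotent (G ⧸ D) := hpG.isNilpotent
  have hMne : A.map π ≠ ⊥ := by
    intro h
    rw [Subgroup.map_eq_bot_iff, QuotientGroup.ker_mk'] at h
    refine hne ?_
    rw [hD', le_antisymm hDA h, Subgroup.subgroupOf_self]
  have hcn := Cfsg.Agent.S0065.inf_center_ne_bot (G := G ⧸ D) hMn hMne
  set W := A.map π ⊓ Subgroup.center (G ⧸ D) with hW
  obtain ⟨z, hz⟩ : ∃ z : W, orderOf z = p := by
    refine exists_prime_orderOf_dvd_card' p ?_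
    obtain ⟨j, hj⟩ := IsPGroup.iff_card.1 (hpG.to_subgroup W)
    rw [hj]
    refine dvd_pow_self p fun h0 => hcn (Subgroup.card_eq_one.1 ?_)
    rw [hj, h0, pow_zero]
  obtain ⟨hzA, hzc⟩ := Subgroup.mem_inf.1 z.2
  set Zz := Subgroup.zpowers (z : G ⧸ D) with hZz
  haveI hZn : Zz.Normal := ⟨fun n hn g => by
    have hc : n ∈ Subgroup.center (G ⧸ D) := Subgroup.zpowers_le.2 hzc hn
    rwa [Subgroup.mem_center_iff.1 hc g, mul_inv_cancel_right]⟩
  refine ⟨Zz.comap π, inferInstance, ?_, ?_⟩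
  · obtain ⟨a, ha, hae⟩ := Subgroup.mem_map.1 hzA
    have hform : ∀ b ∈ Zz.comap π, ∃ i : ℤ, ∃ d ∈ D, b = a ^ i * d := by
      intro b hb
      obtain ⟨i, hi⟩ := Subgroup.mem_zpowers_iff.1 (Subgroup.mem_comap.1 hb)
      refine ⟨i, (a ^ i)⁻¹ * b, ?_, by group⟩
      rw [← QuotientGroup.eq]
      rw [← hae, ← map_zpow] at hi
      exact hi
    have hca : ∀ d ∈ D, ∀ i : ℤ, Commute (a ^ i) d := by
      intro d hd i
      have h := hDcen ⟨d, hDA hd⟩ (Subgroup.mem_subgroupOf.2 hd) ⟨a, ha⟩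
      exact Commute.zpow_left (congrArg Subtype.val h) i
    have hdd : ∀ d ∈ D, ∀ d' ∈ D, Commute d d' := fun d hd d' hd' =>
      congrArg Subtype.val (hDab ⟨d, hDA hd⟩ (Subgroup.mem_subgroupOf.2 hd) ⟨d', hDA hd'⟩
        (Subgroup.mem_subgroupOf.2 hd'))
    intro b hb b' hb'
    obtain ⟨i, d, hd, rfl⟩ := hform b hb
    obtain ⟨j, d', hd', rfl⟩ := hform b' hb'
    exact (((Commute.refl a).zpow_zpow i j).mul_right (hca d' hd' i)).mul_left
      (((hca d hd j).symm).mul_right (hdd d hd d' hd'))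
  · rw [Subgroup.index_comap_of_surjective _ (QuotientGroup.mk'_surjective D)]
    have h := Zz.card_mul_index
    rw [hZz, Nat.card_zpowers, Subgroup.orderOf_coe, hz, hGD, pow_succ' p 2] at h
    exact Nat.eq_of_mul_eq_mul_left hp.pos h

/-- From an abelian normal subgroup of index `p ^ 2`. -/
theorem center_or_abelian (hp : p.Prime) (hd : Deg p G) (hG : ¬ ∀ a b : G, a * b = b * a)
    (B : Subgroup G) [B.Normal] (hBab : ∀ a ∈ B, ∀ b ∈ B, a * b = b * a) (hB : B.index = p ^ 2) :
    (∃ A : Subgroup G, A.Normal ∧ (∀ a ∈ A, ∀ b ∈ A, a * b = b * a) ∧ A.index = p) ∨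
      (Subgroup.center G).index = p ^ 3 := by
  classical
  haveI := Fact.mk hp
  have hcomm : ∀ x y : G ⧸ B, x * y = y * x :=
    (IsPGroup.isMulCommutative_of_card_eq_prime_sq (G := G ⧸ B) (p := p) (by rw [← Subgroup.index_eq_card, hB])).is_comm.comm
  have hN : ∀ T : Subgroup G, B ≤ T → T.Normal := fun T hT => ⟨fun x hx g => by
    have h : ((g * x * g⁻¹ : G) : G ⧸ B) = (x : G ⧸ B) := by
      rw [QuotientGroup.mk_mul, QuotientGroup.mk_mul, QuotientGroup.mk_inv, hcomm (g : G ⧸ B),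
        mul_inv_cancel_right]
    rw [QuotientGroup.eq] at h
    have h2 := mul_mem hx (inv_mem (hT h))
    simpa [mul_assoc] using h2⟩
  have habB : ∀ a b : B, a * b = b * a := fun a b => Subtype.ext (hBab a a.2 b b.2)
  have hfixB : ∀ (θ : B →* ℂˣ), ∀ b ∈ B, cj B b θ = θ := fun θ b hb => MonoidHom.ext fun x => by
    rw [cj_apply]
    exact congrArg θ (Subtype.ext (by
      show b * x * b⁻¹ = x
      rw [hBab b hb x x.2, mul_inv_cancel_right]))
  have hBS : ∀ θ, B ≤ St B θ := fun θ b hb => (mem_St B).2 (hfixB θ b hb)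
  have hswap : ∀ (θ : B →* ℂˣ) (g h : G), cj B (g * h) θ = cj B (h * g) θ := by
    intro θ g h
    have hb : (h * g)⁻¹ * (g * h) ∈ B := by
      rw [← QuotientGroup.eq, QuotientGroup.mk_mul, QuotientGroup.mk_mul]
      exact hcomm _ _
    rw [show g * h = h * g * ((h * g)⁻¹ * (g * h)) by group, cj_mul, hfixB _ _ hb]
  by_cases hshare : ∃ Ns : Subgroup G, B ≤ Ns ∧ Ns.index = p ∧ ∀ θ, Ns ≤ St B θ
  · obtain ⟨Ns, hBN, hNp, hfix⟩ := hshare
    refine Or.inl ⟨Ns, hN Ns hBN, ?_, hNp⟩
    have hrel : Nat.card (Ns ⧸ B.subgroupOf Ns) = p := by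
      have h := Subgroup.relIndex_mul_index hBN
      rw [hNp, hB, sq] at h
      exact Nat.eq_of_mul_eq_mul_right hp.pos h
    haveI : IsCyclic (Ns ⧸ B.subgroupOf Ns) := isCyclic_of_prime_card hrel
    have hc : (QuotientGroup.mk' (B.subgroupOf Ns)).ker ≤ Subgroup.center Ns := by
      rw [QuotientGroup.ker_mk']
      intro b hb
      refine Subgroup.mem_center_iff.2 fun g => ?_
      have hbB : (b : G) ∈ B := hb
      have h := eq_of_forall_hom habB
        (x := ⟨(g : G) * b * (g : G)⁻¹, (inferInstance : B.Normal).conj_mem _ hbB _⟩)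
        (y := ⟨b, hbB⟩) fun θ => by
          rw [← cj_apply B (g : G) θ ⟨b, hbB⟩, (mem_St B).1 (hfix θ g.2)]
      have h' : (g : G) * b * (g : G)⁻¹ = b := congrArg Subtype.val h
      exact Subtype.ext (mul_inv_eq_iff_eq_mul.1 h')
    intro a ha b hb
    exact congrArg Subtype.val (commutative_of_cyclic_center_quotient (G' := Ns ⧸ B.subgroupOf Ns)
      (QuotientGroup.mk' _) hc ⟨a, ha⟩ ⟨b, hb⟩)
  right
  push Not at hshare
  have hSp : ∀ θ, St B θ ≠ ⊤ → (St B θ).index = p := fun θ h =>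
    ((Nat.dvd_prime hp).1 (index_St_dvd hd B θ)).resolve_left fun e => h (Subgroup.index_eq_one.1 e)
  have heq : ∀ S T : Subgroup G, S ≤ T → S.index = p → T.index = p → S = T := fun S T hle hS hT =>
    Subgroup.eq_of_le_of_card_ge hle (le_of_eq (Nat.eq_of_mul_eq_mul_right hp.pos
      (by conv_lhs => rw [← hT, T.card_mul_index, ← S.card_mul_index, hS])))
  set c : (B →* ℂˣ) → G → (B →* ℂˣ) := fun θ g => cj B g θ * θ⁻¹ with hcdef
  have hpair : ∀ θ θ', St B θ ≠ ⊤ → St B θ' ≠ ⊤ → St B θ ≠ St B θ' →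
      (∀ g u, cj B u (c θ g) = c θ g) ∧ (∀ g, ∃ t, c θ g = (c θ' t)⁻¹) := by
    intro θ θ' h h' hne
    set S := St B θ with hS
    set T := St B (θ * θ') with hT
    haveI : S.Normal := hN _ (hBS θ)
    have hTS : ¬ T ≤ S := by
      intro hle
      have hTp : T.index = p := ((Nat.dvd_prime hp).1 (index_St_dvd hd B _)).resolve_left fun e => by
        refine h (top_le_iff.1 ?_)
        rw [← Subgroup.index_eq_one.1 e]
        exact hle
      have hTS' : T = S := heq T S hle hTp (hSp θ h)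
      refine hne (heq _ _ (fun g hg => ?_) (hSp θ h) (hSp θ' h'))
      have h1 : g ∈ T := hTS' ▸ hg
      rw [hT, mem_St, cj_prod, (mem_St B).1 hg] at h1
      exact (mem_St B).2 (mul_left_cancel h1)
    have hsup : S ⊔ T = ⊤ := by
      rcases (Nat.dvd_prime hp).1 (hSp θ h ▸ Subgroup.index_dvd_of_le (le_sup_left : S ≤ S ⊔ T))
        with e | e
      · exact Subgroup.index_eq_one.1 e
      · refine absurd ?_ hTS
        rw [heq S (S ⊔ T) le_sup_left (hSp θ h) e]
        exact le_sup_right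
    have hform : ∀ g, ∃ t ∈ T, c θ g = c θ t ∧ c θ t = (c θ' t)⁻¹ := by
      intro g
      obtain ⟨s, hs, t, ht, rfl⟩ := Subgroup.mem_sup_of_normal_left.1 (hsup ▸ Subgroup.mem_top g)
      refine ⟨t, ht, by simp only [hcdef, cj_mul, (mem_St B).1 hs], ?_⟩
      have h1 := (mem_St B).1 ht
      rw [cj_prod] at h1
      refine MonoidHom.ext fun b => ?_
      have h1 := DFunLike.congr_fun h1 b
      simp only [hcdef, MonoidHom.mul_apply, MonoidHom.inv_apply] at h1 ⊢
      rw [mul_inv_rev, inv_inv, mul_inv_eq_iff_eq_mul, mul_comm (θ' b), mul_assoc, eq_inv_mul_iff_mul_eq, mul_comm, h1,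
        mul_comm]
    refine ⟨fun g u => ?_, fun g => ?_⟩
    · obtain ⟨t, ht, hgt, htt⟩ := hform g
      have hfix1 : ∀ (φ : B →* ℂˣ) (v : G), v ∈ St B φ → cj B v (c φ t) = c φ t := by
        intro φ v hv
        simp only [hcdef]
        rw [cj_prod, cj_inv, (mem_St B).1 hv, ← cj_mul, hswap φ t v, cj_mul, (mem_St B).1 hv]
      have hsup' : S ⊔ St B θ' = ⊤ := by
        rcases (Nat.dvd_prime hp).1
          (hSp θ h ▸ Subgroup.index_dvd_of_le (le_sup_left : S ≤ S ⊔ St B θ')) with e | e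
        · exact Subgroup.index_eq_one.1 e
        · refine absurd (heq (St B θ') S ?_ (hSp θ' h') (hSp θ h)).symm hne
          rw [heq S (S ⊔ St B θ') le_sup_left (hSp θ h) e]
          exact le_sup_right
      obtain ⟨s, hs, v, hv, rfl⟩ := Subgroup.mem_sup_of_normal_left.1 (hsup' ▸ Subgroup.mem_top u)
      rw [hgt, cj_mul, hfix1 θ s hs, htt, cj_inv, hfix1 θ' v hv]
    · obtain ⟨t, -, hgt, htt⟩ := hform g
      exact ⟨t, hgt.trans htt⟩
  -- two characters with different stabilisers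
  obtain ⟨θ₁, h₁⟩ : ∃ θ, St B θ ≠ ⊤ := by
    by_contra hc
    push Not at hc
    obtain ⟨x, hx⟩ : ∃ x, x ∉ B := by
      by_contra hc'
      push Not at hc'
      rw [Subgroup.eq_top_iff' B |>.2 hc', Subgroup.index_top] at hB
      exact hp.ne_one ((pow_eq_one_iff.1 hB.symm).resolve_right two_ne_zero)
    obtain ⟨y, hy⟩ : ∃ y : G ⧸ B, orderOf y = p :=
      exists_prime_orderOf_dvd_card' p (by rw [← Subgroup.index_eq_card, hB]; exact dvd_pow_self p two_ne_zero)
    obtain ⟨θ, hθ⟩ := hshare ((Subgroup.zpowers y).comap (QuotientGroup.mk' B))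
      (fun b hb => by rw [Subgroup.mem_comap, QuotientGroup.mk'_apply,
        (QuotientGroup.eq_one_iff b).2 hb]; exact one_mem _)
      (by
        rw [Subgroup.index_comap_of_surjective _ (QuotientGroup.mk'_surjective B)]
        have h := (Subgroup.zpowers y).card_mul_index
        rw [Nat.card_zpowers, hy, ← Subgroup.index_eq_card, hB, sq] at h
        exact Nat.eq_of_mul_eq_mul_left hp.pos h)
    exact hθ (by rw [hc θ]; exact le_top)
  obtain ⟨θ₂, h₂⟩ := hshare (St B θ₁) (hBS θ₁) (hSp θ₁ h₁)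
  have h₂t : St B θ₂ ≠ ⊤ := fun e => h₂ (e ▸ le_top)
  have hne₁₂ : St B θ₁ ≠ St B θ₂ := fun e => h₂ (le_of_eq e)
  haveI hS1n : (St B θ₁).Normal := hN _ (hBS θ₁)
  have hhom : ∀ g h, c θ₁ (g * h) = c θ₁ g * c θ₁ h := by
    intro g h
    have hf := (hpair θ₁ θ₂ h₁ h₂t hne₁₂).1 g h
    simp only [hcdef, cj_mul, cj_prod, cj_inv] at hf ⊢
    refine MonoidHom.ext fun b => ?_
    have hf := DFunLike.congr_fun hf b
    simp only [MonoidHom.mul_apply, MonoidHom.inv_apply] at hf ⊢
    rw [mul_inv_eq_iff_eq_mul] at hf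
    rw [hf]
    ac_rfl
  obtain ⟨x, hx⟩ : ∃ x, x ∉ St B θ₁ := by
    by_contra hc
    push Not at hc
    exact h₁ ((Subgroup.eq_top_iff' _).2 hc)
  let Φ : G →* (B →* ℂˣ) := MonoidHom.mk' (c θ₁) hhom
  set μ := Φ x with hμ
  have hμp : μ ^ p = 1 := by
    rw [hμ]
    refine (map_pow Φ x p).symm.trans ?_
    have h := Subgroup.pow_index_mem (St B θ₁) x
    rw [hSp θ₁ h₁] at h
    show c θ₁ (x ^ p) = 1
    simp only [hcdef, (mem_St B).1 h]
    exact MonoidHom.ext fun b => mul_inv_cancel _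
  have hker : ∀ b : B, μ b = 1 → ∀ g, c θ₁ g b = 1 := by
    intro b hb g
    let L : G →* ℂˣ := (MonoidHom.eval b).comp Φ
    have hle : St B θ₁ ≤ L.ker := fun s hs => by
      show c θ₁ s b = 1
      simp only [hcdef, (mem_St B).1 hs]
      exact mul_inv_cancel _
    have htop : L.ker = ⊤ := by
      rcases (Nat.dvd_prime hp).1 (hSp θ₁ h₁ ▸ Subgroup.index_dvd_of_le hle) with e | e
      · exact Subgroup.index_eq_one.1 e
      · refine absurd ?_ hx
        rw [heq _ _ hle (hSp θ₁ h₁) e]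
        exact hb
    exact (show g ∈ L.ker from htop ▸ Subgroup.mem_top g)
  have hkerall : ∀ b : B, μ b = 1 → ∀ θ g, c θ g b = 1 := by
    intro b hb θ g
    by_cases hθ : St B θ = ⊤
    · simp only [hcdef, (mem_St B).1 (hθ ▸ Subgroup.mem_top g)]
      exact mul_inv_cancel _
    have hfrom : ∀ θ', St B θ' ≠ ⊤ → St B θ ≠ St B θ' → (∀ t, c θ' t b = 1) → c θ g b = 1 := by
      intro θ' ht hne h0
      obtain ⟨t, ht'⟩ := (hpair θ θ' hθ ht hne).2 g
      rw [ht', MonoidHom.inv_apply, h0, inv_one]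
    by_cases he : St B θ = St B θ₁
    · refine hfrom θ₂ h₂t (he ▸ hne₁₂) fun t => ?_
      obtain ⟨s, hs⟩ := (hpair θ₂ θ₁ h₂t h₁ hne₁₂.symm).2 t
      rw [hs, MonoidHom.inv_apply, hker b hb, inv_one]
    · exact hfrom θ₁ h₁ he (hker b hb)
  set K := μ.ker.map B.subtype with hK
  have hKZ : K ≤ Subgroup.center G := by
    rintro _ ⟨b, hb, rfl⟩
    refine Subgroup.mem_center_iff.2 fun g => ?_
    have h := eq_of_forall_hom habB
      (x := ⟨g * b * g⁻¹, (inferInstance : B.Normal).conj_mem _ b.2 g⟩) (y := b) fun θ => by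
        have h1 := hkerall b hb θ g
        simp only [hcdef, MonoidHom.mul_apply, MonoidHom.inv_apply, mul_inv_eq_one] at h1
        rw [← cj_apply B g θ b, h1]
    exact mul_inv_eq_iff_eq_mul.1 (congrArg Subtype.val h)
  have hKi : K.index ∣ p ^ 3 := by
    rw [hK, Subgroup.index_map, B.ker_subtype, sup_bot_eq, B.range_subtype, hB, Subgroup.index_ker,
      pow_succ' p 2]
    refine mul_dvd_mul_right ?_ _
    have hle : μ.range ≤ rootsOfUnity p ℂ := by
      rintro _ ⟨b, rfl⟩
      rw [mem_rootsOfUnity, ← MonoidHom.pow_apply, hμp, MonoidHom.one_apply]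
    have hc : Nat.card (rootsOfUnity p ℂ) = p := by
      haveI : NeZero p := ⟨hp.ne_zero⟩
      exact Complex.card_rootsOfUnity p
    exact hc ▸ Subgroup.card_dvd_of_le hle
  obtain ⟨j, hj, hjZ⟩ := (Nat.dvd_prime_pow hp).1 ((Subgroup.index_dvd_of_le hKZ).trans hKi)
  rcases Nat.lt_or_ge j 3 with hlt | hge
  swap
  · rw [hjZ, show j = 3 by omega]
  exfalso
  -- a small central quotient gives an abelian subgroup of index `p`
  have hcyc : ¬ j ≤ 1 := fun hle => hG fun a b => by
    haveI : IsCyclic (G ⧸ Subgroup.center G) := by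
      rcases Nat.lt_or_ge j 1 with h0 | h0
      · haveI : Subsingleton (G ⧸ Subgroup.center G) :=
          (Nat.card_eq_one_iff_unique.1 (by
            rw [← Subgroup.index_eq_card, hjZ, show j = 0 by omega, pow_zero])).1
        infer_instance
      · exact isCyclic_of_prime_card (p := p) (by
          rw [← Subgroup.index_eq_card, hjZ, show j = 1 by omega, pow_one])
    exact commutative_of_cyclic_center_quotient (QuotientGroup.mk' (Subgroup.center G))
      (by rw [QuotientGroup.ker_mk']) a b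
  have hj2 : j = 2 := by omega
  have hZB : Subgroup.center G ≤ B := by
    by_contra hnle
    obtain ⟨z, hz, hzB⟩ := SetLike.not_le_iff_exists.1 hnle
    -- `B ⟨z⟩` is centralised
    obtain ⟨θ, hθ⟩ : ∃ θ : B →* ℂˣ, ¬ (B ⊔ Subgroup.zpowers z) ≤ St B θ := by
      refine hshare _ le_sup_left ?_
      have hd1 : (B ⊔ Subgroup.zpowers z).index ∣ p ^ 2 :=
        hB ▸ Subgroup.index_dvd_of_le le_sup_left
      obtain ⟨i, hi, hiz⟩ := (Nat.dvd_prime_pow hp).1 hd1
      interval_cases i
      · exfalso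
        rw [pow_zero, Subgroup.index_eq_one] at hiz
        apply h₁
        rw [eq_top_iff, ← hiz]
        exact sup_le (hBS θ₁) (Subgroup.zpowers_le.2 ((mem_St B).2 (MonoidHom.ext fun b => by
          rw [cj_apply]
          exact congrArg θ₁ (Subtype.ext (by
            show z * b * z⁻¹ = b
            rw [← Subgroup.mem_center_iff.1 hz b, mul_inv_cancel_right])))))
      · rw [hiz, pow_one]
      · exfalso
        refine hzB ?_
        have e := Subgroup.eq_of_le_of_card_ge (le_sup_left : B ≤ B ⊔ Subgroup.zpowers z)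
          (le_of_eq (Nat.eq_of_mul_eq_mul_right (show 0 < p ^ 2 from pow_pos hp.pos 2) (by
            conv_lhs => rw [← hiz, Subgroup.card_mul_index, ← B.card_mul_index, hB])))
        rw [e]
        exact Subgroup.mem_sup_right (Subgroup.mem_zpowers z)
    exact hθ (sup_le (hBS θ) (Subgroup.zpowers_le.2 ((mem_St B).2 (MonoidHom.ext fun b => by
      rw [cj_apply]
      exact congrArg θ (Subtype.ext (by
        show z * b * z⁻¹ = b
        rw [← Subgroup.mem_center_iff.1 hz b, mul_inv_cancel_right]))))))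
  have hBc : B = Subgroup.center G := (Subgroup.eq_of_le_of_card_ge hZB (le_of_eq
    (Nat.eq_of_mul_eq_mul_right (show 0 < p ^ 2 from pow_pos hp.pos 2) (by
      conv_lhs => rw [← hB, B.card_mul_index]
      rw [← hj2, ← hjZ, Subgroup.card_mul_index])))).symm
  refine h₁ (eq_top_iff.2 fun g _ => (mem_St B).2 (MonoidHom.ext fun b => ?_))
  rw [cj_apply]
  exact congrArg θ₁ (Subtype.ext (by
    show g * b * g⁻¹ = b
    rw [Subgroup.mem_center_iff.1 (hBc ▸ b.2) g, mul_inv_cancel_right]))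

end Cfsg.Agent.Lib.Char.TwoDegPrime
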