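import Cfsg.Agent.Lib.Char.Induced
import Cfsg.Agent.Lib.Char.Linear
import Cfsg.Agent.Lib.Char.Degree
import Cfsg.Agent.Lib.Char.Scalar
import Cfsg.Agent.Lib.Block.PParts
import Mathlib.GroupTheory.Transfer
import Mathlib.GroupTheory.Sylow
import Mathlib.GroupTheory.FiniteAbelian.Duality

/-!
# Sylow subgroups all of whose non-identity elements have the same centraliser
-/

set_option autoImplicit false
set_option linter.unusedSectionVars false

namespace Cfsg.Agent.Lib.Char.UC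

open Cfsg Cfsg.Agent.Lib

universe u

variable {G : Type u} [Group G] [Finite G] {p : ℕ} [Fact p.Prime]

/-- Every non-identity element of the Sylow subgroup has the centraliser of the subgroup. -/
def Star (P : Sylow p G) : Prop :=
  ∀ x ∈ (P : Subgroup G), x ≠ 1 → Subgroup.centralizer ({x} : Set G) =
    Subgroup.centralizer ((P : Subgroup G) : Set G)

variable {P : Sylow p G}

/-- The centraliser of the Sylow subgroup. -/
abbrev C (P : Sylow p G) : Subgroup G := Subgroup.centralizer ((P : Subgroup G) : Set G)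

/-- The normaliser of the Sylow subgroup. -/
abbrev N (P : Sylow p G) : Subgroup G := Subgroup.normalizer ((P : Subgroup G) : Set G)

theorem le_C (hst : Star P) : (P : Subgroup G) ≤ C P := by
  intro x hx
  by_cases h : x = 1
  · rw [h]; exact one_mem _
  · rw [C, ← hst x hx h]
    exact Subgroup.mem_centralizer_singleton_iff.2 rfl

theorem C_le_N (P : Sylow p G) : C P ≤ N P := Subgroup.centralizer_le_normalizer _

/-- A `p`-element of the centraliser lies in the Sylow subgroup. -/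
theorem mem_of_pElem {x : G} (hx : Block.IsPElem p x) (hC : x ∈ C P) : x ∈ (P : Subgroup G) := by
  have hz : Subgroup.zpowers x ≤ Subgroup.normalizer ((P : Subgroup G) : Set G) :=
    Subgroup.zpowers_le.2 (C_le_N P hC)
  have hsup : IsPGroup p ((P : Subgroup G) ⊔ Subgroup.zpowers x : Subgroup G) :=
    P.2.to_sup_of_normal_left' (Block.IsPElem.isPGroup_zpowers hx) hz
  rw [← P.3 hsup le_sup_left]
  exact le_sup_right (a := (P : Subgroup G)) (Subgroup.mem_zpowers x)

theorem conj_mem_C {g c : G} (hg : g ∈ N P) (hc : c ∈ C P) : g⁻¹ * c * g ∈ C P := by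
  refine Subgroup.mem_centralizer_iff.2 fun y hy => ?_
  have hy' : g * y * g⁻¹ ∈ (P : Subgroup G) := (Subgroup.mem_normalizer_iff.1 hg y).1 hy
  have := Subgroup.mem_centralizer_iff.1 hc _ hy'
  calc y * (g⁻¹ * c * g) = g⁻¹ * (g * y * g⁻¹ * c) * g := by group
    _ = g⁻¹ * c * g * y := by rw [this]; group

/-- Elements outside the normaliser move `p`-singular elements out of the centraliser. -/
theorem mem_N_of_conj (hst : Star P) {g : G} {c : G} (hc : c ∈ C P) (hsing : p ∣ orderOf c)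
    (hm : g⁻¹ * c * g ∈ C P) : g ∈ N P := by
  obtain ⟨x, y, hxy, hcomm, hx, hy⟩ := Block.exists_isPPart (p := p) c
  obtain ⟨hxz, -⟩ := Block.exists_pow_of_parts hxy hcomm hx hy
  have hx1 : x ≠ 1 := by
    intro h
    rw [h, one_mul] at hxy
    exact hy (hxy ▸ hsing)
  have hxP : x ∈ (P : Subgroup G) := mem_of_pElem hx ((Subgroup.zpowers_le.2 hc) hxz)
  have hx' : g⁻¹ * x * g ∈ C P := by
    obtain ⟨i, hi⟩ := hxz
    dsimp only at hi
    have e : g⁻¹ * x * g = (g⁻¹ * c * g) ^ i := by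
      rw [← hi]; simpa using (conj_zpow (a := g⁻¹) (b := c) (i := i)).symm
    rw [e]
    exact zpow_mem hm i
  have hxP' : g⁻¹ * x * g ∈ (P : Subgroup G) := by
    refine mem_of_pElem ?_ hx'
    obtain ⟨k, hk⟩ := hx
    refine ⟨k, ?_⟩
    rw [← hk, show g⁻¹ * x * g = MulAut.conj g⁻¹ x by simp, MulEquiv.orderOf_eq]
  -- `g` normalises the centraliser, hence its largest `p`-subgroup
  have e1 : C P = Subgroup.centralizer ({x} : Set G) := (hst x hxP hx1).symm
  have e2 : C P = Subgroup.centralizer ({g⁻¹ * x * g} : Set G) :=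
    (hst _ hxP' fun h => hx1 (by
      have : g⁻¹ * x * g⁻¹⁻¹ = 1 := by rwa [inv_inv]
      exact conj_eq_one_iff.1 this)).symm
  have hnorm : ∀ w : G, w ∈ C P → g * w * g⁻¹ ∈ C P := by
    intro w hw
    rw [e2, Subgroup.mem_centralizer_singleton_iff] at hw
    rw [e1, Subgroup.mem_centralizer_singleton_iff]
    calc g * w * g⁻¹ * x = g * (w * (g⁻¹ * x * g)) * g⁻¹ := by group
      _ = x * (g * w * g⁻¹) := by rw [hw]; group
  refine Subgroup.mem_normalizer_iff.2 fun w => ⟨fun hw => ?_, fun hw => ?_⟩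
  · refine mem_of_pElem ?_ (hnorm w (le_C hst hw))
    obtain ⟨k, hk⟩ := IsPGroup.iff_orderOf.1 P.2 ⟨w, hw⟩
    refine ⟨k, ?_⟩
    rw [← hk, ← Subgroup.orderOf_coe, show g * w * g⁻¹ = MulAut.conj g w from rfl,
      MulEquiv.orderOf_eq]
  · have hwC : w ∈ C P := by
      have h2 : g * w * g⁻¹ ∈ C P := le_C hst hw
      rw [e1, Subgroup.mem_centralizer_singleton_iff] at h2
      rw [e2, Subgroup.mem_centralizer_singleton_iff]
      calc w * (g⁻¹ * x * g) = g⁻¹ * (g * w * g⁻¹ * x) * g := by group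
        _ = g⁻¹ * x * g * w := by rw [h2]; group
    refine mem_of_pElem ?_ hwC
    obtain ⟨k, hk⟩ := IsPGroup.iff_orderOf.1 P.2 ⟨_, hw⟩
    refine ⟨k, ?_⟩
    rw [← hk, ← Subgroup.orderOf_coe]
    exact ((MulAut.conj g).orderOf_eq w).symm

/-- Conjugation of functions on the centraliser, extended by zero. -/
noncomputable def cj (P : Sylow p G) (g : G) (φ : C P → ℂ) : C P → ℂ :=
  fun c => extendByZero (C P) φ (g⁻¹ * (c : G) * g)

theorem cj_apply {g : G} (hg : g ∈ N P) (φ : C P → ℂ) (c : C P) :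
    cj P g φ c = φ ⟨g⁻¹ * (c : G) * g, conj_mem_C hg c.2⟩ :=
  extendByZero_mem (C P) φ (conj_mem_C hg c.2)

theorem cj_mul {g h : G} (hg : g ∈ N P) (hh : h ∈ N P) (φ : C P → ℂ) :
    cj P (g * h) φ = cj P g (cj P h φ) := by
  funext c
  rw [cj_apply (mul_mem hg hh), cj_apply hg, cj_apply hh]
  exact congrArg φ (Subtype.ext (by simp [mul_assoc]))

theorem cj_of_mem {g : G} (hg : g ∈ C P) {φ : C P → ℂ} (hφ : IsClassFunction (C P) φ) :
    cj P g φ = φ := by
  funext c
  rw [cj_apply (C_le_N P hg)]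
  have := hφ c (⟨g, hg⟩⁻¹)
  rw [← this]
  exact congrArg φ (Subtype.ext (by simp))

theorem cj_one_fun {g : G} (hg : g ∈ N P) : cj P g (fun _ => (1 : ℂ)) = fun _ => 1 := by
  funext c; rw [cj_apply hg]

theorem isIrr_cj {g : G} (hg : g ∈ N P) {φ : C P → ℂ} (hφ : IsIrrCharacter (C P) φ) :
    IsIrrCharacter (C P) (cj P g φ) := by
  let f : C P →* C P :=
    { toFun := fun c => ⟨g⁻¹ * (c : G) * g, conj_mem_C hg c.2⟩
      map_one' := Subtype.ext (by simp)
      map_mul' := fun a b => Subtype.ext (by simp [mul_assoc]) }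
  rw [show cj P g φ = φ ∘ f from funext fun c => cj_apply hg φ c]
  refine isIrrCharacter_comp hφ f fun c => ⟨⟨g⁻¹⁻¹ * (c : G) * g⁻¹, conj_mem_C (inv_mem hg) c.2⟩, ?_⟩
  exact Subtype.ext (by simp [f, mul_assoc])

theorem cj_sub (g : G) (φ φ' : C P → ℂ) : cj P g (φ - φ') = cj P g φ - cj P g φ' := by
  funext c
  simp only [cj, Pi.sub_apply]
  by_cases h : g⁻¹ * (c : G) * g ∈ C P
  · rw [extendByZero_mem _ _ h, extendByZero_mem _ _ h, extendByZero_mem _ _ h, Pi.sub_apply]
  · rw [extendByZero_not_mem _ _ h, extendByZero_not_mem _ _ h, extendByZero_not_mem _ _ h,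
      sub_zero]

/-- A linear character of the centraliser trivial on `p`-regular elements. -/
def InL (ξ : C P →* ℂˣ) : Prop := ∀ c : C P, ¬ p ∣ orderOf c → ξ c = 1

/-- The function attached to a homomorphism. -/
def lin (ξ : C P →* ℂˣ) : C P → ℂ := fun c => (ξ c : ℂ)

theorem eq_of_eq_on {ξ ξ' : C P →* ℂˣ} (hξ : InL (P := P) ξ) (hξ' : InL (P := P) ξ')
    (h : ∀ c : C P, (c : G) ∈ (P : Subgroup G) → ξ c = ξ' c) : ξ = ξ' := by
  refine MonoidHom.ext fun c => ?_
  obtain ⟨x, y, rfl, -, hx, hy⟩ := Block.exists_isPPart (p := p) c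
  rw [map_mul, map_mul, hξ y hy, hξ' y hy, h x (mem_of_pElem ?_ x.2)]
  obtain ⟨k, hk⟩ := hx
  exact ⟨k, by rw [Subgroup.orderOf_coe, hk]⟩

/-- A nontrivial such character is fixed only by the centraliser. -/
theorem mem_C_of_fixed (hst : Star P) {g : G} (hg : g ∈ N P) {ξ : C P →* ℂˣ} (hξ : InL (P := P) ξ)
    (h1 : ξ ≠ 1)
    (hfix : ∀ (c : C P), (c : G) ∈ (P : Subgroup G) →
      ξ ⟨g⁻¹ * (c : G) * g, conj_mem_C hg c.2⟩ = ξ c) : g ∈ C P := by
  by_contra hgC
  apply h1
  refine eq_of_eq_on hξ (fun c _ => rfl) fun c hc => ?_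
  have hgP : ∀ w : (P : Subgroup G), g⁻¹ * (w : G) * g ∈ (P : Subgroup G) := fun w => by
    simpa using (Subgroup.mem_normalizer_iff.1 (inv_mem hg) (w : G)).1 w.2
  let F : ↥(P : Subgroup G) → ↥(P : Subgroup G) := fun w => w⁻¹ * ⟨g⁻¹ * (w : G) * g, hgP w⟩
  have hab : ∀ a b : (P : Subgroup G), Commute a b := fun a b => Subtype.ext
    (Subgroup.mem_centralizer_iff.1 (le_C hst b.2) a a.2)
  have hinj : Function.Injective F := by
    intro a b hab'
    by_contra hne
    have h' : (a : G)⁻¹ * (g⁻¹ * (a : G) * g) = (b : G)⁻¹ * (g⁻¹ * (b : G) * g) :=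
      congrArg Subtype.val hab'
    set w : G := (b : G) * (a : G)⁻¹ with hw
    have hw1 : w ≠ 1 := fun h => hne (Subtype.ext (mul_inv_eq_one.1 h).symm)
    apply hgC
    rw [C, ← hst w (mul_mem b.2 (inv_mem a.2)) hw1]
    refine Subgroup.mem_centralizer_singleton_iff.2 ?_
    have h2 : g⁻¹ * w * g = w := by
      have e1 : g⁻¹ * (b : G) * g = (b : G) * ((a : G)⁻¹ * (g⁻¹ * (a : G) * g)) := by
        rw [h']; group
      calc g⁻¹ * w * g = (g⁻¹ * (b : G) * g) * (g⁻¹ * (a : G) * g)⁻¹ := by rw [hw]; group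
        _ = w := by rw [e1, hw]; group
    calc g * w = g * (g⁻¹ * w * g) := by rw [h2]
      _ = w * g := by group
  obtain ⟨v, hv⟩ := (Finite.injective_iff_surjective.1 hinj) ⟨c, hc⟩
  have e : c = (⟨(v : G), le_C hst v.2⟩ : C P)⁻¹ *
      ⟨g⁻¹ * (v : G) * g, conj_mem_C hg (le_C hst v.2)⟩ :=
    Subtype.ext (congrArg Subtype.val hv).symm
  rw [e, map_mul, map_inv, hfix ⟨v, le_C hst v.2⟩ v.2, inv_mul_cancel]
  exact (MonoidHom.one_apply _).symm

/-- The linear characters in question restrict onto the dual of the Sylow subgroup. -/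
theorem exists_extension (hst : Star P) :
    (∀ lam : (P : Subgroup G) →* ℂˣ, ∃ ξ : C P →* ℂˣ, InL (P := P) ξ ∧
      ∀ (x : (P : Subgroup G)), ξ ⟨x, le_C hst x.2⟩ = lam x) ∧
    Nat.card {ξ : C P →* ℂˣ // InL (P := P) ξ} = Nat.card (P : Subgroup G) := by
  classical
  have hp : p.Prime := Fact.out
  letI : CommGroup (P : Subgroup G) := { (inferInstance : Group (P : Subgroup G)) with
    mul_comm := fun a b => Subtype.ext (Subgroup.mem_centralizer_iff.1 (le_C hst b.2) a a.2) }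
  haveI : NeZero (Monoid.exponent (P : Subgroup G)) := ⟨Monoid.exponent_ne_zero_of_finite⟩
  haveI : NeZero ((Monoid.exponent (P : Subgroup G) : ℕ) : ℂ) := NeZero.charZero
  haveI : HasEnoughRootsOfUnity ℂ (Monoid.exponent (P : Subgroup G)) := inferInstance
  have hcard : Nat.card ((P : Subgroup G) →* ℂˣ) = Nat.card (P : Subgroup G) :=
    CommGroup.card_monoidHom_of_hasEnoughRootsOfUnity (P : Subgroup G) ℂ
  set S := P.subtype (le_C hst)
  have hle : Subgroup.normalizer ((S : Subgroup (C P)) : Set (C P)) ≤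
      Subgroup.centralizer ((S : Subgroup (C P)) : Set (C P)) := by
    intro g _
    refine Subgroup.mem_centralizer_iff.2 fun s hs => Subtype.ext ?_
    exact Subgroup.mem_centralizer_iff.1 g.2 _ hs
  set π := MonoidHom.transferSylow S hle
  let e : (S : Subgroup (C P)) →* (P : Subgroup G) :=
    { toFun := fun s => ⟨((s : C P) : G), s.2⟩
      map_one' := rfl
      map_mul' := fun _ _ => rfl }
  set k := (S : Subgroup (C P)).index with hk
  have hkc : Nat.Coprime (Nat.card (P : Subgroup G)) k := by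
    obtain ⟨m, hm⟩ := IsPGroup.iff_card.1 P.2
    rw [hm]
    exact ((Nat.Prime.coprime_iff_not_dvd hp).2 S.not_dvd_index).pow_left m
  let F : ((P : Subgroup G) →* ℂˣ) → {ξ : C P →* ℂˣ // InL (P := P) ξ} := fun lam =>
    ⟨lam.comp (e.comp π), fun c hc => by
      rw [← orderOf_eq_one_iff]
      obtain ⟨m, hm⟩ := IsPGroup.iff_card.1 P.2
      have h1 : orderOf (lam (e (π c))) ∣ p ^ m :=
        hm ▸ (orderOf_map_dvd lam _).trans (orderOf_dvd_natCard _)
      exact Nat.eq_one_of_dvd_coprimes (((Nat.Prime.coprime_iff_not_dvd hp).2 hc).pow_left m) h1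
        ((orderOf_map_dvd lam _).trans ((orderOf_map_dvd e _).trans (orderOf_map_dvd π c)))⟩
  have hFval : ∀ lam (x : (P : Subgroup G)), (F lam).1 ⟨x, le_C hst x.2⟩ = lam x ^ k := by
    intro lam x
    show lam (e (π ⟨x, _⟩)) = _
    rw [MonoidHom.transferSylow_eq_pow S hle _ (show (⟨(x : G), le_C hst x.2⟩ : C P) ∈ (S : Subgroup (C P)) from x.2),
      ← map_pow]
    exact congrArg lam (Subtype.ext rfl)
  have hpow : Function.Bijective fun x : (P : Subgroup G) => x ^ k := (powCoprime hkc).bijective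
  have hFi : Function.Injective F := by
    intro a b hab
    refine MonoidHom.ext fun x => ?_
    obtain ⟨w, rfl⟩ := hpow.2 x
    dsimp only
    rw [map_pow, map_pow, ← hFval, ← hFval, hab]
  let r : {ξ : C P →* ℂˣ // InL (P := P) ξ} → ((P : Subgroup G) →* ℂˣ) := fun ξ =>
    ξ.1.comp (Subgroup.inclusion (le_C hst))
  have hri : Function.Injective r := fun a b hab =>
    Subtype.ext (eq_of_eq_on a.2 b.2 fun c hc => DFunLike.congr_fun hab ⟨c, hc⟩)
  haveI : Finite ((P : Subgroup G) →* ℂˣ) :=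
    (Nat.card_ne_zero.1 (hcard ▸ Nat.card_pos.ne')).2
  haveI : Finite {ξ : C P →* ℂˣ // InL (P := P) ξ} := Finite.of_injective r hri
  have hrF : Function.Surjective r := by
    have := Finite.injective_iff_surjective.1 (hri.comp hFi)
    exact Function.Surjective.of_comp this
  refine ⟨fun lam => ?_, (Nat.card_eq_of_bijective r ⟨hri, hrF⟩).trans hcard⟩
  obtain ⟨ξ, hξ⟩ := hrF lam
  exact ⟨ξ.1, ξ.2, fun x => DFunLike.congr_fun hξ x⟩

/-- Decomposition of an irreducible character of the centraliser. -/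
theorem exists_decomp (hst : Star P) {φ : C P → ℂ} (hφ : IsIrrCharacter (C P) φ) :
    ∃ (ξ : C P →* ℂˣ) (θ : IrrCharacter (C P)), InL (P := P) ξ ∧
      (∀ x : C P, (x : G) ∈ (P : Subgroup G) → (θ : C P → ℂ) x = (θ : C P → ℂ) 1) ∧
      φ = lin ξ * (θ : C P → ℂ) := by
  classical
  haveI := Fintype.ofFinite (C P)
  have hc := isCharacter_of_isIrr hφ
  have h0 : φ 1 ≠ 0 := irr_degree_ne_zero hφ
  have hz : ∀ x : (P : Subgroup G), (⟨x, le_C hst x.2⟩ : C P) ∈ Subgroup.center (C P) := fun x =>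
    Subgroup.mem_center_iff.2 fun c =>
      Subtype.ext (Subgroup.mem_centralizer_iff.1 c.2 x x.2).symm
  have hmul : ∀ (x : (P : Subgroup G)) (c : C P),
      φ (⟨x, le_C hst x.2⟩ * c) * φ 1 = φ ⟨x, le_C hst x.2⟩ * φ c := fun x c =>
    (apply_mul_of_norm_eq hc (norm_char_of_mem_center hφ (hz x)) c).1
  have hne : ∀ x : (P : Subgroup G), φ ⟨x, le_C hst x.2⟩ / φ 1 ≠ 0 := fun x => by
    refine div_ne_zero (fun h => h0 ?_) h0
    have := norm_char_of_mem_center hφ (hz x)
    rw [h, norm_zero] at this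
    exact norm_eq_zero.1 this.symm
  let lam : (P : Subgroup G) →* ℂˣ :=
    { toFun := fun x => Units.mk0 _ (hne x)
      map_one' := Units.ext (div_self h0)
      map_mul' := fun x y => Units.ext (by
        simp only [Units.val_mk0, Units.val_mul]
        rw [div_mul_div_comm, ← hmul x ⟨y, le_C hst y.2⟩]
        field_simp
        rfl) }
  obtain ⟨ξ, hξ, hξx⟩ := (exists_extension hst).1 lam
  refine ⟨ξ, ⟨fun c => ((ξ⁻¹ c : ℂˣ) : ℂ) * φ c, isIrrCharacter_linear_mul hφ ξ⁻¹⟩, hξ,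
    fun x hx => ?_, funext fun c => ?_⟩
  · show ((ξ⁻¹ x : ℂˣ) : ℂ) * φ x = ((ξ⁻¹ 1 : ℂˣ) : ℂ) * φ 1
    have e : ξ x = lam ⟨x, hx⟩ := hξx ⟨x, hx⟩
    rw [map_one, Units.val_one, one_mul, MonoidHom.inv_apply, Units.val_inv_eq_inv_val, e]
    show (φ x / φ 1)⁻¹ * φ x = φ 1
    have := hne ⟨x, hx⟩
    have hx0 : φ x ≠ 0 := fun h => this (by show φ x / φ 1 = 0; rw [h, zero_div])
    field_simp
  · simp only [lin, Pi.mul_apply, MonoidHom.inv_apply]
    rw [← mul_assoc, ← Units.val_mul, mul_inv_cancel, Units.val_one, one_mul]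

end Cfsg.Agent.Lib.Char.UC
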