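import Cfsg.Agent.Lib.Char.UniformBasic
import Cfsg.Agent.Lib.Char.Coherent
import Cfsg.Agent.Lib.Char.Kernel

/-!
# Small degrees for Sylow subgroups with uniform centralisers
-/

set_option autoImplicit false
set_option linter.unusedSectionVars false

namespace Cfsg.Agent.Lib.Char.UC

open Cfsg Cfsg.Agent.Lib
open scoped ComplexConjugate

universe u

variable {G : Type u} [Group G] [Fintype G] {p : ℕ} [Fact p.Prime] {P : Sylow p G}

/-- A function fixed only by the centraliser. -/
def Reg (P : Sylow p G) (φ : C P → ℂ) : Prop := ∀ g ∈ N P, cj P g φ = φ → g ∈ C P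

/-- Conjugacy under the normaliser. -/
def Conj (P : Sylow p G) (φ φ' : C P → ℂ) : Prop := ∃ g ∈ N P, cj P g φ' = φ

theorem Conj.refl {φ : C P → ℂ} (h : IsClassFunction (C P) φ) : Conj P φ φ :=
  ⟨1, one_mem _, cj_of_mem (one_mem _) h⟩

theorem Conj.symm {φ φ' : C P → ℂ} (h' : IsClassFunction (C P) φ') (h : Conj P φ φ') :
    Conj P φ' φ := by
  obtain ⟨g, hg, rfl⟩ := h
  refine ⟨g⁻¹, inv_mem hg, ?_⟩
  rw [← cj_mul (inv_mem hg) hg, inv_mul_cancel, cj_of_mem (one_mem _) h']

theorem Conj.trans {φ φ' φ'' : C P → ℂ} (h : Conj P φ φ') (h' : Conj P φ' φ'') :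
    Conj P φ φ'' := by
  obtain ⟨g, hg, rfl⟩ := h
  obtain ⟨g', hg', rfl⟩ := h'
  exact ⟨g * g', mul_mem hg hg', cj_mul hg hg' φ''⟩

theorem reg_lin_mul (hst : Star P) {ξ : C P →* ℂˣ} (hξ : InL (P := P) ξ) (h1 : ξ ≠ 1)
    (θ : IrrCharacter (C P))
    (hθ : ∀ x : C P, (x : G) ∈ (P : Subgroup G) → (θ : C P → ℂ) x = (θ : C P → ℂ) 1) :
    Reg P (lin ξ * (θ : C P → ℂ)) := by
  classical
  haveI := Fintype.ofFinite (C P)
  intro g hg hfix
  refine mem_C_of_fixed hst hg hξ h1 fun c hc => ?_
  have e := congrFun hfix c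
  rw [cj_apply hg] at e
  simp only [Pi.mul_apply, lin] at e
  rw [hθ c hc, hθ _ (by simpa using (Subgroup.mem_normalizer_iff.1 (inv_mem hg) (c : G)).1 hc)] at e
  exact Units.ext (mul_right_cancel₀ (irr_degree_ne_zero θ.2) e)

section counting

variable [Fintype (C P)]

open scoped Classical in
/-- The sum of inner products over the normaliser. -/
theorem sum_inner_cj {φ φ' : IrrCharacter (C P)} (hreg : Reg P (φ' : C P → ℂ)) :
    ∑ g ∈ Finset.univ.filter (fun g => g ∈ N P),
      classInner (φ : C P → ℂ) (cj P g (φ' : C P → ℂ)) =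
      if Conj P (φ : C P → ℂ) (φ' : C P → ℂ) then (Nat.card (C P) : ℂ) else 0 := by
  have hterm : ∀ g ∈ Finset.univ.filter (fun g => g ∈ N P),
      classInner (φ : C P → ℂ) (cj P g (φ' : C P → ℂ)) =
        if cj P g (φ' : C P → ℂ) = (φ : C P → ℂ) then 1 else 0 := by
    intro g hg
    have hg' := (Finset.mem_filter.1 hg).2
    split_ifs with h
    · rw [h, classInner_irr_self φ.2]
    · exact classInner_irr_ne φ.2 (isIrr_cj hg' φ'.2) (Ne.symm h)
  rw [Finset.sum_congr rfl hterm, Finset.sum_boole]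
  split_ifs with h
  · obtain ⟨g₀, hg₀, h₀⟩ := h
    rw [Nat.cast_inj, Nat.card_eq_fintype_card, ← Finset.card_univ]
    symm
    refine Finset.card_bij (fun c _ => g₀ * (c : G)) (fun c _ => ?_)
      (fun a _ b _ h => Subtype.ext (mul_left_cancel h)) (fun g hg => ?_)
    · have hc := C_le_N P c.2
      simp only [Finset.mem_filter, Finset.mem_univ, true_and]
      refine ⟨mul_mem hg₀ hc, ?_⟩
      rw [cj_mul hg₀ hc, cj_of_mem c.2 (isClassFunction_of_isIrr φ'.2), h₀]
    · simp only [Finset.mem_filter, Finset.mem_univ, true_and] at hg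
      refine ⟨⟨g₀⁻¹ * g, hreg _ (mul_mem (inv_mem hg₀) hg.1) ?_⟩, Finset.mem_univ _,
        mul_inv_cancel_left _ _⟩
      rw [cj_mul (inv_mem hg₀) hg.1, hg.2, ← h₀, ← cj_mul (inv_mem hg₀) hg₀, inv_mul_cancel,
        cj_of_mem (one_mem _) (isClassFunction_of_isIrr φ'.2)]
  · rw [Nat.cast_eq_zero, Finset.card_eq_zero, Finset.filter_eq_empty_iff]
    exact fun g hg hc => h ⟨g, (Finset.mem_filter.1 hg).2, hc⟩

open scoped Classical in
/-- The orbit of a regular character. -/
theorem card_orbit {φ : IrrCharacter (C P)} (hreg : Reg P (φ : C P → ℂ)) :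
    (Finset.univ.filter fun ψ : IrrCharacter (C P) => Conj P (ψ : C P → ℂ) (φ : C P → ℂ)).card *
      Nat.card (C P) = Nat.card (N P) := by
  have key : ((Finset.univ.filter fun ψ : IrrCharacter (C P) =>
      Conj P (ψ : C P → ℂ) (φ : C P → ℂ)).card : ℂ) * (Nat.card (C P) : ℂ) = (Nat.card (N P) : ℂ) := by
    have h := Finset.sum_congr (s₁ := (Finset.univ : Finset (IrrCharacter (C P)))) rfl
      fun ψ _ => sum_inner_cj (φ := ψ) hreg
    rw [Finset.sum_comm, ← Finset.sum_filter, Finset.sum_const, nsmul_eq_mul] at h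
    rw [← h, Finset.sum_congr rfl (g := fun _ => (1 : ℂ)) fun g hg => ?_, Finset.sum_const,
      nsmul_eq_mul, mul_one, ← Fintype.card_subtype, ← Nat.card_eq_fintype_card]
    rw [Finset.sum_eq_single ⟨_, isIrr_cj (Finset.mem_filter.1 hg).2 φ.2⟩]
    · exact classInner_irr_self (isIrr_cj (Finset.mem_filter.1 hg).2 φ.2)
    · exact fun ψ _ hne => classInner_irr_ne ψ.2 (isIrr_cj (Finset.mem_filter.1 hg).2 φ.2)
        fun h => hne (Subtype.ext h)
    · exact fun h => absurd (Finset.mem_univ _) h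
  exact_mod_cast key

theorem indFun_restrict (β : C P → ℂ) :
    (fun c : C P => indFun (C P) β c) = (Nat.card (C P) : ℂ)⁻¹ • ∑ g : G, cj P g β := by
  funext c
  simp [indFun, cj, Finset.sum_apply]

open scoped Classical in
/-- Induced functions vanishing on `p`-regular elements see only the normaliser. -/
theorem inner_ind (hst : Star P) (α β : C P → ℂ) (hα : ∀ c : C P, ¬ p ∣ orderOf c → α c = 0) :
    classInner (indFun (C P) α) (indFun (C P) β) = (Nat.card (C P) : ℂ)⁻¹ *
      ∑ g ∈ Finset.univ.filter (fun g => g ∈ N P), classInner α (cj P g β) := by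
  rw [classInner_indFun (C P) α (isClassFunction_indFun (C P) β), indFun_restrict,
    classInner_smul_right, map_inv₀, map_natCast, classInner_sum_right]
  congr 1
  refine (Finset.sum_subset (Finset.subset_univ _) fun g _ hg => ?_).symm
  simp only [classInner]
  rw [Finset.sum_eq_zero, mul_zero]
  intro c _
  by_cases hc : p ∣ orderOf c
  · rw [cj, extendByZero_not_mem]
    · simp
    · intro hm
      exact hg (Finset.mem_filter.2 ⟨Finset.mem_univ _,
        mem_N_of_conj hst c.2 (by rwa [Subgroup.orderOf_coe]) hm⟩)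
  · rw [hα c hc, zero_mul]

theorem inner_cj {χ : G → ℂ} (hχ : IsClassFunction G χ) {g : G} (hg : g ∈ N P) (φ : C P → ℂ) :
    classInner (fun c : C P => χ c) (cj P g φ) = classInner (fun c : C P => χ c) φ := by
  simp only [classInner]
  congr 1
  refine Fintype.sum_equiv
    { toFun := fun c => ⟨g⁻¹ * (c : G) * g, conj_mem_C hg c.2⟩
      invFun := fun c => ⟨g⁻¹⁻¹ * (c : G) * g⁻¹, conj_mem_C (inv_mem hg) c.2⟩
      left_inv := fun c => Subtype.ext (by simp [mul_assoc])
      right_inv := fun c => Subtype.ext (by simp [mul_assoc]) } _ _ fun c => ?_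
  rw [cj_apply hg]
  have := hχ (c : G) g⁻¹
  rw [inv_inv] at this
  show χ c * _ = χ (g⁻¹ * (c : G) * g) * _
  rw [this]
  rfl

end counting

/-- Constituents of the restriction are bounded by the degree. -/
theorem sum_le_degree [Fintype (C P)] {χ : G → ℂ} (hχ : IsCharacter G χ)
    (T : IrrCharacter (C P) → ℕ)
    (hT : ∀ φ : IrrCharacter (C P), classInner (fun c : C P => χ c) (φ : C P → ℂ) = T φ)
    (S : Finset (IrrCharacter (C P))) : ∑ φ ∈ S, T φ ≤ charDegree χ := by
  classical
  have h := congrFun (eq_sum_classInner_smul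
    (isClassFunction_of_isCharacter (isCharacter_restrict hχ (C P)))) 1
  simp only [Finset.sum_apply, Pi.smul_apply, smul_eq_mul, hT, OneMemClass.coe_one,
    apply_one_eq_charDegree hχ] at h
  rw [Finset.sum_congr rfl fun φ _ => by
    rw [apply_one_eq_charDegree (isCharacter_of_isIrr φ.2)]] at h
  have h' : charDegree χ = ∑ φ : IrrCharacter (C P), T φ * charDegree (φ : C P → ℂ) := by
    exact_mod_cast h
  rw [h']
  exact (Finset.sum_le_sum fun φ _ => Nat.le_mul_of_pos_right _ (charDegree_pos φ.2)).trans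
    (Finset.sum_le_sum_of_subset (Finset.subset_univ S))

/-- A nontrivial constituent on the Sylow subgroup. -/
theorem exists_nontrivial_constituent [Fintype (C P)] (hst : Star P) {χ : G → ℂ}
    (hχ : IsCharacter G χ) (hker : ∃ x ∈ (P : Subgroup G), χ x ≠ χ 1) :
    ∃ (φ : IrrCharacter (C P)) (ξ : C P →* ℂˣ) (θ : IrrCharacter (C P)),
      classInner (fun c : C P => χ c) (φ : C P → ℂ) ≠ 0 ∧ InL (P := P) ξ ∧ ξ ≠ 1 ∧
      (∀ x : C P, (x : G) ∈ (P : Subgroup G) → (θ : C P → ℂ) x = (θ : C P → ℂ) 1) ∧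
      (φ : C P → ℂ) = lin ξ * (θ : C P → ℂ) := by
  classical
  obtain ⟨x, hx, hne⟩ := hker
  by_contra hcon
  push Not at hcon
  apply hne
  have hexp := eq_sum_classInner_smul
    (isClassFunction_of_isCharacter (isCharacter_restrict hχ (C P)))
  have hval : ∀ φ : IrrCharacter (C P),
      classInner (fun c : C P => χ c) (φ : C P → ℂ) * (φ : C P → ℂ) ⟨x, le_C hst hx⟩ =
      classInner (fun c : C P => χ c) (φ : C P → ℂ) * (φ : C P → ℂ) 1 := by
    intro φ
    by_cases h : classInner (fun c : C P => χ c) (φ : C P → ℂ) = 0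
    · rw [h, zero_mul, zero_mul]
    · obtain ⟨ξ, θ, hξ, hθ, hφ⟩ := exists_decomp hst φ.2
      have h1 : ξ = 1 := by
        by_contra h1
        exact hcon φ ξ θ h hξ h1 hθ hφ
      rw [hφ, h1]
      simp [lin, hθ _ (show ((⟨x, le_C hst hx⟩ : C P) : G) ∈ (P : Subgroup G) from hx)]
  have e1 := congrFun hexp ⟨x, le_C hst hx⟩
  have e2 := congrFun hexp 1
  simp only [Finset.sum_apply, Pi.smul_apply, smul_eq_mul] at e1 e2
  rw [Finset.sum_congr rfl fun φ _ => hval φ, ← e2] at e1
  simpa using e1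

/-- The number of nontrivial linear characters in question. -/
theorem card_X (hst : Star P) :
    Nat.card {ξ : C P →* ℂˣ // InL (P := P) ξ ∧ ξ ≠ 1} + 1 = Nat.card (P : Subgroup G) := by
  classical
  have hcL := (exists_extension hst).2
  haveI : Finite {ξ : C P →* ℂˣ // InL (P := P) ξ} :=
    (Nat.card_ne_zero.1 (hcL ▸ Nat.card_pos.ne')).2
  haveI := Fintype.ofFinite {ξ : C P →* ℂˣ // InL (P := P) ξ}
  rw [← hcL, Nat.card_congr (Equiv.subtypeSubtypeEquivSubtypeInter (InL (P := P)) (fun ξ => ξ ≠ 1)).symm,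
    Nat.card_eq_fintype_card, Nat.card_eq_fintype_card, Fintype.card_subtype,
    show (Finset.univ.filter fun a : {ξ : C P →* ℂˣ // InL (P := P) ξ} => (a : C P →* ℂˣ) ≠ 1) =
      Finset.univ.erase ⟨1, fun c _ => rfl⟩ by
        ext a; simp [Subtype.ext_iff],
    Finset.card_erase_of_mem (Finset.mem_univ _), Finset.card_univ]
  have : 0 < Fintype.card {ξ : C P →* ℂˣ // InL (P := P) ξ} :=
    Fintype.card_pos_iff.2 ⟨⟨1, fun c _ => rfl⟩⟩
  exact Nat.sub_add_cancel this

/-- The fixed part of a small character on the centraliser. -/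
theorem fixed_bound [Fintype (C P)] (hst : Star P) {e : ℕ} (he : Nat.card (N P) = e * Nat.card (C P))
    (he2 : e * e + 1 < Nat.card (P : Subgroup G)) (ψ : IrrCharacter G)
    (hker : ∃ x ∈ (P : Subgroup G), (ψ : G → ℂ) x ≠ (ψ : G → ℂ) 1)
    (hsmall : charDegree (ψ : G → ℂ) + 1 < Nat.card (P : Subgroup G)) :
    classInner (fun c : C P => (ψ : G → ℂ) c) (fun _ => 1) = 0 ∨
    (classInner (fun c : C P => (ψ : G → ℂ) c) (fun _ => 1) = 1 ∧
      Nat.card (P : Subgroup G) ≤ charDegree (ψ : G → ℂ) + e) := by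
  classical
  choose T hT using fun (χ : IrrCharacter G) (φ : IrrCharacter (C P)) =>
    classInner_natCast (isCharacter_restrict (isCharacter_of_isIrr χ.2) (C P))
      (isCharacter_of_isIrr φ.2)
  set oneC : IrrCharacter (C P) := ⟨fun _ => 1, isIrrCharacter_one⟩ with honeC
  set oneG : IrrCharacter G := ⟨fun _ => 1, isIrrCharacter_one⟩ with honeG
  have hC0 : (Nat.card (C P) : ℂ) ≠ 0 := card_ne_zero_complex _
  have he0 : 0 < e := Nat.pos_of_mul_pos_right (he ▸ Nat.card_pos)
  have hind : ∀ (φ : IrrCharacter (C P)) (χ : IrrCharacter G),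
      classInner (indFun (C P) (φ : C P → ℂ)) (χ : G → ℂ) = T χ φ := fun φ χ => by
    rw [classInner_indFun (C P) _ (isClassFunction_of_isIrr χ.2), classInner_conj_symm, hT,
      map_natCast]
  have hinv : ∀ (χ : IrrCharacter G) (φ φ' : IrrCharacter (C P)),
      Conj P (φ : C P → ℂ) (φ' : C P → ℂ) → T χ φ = T χ φ' := by
    intro χ φ φ' ⟨g, hg, hgφ⟩
    have h := inner_cj (P := P) (isClassFunction_of_isIrr χ.2) hg (φ' : C P → ℂ)
    rw [hgφ, hT, hT] at h
    exact_mod_cast h
  obtain ⟨φ₁, ξ₁, θ, hT1, hξ₁, hξ₁1, hθ, hφ₁⟩ :=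
    exists_nontrivial_constituent hst (isCharacter_of_isIrr ψ.2) hker
  -- the family over `θ`
  set X := {ξ : C P →* ℂˣ // InL (P := P) ξ ∧ ξ ≠ 1}
  haveI : Finite X := Finite.of_injective (fun a : X => (⟨fun c => ((a.1 c : ℂˣ) : ℂ),
    isIrrCharacter_linear a.1⟩ : IrrCharacter (C P))) fun a b h => Subtype.ext (MonoidHom.ext fun c =>
      Units.ext (congrFun (congrArg Subtype.val h) c))
  haveI := Fintype.ofFinite X
  have hXcard : Fintype.card X + 1 = Nat.card (P : Subgroup G) := by
    rw [← Nat.card_eq_fintype_card]; exact card_X hst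
  let phi : IrrCharacter (C P) → X → IrrCharacter (C P) := fun θ a =>
    ⟨lin a.1 * (θ : C P → ℂ), isIrrCharacter_linear_mul θ.2 a.1⟩
  have hphi : ∀ θ a, ((phi θ a : IrrCharacter (C P)) : C P → ℂ) = lin a.1 * (θ : C P → ℂ) :=
    fun _ _ => rfl
  have hθ1 : ∀ x : C P, (x : G) ∈ (P : Subgroup G) → (oneC : C P → ℂ) x = (oneC : C P → ℂ) 1 :=
    fun _ _ => rfl
  have hphi_inj : ∀ θ : IrrCharacter (C P),
      (∀ x : C P, (x : G) ∈ (P : Subgroup G) → (θ : C P → ℂ) x = (θ : C P → ℂ) 1) →
      Function.Injective (phi θ) := by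
    intro θ hθ a b hab
    refine Subtype.ext (eq_of_eq_on a.2.1 b.2.1 fun c hc => Units.ext ?_)
    have h := congrFun (congrArg Subtype.val hab) c
    simp only [phi, Pi.mul_apply, lin, hθ c hc] at h
    exact mul_right_cancel₀ (irr_degree_ne_zero θ.2) h
  have hreg : ∀ a, Reg P ((phi θ a : IrrCharacter (C P)) : C P → ℂ) :=
    fun a => reg_lin_mul hst a.2.1 a.2.2 θ hθ
  have hphi_ne : ∀ θ : IrrCharacter (C P),
      (∀ x : C P, (x : G) ∈ (P : Subgroup G) → (θ : C P → ℂ) x = (θ : C P → ℂ) 1) →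
      ∀ a, phi θ a ≠ oneC := by
    intro θ hθ a h
    refine a.2.2 (eq_of_eq_on a.2.1 (fun c _ => rfl) fun c hc => Units.ext ?_)
    have h1 := congrFun (congrArg Subtype.val h) c
    have h2 := congrFun (congrArg Subtype.val h) 1
    simp only [phi, Pi.mul_apply, lin, hθ c hc, map_one, Units.val_one, one_mul, honeC] at h1 h2
    rw [h2, mul_one] at h1
    simpa using h1
  have hzero : ∀ θ a (c : C P), ¬ p ∣ orderOf c →
      ((phi θ a : IrrCharacter (C P)) : C P → ℂ) c = (θ : C P → ℂ) c := fun θ a c hc => by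
    simp [hphi, lin, a.2.1 c hc]
  let s : Setoid X := ⟨fun a b => Conj P (phi θ b : C P → ℂ) (phi θ a : C P → ℂ),
    fun a => Conj.refl (isClassFunction_of_isIrr (phi θ a).2),
    fun {a b} h => h.symm (isClassFunction_of_isIrr (phi θ a).2),
    fun {a b c} h h' => h'.trans h⟩
  set ι := Quotient s
  haveI : Fintype ι := Fintype.ofFinite _
  let F : ι → IrrCharacter (C P) := fun i => phi θ i.out
  have hFreg : ∀ i, Reg P (F i : C P → ℂ) := fun i => hreg _
  have hFconj : ∀ i j, Conj P (F i : C P → ℂ) (F j : C P → ℂ) ↔ i = j := by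
    intro i j
    refine ⟨fun h => ?_, fun h => h ▸ Conj.refl (isClassFunction_of_isIrr (F i).2)⟩
    rw [← i.out_eq, ← j.out_eq]
    exact (Quotient.sound (s := s) (a := j.out) (b := i.out) h).symm
  have hFcls : ∀ (χ : IrrCharacter G) (a : X), T χ (phi θ a) = T χ (F ⟦a⟧) := fun χ a =>
    hinv χ _ _ (Quotient.mk_out (s := s) a)
  have hclass : ∀ i : ι, (Finset.univ.filter fun a : X => (⟦a⟧ : ι) = i).card ≤ e := by
    intro i
    have h1 := card_orbit (hFreg i)
    rw [he] at h1
    rw [← Nat.eq_of_mul_eq_mul_right Nat.card_pos h1]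
    refine Finset.card_le_card_of_injOn (phi θ) (fun a ha => ?_) (hphi_inj θ hθ).injOn
    simp only [Finset.coe_filter, Finset.mem_univ, true_and, Set.mem_ofPred_eq] at ha ⊢
    subst ha
    exact Quotient.mk_out (s := s) a
  set m := Fintype.card ι with hm
  have hXm : Fintype.card X ≤ e * m := by
    rw [hm, ← Finset.card_univ, ← Finset.card_univ]
    exact Finset.card_le_mul_card_image_of_maps_to (f := fun a : X => (⟦a⟧ : ι))
      (fun a _ => Finset.mem_univ _) e (fun i _ => hclass i)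
  have hem : e < m := by
    by_contra h
    push Not at h
    have := Nat.mul_le_mul_left e h
    omega
  have hother : ∀ i : ι, ∃ j, j ≠ i := fun i => Fintype.exists_ne_of_one_lt_card (by omega) i
  -- coherence
  set a₁ : X := ⟨ξ₁, hξ₁, hξ₁1⟩
  set i₀ : ι := ⟦a₁⟧ with hi₀
  let τ : ι → G → ℂ := fun i => indFun (C P) ((F i : C P → ℂ) - (F i₀ : C P → ℂ))
  have hvan : ∀ i j (c : C P), ¬ p ∣ orderOf c →
      ((F i : C P → ℂ) - (F j : C P → ℂ)) c = 0 := fun i j c hc => by
    rw [Pi.sub_apply, hzero θ _ c hc, hzero θ _ c hc, sub_self]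
  have hpair : ∀ (φ φ' : IrrCharacter (C P)), Reg P (φ' : C P → ℂ) →
      (Nat.card (C P) : ℂ)⁻¹ * ∑ g ∈ Finset.univ.filter (fun g => g ∈ N P),
        classInner (φ : C P → ℂ) (cj P g (φ' : C P → ℂ)) =
      if Conj P (φ : C P → ℂ) (φ' : C P → ℂ) then 1 else 0 := by
    intro φ φ' h
    rw [sum_inner_cj h]
    split_ifs <;> simp [hC0]
  have hgram : ∀ i j, classInner (τ i) (τ j) = (if i = j then 1 else 0) - (if i = i₀ then 1 else 0)
      - (if i₀ = j then 1 else 0) + 1 := by
    intro i j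
    simp only [τ]
    rw [inner_ind hst _ _ (hvan i i₀)]
    simp only [cj_sub, classInner_sub_left, classInner_sub_right, Finset.sum_sub_distrib, mul_sub,
      hpair _ _ (hFreg _), hFconj, if_true]
    ring
  have hgen : ∀ i, IsGeneralizedCharacter G (τ i) := fun i =>
    ⟨_, _, isCharacter_indFun (C P) (isCharacter_of_isIrr (F i).2),
      isCharacter_indFun (C P) (isCharacter_of_isIrr (F i₀).2), indFun_sub (C P) _ _⟩
  obtain ⟨ε', hε', μ, hμ, hτμ⟩ := exists_coherent_family i₀ τ
    (by simp only [τ, sub_self]; exact indFun_zero (C P)) hgen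
    (fun i => by
      simp only [τ]
      rw [indFun_one, hvan i i₀ 1 (by rw [orderOf_one]; exact (Fact.out : p.Prime).not_dvd_one),
        mul_zero])
    (fun i j hi hj => ⟨fun h => by subst h; rw [hgram]; simp [hi, Ne.symm hi]; norm_num,
      fun h => by rw [hgram]; simp [h, hi, Ne.symm hj]⟩)
  obtain ⟨ε, hε, rfl⟩ : ∃ ε : ℤ, (ε = 1 ∨ ε = -1) ∧ (ε : ℂ) = ε' := by
    rcases hε' with rfl | rfl
    · exact ⟨1, Or.inl rfl, by simp⟩
    · exact ⟨-1, Or.inr rfl, by simp⟩
  have hcoef : ∀ (χ : IrrCharacter G) i, ((T χ (F i) : ℤ) - T χ (F i₀)) =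
      ε * ((if μ i = χ then 1 else 0) - (if μ i₀ = χ then 1 else 0)) := by
    intro χ i
    have h : classInner (τ i) (χ : G → ℂ) = _ := congrArg (fun f => classInner f (χ : G → ℂ)) (hτμ i)
    simp only [τ, indFun_sub, classInner_sub_left, classInner_smul_left, hind,
      classInner_irrCharacter] at h
    rw [← Int.cast_inj (α := ℂ)]
    push_cast
    simpa using h
  have hTpos : 0 < T ψ (F i₀) := by
    rw [← hFcls]
    refine Nat.pos_of_ne_zero fun h => hT1 ?_
    have e1 : φ₁ = phi θ a₁ := Subtype.ext hφ₁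
    rw [hT, e1, h, Nat.cast_zero]
  have hlow : ∀ S : Finset (IrrCharacter (C P)), ∑ φ ∈ S, T ψ φ ≤ charDegree (ψ : G → ℂ) :=
    sum_le_degree (isCharacter_of_isIrr ψ.2) (T ψ) (hT ψ)
  have hfree : ∀ θ' : IrrCharacter (C P),
      (∀ x : C P, (x : G) ∈ (P : Subgroup G) → (θ' : C P → ℂ) x = (θ' : C P → ℂ) 1) →
      ∃ a : X, T ψ (phi θ' a) = 0 := by
    intro θ' hθ'
    by_contra hcon
    push Not at hcon
    have h1 := hlow (Finset.univ.map ⟨phi θ', hphi_inj θ' hθ'⟩)
    rw [Finset.sum_map] at h1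
    have h2 : ∑ a : X, 1 ≤ ∑ a : X, T ψ (phi θ' a) :=
      Finset.sum_le_sum fun a _ => Nat.one_le_iff_ne_zero.2 (hcon a)
    simp only [Finset.sum_const, Finset.card_univ, smul_eq_mul, mul_one] at h2
    simp only [Function.Embedding.coeFn_mk] at h1
    omega
  obtain ⟨k, hk⟩ : ∃ k, μ k = ψ := by
    by_contra hcon
    push Not at hcon
    obtain ⟨a, ha⟩ := hfree θ hθ
    have h := hcoef ψ ⟦a⟧
    rw [← hFcls, ha, if_neg (hcon _), if_neg (hcon _)] at h
    simp at h
    omega
  subst hk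
  have hμT : ∀ i j, (T (μ j) (F i) : ℤ) - T (μ j) (F i₀) =
      ε * ((if i = j then 1 else 0) - (if i₀ = j then 1 else 0)) := by
    intro i j
    rw [hcoef]
    simp only [hμ.eq_iff]
  set c : ℤ := T (μ k) (F i₀) - ε * (if i₀ = k then 1 else 0) with hc
  have hTk : ∀ i, (T (μ k) (F i) : ℤ) = c + ε * (if i = k then 1 else 0) := by
    intro i
    rw [hc]
    linear_combination hμT i k
  have hc0 : 0 ≤ c := by
    obtain ⟨j, hj⟩ := hother k
    have := hTk j
    rw [if_neg hj, mul_zero, add_zero] at this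
    omega
  have hμne : ∀ i, μ i ≠ oneG := by
    intro i h
    obtain ⟨j, hj⟩ := hother i
    have h1 := hμT i i
    have h2 := hμT j i
    have hT0 : ∀ l, T oneG (F l) = 0 := fun l => by
      have e1 := hT oneG (F l)
      rw [classInner_irr_ne isIrrCharacter_one (F l).2 (fun h' => hphi_ne θ hθ _ (Subtype.ext h'.symm))] at e1
      exact_mod_cast e1.symm
    rw [h, hT0, hT0, if_pos rfl] at h1
    rw [h, hT0, hT0, if_neg hj] at h2
    rcases hε with rfl | rfl <;> omega
  -- the fixed parts agree on the family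
  have hFone : ∀ i, ¬ Conj P (F i : C P → ℂ) (oneC : C P → ℂ) := by
    rintro i ⟨g, hg, hgi⟩
    rw [honeC] at hgi
    dsimp only at hgi
    rw [cj_one_fun hg] at hgi
    exact hphi_ne θ hθ _ (Subtype.ext hgi.symm)
  have hK1 : ∀ φ : IrrCharacter (C P), (Nat.card (C P) : ℂ)⁻¹ *
      ∑ g ∈ Finset.univ.filter (fun g => g ∈ N P),
        classInner (φ : C P → ℂ) (cj P g (oneC : C P → ℂ)) =
      (e : ℂ) * (if φ = oneC then 1 else 0) := by
    intro φ
    rw [Finset.sum_congr rfl (g := fun _ => if φ = oneC then (1 : ℂ) else 0) fun g hg => by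
      show classInner (φ : C P → ℂ) (cj P g (fun _ => 1)) = _
      rw [cj_one_fun (Finset.mem_filter.1 hg).2]
      exact (classInner_irrCharacter φ oneC).trans (by congr 1),
      Finset.sum_const, nsmul_eq_mul, ← Fintype.card_subtype, ← Nat.card_eq_fintype_card]
    rw [show Nat.card {x // x ∈ N P} = e * Nat.card (C P) from he]
    push_cast
    field_simp
  have hexpand : ∀ (α β : G → ℂ), IsClassFunction G β →
      classInner α β = ∑ χ : IrrCharacter G, classInner α χ * conj (classInner β χ) :=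
    fun α β h => classInner_eq_sum h
  have hdot : ∀ i (φ : IrrCharacter (C P)), (Nat.card (C P) : ℂ)⁻¹ *
      ∑ g ∈ Finset.univ.filter (fun g => g ∈ N P),
        classInner ((F i : C P → ℂ) - (F i₀ : C P → ℂ)) (cj P g (φ : C P → ℂ)) =
      (ε : ℂ) * ((T (μ i) φ : ℂ) - (T (μ i₀) φ : ℂ)) := by
    intro i φ
    rw [← inner_ind hst _ _ (hvan i i₀)]
    show classInner (τ i) _ = _
    rw [hτμ i, classInner_smul_left, classInner_sub_left, classInner_conj_symm, hind, map_natCast,
      classInner_conj_symm, hind, map_natCast]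
  have hεne : (ε : ℂ) ≠ 0 := by rcases hε with rfl | rfl <;> simp
  have hd : ∀ i, T (μ i) oneC = T (μ i₀) oneC := by
    intro i
    have h := hdot i oneC
    simp only [classInner_sub_left, Finset.sum_sub_distrib, mul_sub] at h
    rw [hK1, hK1, if_neg (hphi_ne θ hθ _), if_neg (hphi_ne θ hθ _)] at h
    simp only [mul_zero, sub_self] at h
    have h' : (ε : ℂ) * ((T (μ i) oneC : ℂ) - (T (μ i₀) oneC : ℂ)) = 0 := by
      rw [mul_sub]; exact h.symm
    exact_mod_cast sub_eq_zero.1 ((mul_eq_zero.1 h').resolve_left hεne)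
  set d := T (μ i₀) oneC with hdd
  -- the auxiliary character of norm `e + 1`
  have hnorm : ∀ a : X, ∑ χ : IrrCharacter G,
      ((T χ oneC : ℤ) - T χ (phi oneC a)) ^ 2 = (e : ℤ) + 1 := by
    intro a
    set φ₀ := phi oneC a
    have hr : Reg P (φ₀ : C P → ℂ) := reg_lin_mul hst a.2.1 a.2.2 oneC hθ1
    have hne : ¬ Conj P (oneC : C P → ℂ) (φ₀ : C P → ℂ) := by
      intro h
      obtain ⟨g, hg, hgi⟩ := h.symm (isClassFunction_of_isIrr φ₀.2)
      rw [honeC] at hgi
      dsimp only at hgi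
      rw [cj_one_fun hg] at hgi
      exact hphi_ne oneC hθ1 a (Subtype.ext hgi.symm)
    have hv : ∀ c : C P, ¬ p ∣ orderOf c → ((oneC : C P → ℂ) - (φ₀ : C P → ℂ)) c = 0 := fun c hc => by
      rw [Pi.sub_apply, hzero oneC a c hc, sub_self]
    have h := inner_ind hst _ ((oneC : C P → ℂ) - (φ₀ : C P → ℂ)) hv
    simp only [cj_sub, classInner_sub_left, classInner_sub_right, Finset.sum_sub_distrib,
      mul_sub] at h
    rw [hK1, hK1, hpair _ _ hr, hpair _ _ hr, if_pos rfl, if_neg (hphi_ne oneC hθ1 a),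
      if_neg hne, if_pos (Conj.refl (isClassFunction_of_isIrr φ₀.2))] at h
    rw [hexpand _ _ (isClassFunction_indFun _ _)] at h
    simp only [indFun_sub, classInner_sub_left, hind, map_sub, map_natCast] at h
    rw [← Int.cast_inj (α := ℂ)]
    push_cast
    simp only [pow_two]
    rw [h]
    ring
  have hTone : ∀ a : X, T oneG oneC = 1 ∧ T oneG (phi oneC a) = 0 := by
    intro a
    constructor
    · have e1 := hT oneG oneC
      rw [honeG, honeC] at e1
      dsimp only at e1
      rw [classInner_irr_self isIrrCharacter_one, ← honeG, ← honeC] at e1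
      exact_mod_cast e1.symm
    · have e1 := hT oneG (phi oneC a)
      rw [classInner_irr_ne isIrrCharacter_one (phi oneC a).2
        (fun h' => hphi_ne oneC hθ1 a (Subtype.ext h'.symm))] at e1
      exact_mod_cast e1.symm
  set U : Finset (IrrCharacter G) := Finset.univ.map ⟨μ, hμ⟩ with hU
  have hUone : oneG ∉ U := by
    rw [hU, Finset.mem_map]
    rintro ⟨i, -, hi⟩
    exact hμne i hi
  have hbound : ∀ a : X, ∑ i : ι, ((d : ℤ) - T (μ i) (phi oneC a)) ^ 2 ≤ (e : ℤ) ∧
      ((e : ℤ) ≤ ∑ i : ι, ((d : ℤ) - T (μ i) (phi oneC a)) ^ 2 →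
        (1 : ℤ) + ∑ i : ι, ((d : ℤ) - T (μ i) (phi oneC a)) * charDegree (μ i : G → ℂ) = 0) := by
    intro a
    have h := hnorm a
    have hsplit : ∀ f : IrrCharacter G → ℤ, ∑ χ, f χ =
        f oneG + ∑ i : ι, f (μ i) + ∑ χ ∈ (Finset.univ \ insert oneG U), f χ := by
      intro f
      rw [← Finset.sum_sdiff (Finset.subset_univ (insert oneG U)), Finset.sum_insert hUone, hU,
        Finset.sum_map, add_comm]
      rfl
    rw [hsplit, (hTone a).1, (hTone a).2] at h
    simp only [hd] at h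
    have hnn : 0 ≤ ∑ χ ∈ (Finset.univ \ insert oneG U), ((T χ oneC : ℤ) - T χ (phi oneC a)) ^ 2 :=
      Finset.sum_nonneg fun χ _ => sq_nonneg _
    push_cast at h
    refine ⟨by linarith, fun hge => ?_⟩
    have hz : ∀ χ ∈ (Finset.univ \ insert oneG U), ((T χ oneC : ℤ) - T χ (phi oneC a)) = 0 :=
      fun χ hχ => pow_eq_zero_iff two_ne_zero |>.1 ((Finset.sum_eq_zero_iff_of_nonneg
        (fun χ _ => sq_nonneg _)).1 (le_antisymm (by linarith [h, hge]) hnn) χ hχ)
    have h1 : indFun (C P) ((oneC : C P → ℂ) - (phi oneC a : C P → ℂ)) 1 = 0 := by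
      rw [indFun_one, Pi.sub_apply, hzero oneC a 1 (by rw [orderOf_one]; exact (Fact.out : p.Prime).not_dvd_one),
        sub_self, mul_zero]
    have h2 := congrFun (eq_sum_classInner_smul (isClassFunction_indFun (C P)
      ((oneC : C P → ℂ) - (phi oneC a : C P → ℂ)))) 1
    rw [h1] at h2
    simp only [Finset.sum_apply, Pi.smul_apply, smul_eq_mul, indFun_sub, classInner_sub_left,
      hind] at h2
    rw [Finset.sum_congr rfl fun χ _ => by
      rw [apply_one_eq_charDegree (isCharacter_of_isIrr χ.2)]] at h2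
    have h3 : ∑ χ : IrrCharacter G,
        ((T χ oneC : ℤ) - T χ (phi oneC a)) * charDegree (χ : G → ℂ) = 0 := by
      exact_mod_cast h2.symm
    have hz' : ∑ χ ∈ (Finset.univ \ insert oneG U),
        ((T χ oneC : ℤ) - T χ (phi oneC a)) * charDegree (χ : G → ℂ) = 0 :=
      Finset.sum_eq_zero fun χ hχ => by rw [hz χ hχ, zero_mul]
    rw [hsplit, hz', (hTone a).1, (hTone a).2] at h3
    simp only [hd] at h3
    rw [show charDegree (oneG : G → ℂ) = 1 from charDegree_one] at h3
    push_cast at h3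
    linarith
  -- the fixed part of `ψ`
  have hψd : classInner (fun c : C P => (μ k : G → ℂ) c) (fun _ => 1) = (d : ℂ) := by
    rw [← hd k]; exact hT (μ k) oneC
  rcases Nat.eq_zero_or_pos d with hd0 | hd0
  · left; rw [hψd, hd0, Nat.cast_zero]
  by_cases hθ' : θ = oneC
  swap
  · -- a different `θ`: impossible
    exfalso
    obtain ⟨a, ha⟩ := hfree oneC hθ1
    have hsame : ∀ i, T (μ i) (phi oneC a) = T (μ i₀) (phi oneC a) := by
      intro i
      have h := hdot i (phi oneC a)
      simp only [classInner_sub_left, Finset.sum_sub_distrib, mul_sub] at h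
      have hnc : ∀ j, ¬ Conj P (F j : C P → ℂ) (phi oneC a : C P → ℂ) := by
        rintro j ⟨g, hg, hgj⟩
        apply hθ'
        refine Subtype.ext (funext fun c => ?_)
        obtain ⟨x, y, rfl, -, hx, hy⟩ := Block.exists_isPPart (p := p) c
        have hxP : (x : G) ∈ (P : Subgroup G) := mem_of_pElem (by
          obtain ⟨k, hk⟩ := hx; exact ⟨k, by rw [Subgroup.orderOf_coe, hk]⟩) x.2
        have hy' : (θ : C P → ℂ) y = 1 := by
          rw [← hzero θ j.out y hy]
          show (F j : C P → ℂ) y = 1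
          rw [← hgj, cj_apply hg, hzero oneC a _ ?_]
          intro hdv
          refine hy ?_
          rw [← Subgroup.orderOf_coe] at hdv ⊢
          have hc : orderOf (g⁻¹ * (y : G) * g) = orderOf (y : G) := by
            simpa using (MulAut.conj g⁻¹).orderOf_eq (y : G)
          exact hc ▸ hdv
        rw [(char_mul_of_eq_one (isCharacter_of_isIrr θ.2) (hθ x hxP) y).1, hy']
      rw [hpair _ _ (reg_lin_mul hst a.2.1 a.2.2 oneC hθ1),
        hpair _ _ (reg_lin_mul hst a.2.1 a.2.2 oneC hθ1), if_neg (hnc i), if_neg (hnc i₀)] at h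
      have h' : (ε : ℂ) * ((T (μ i) (phi oneC a) : ℂ) - (T (μ i₀) (phi oneC a) : ℂ)) = 0 := by
        rw [mul_sub]; simpa using h.symm
      exact_mod_cast sub_eq_zero.1 ((mul_eq_zero.1 h').resolve_left hεne)
    have h := (hbound a).1
    have hall : ∀ i, T (μ i) (phi oneC a) = 0 := fun i => by rw [hsame i, ← hsame k, ha]
    simp only [hall, Nat.cast_zero, sub_zero, Finset.sum_const, Finset.card_univ, nsmul_eq_mul] at h
    rw [← hm] at h
    have h' : m * d ^ 2 ≤ e := by exact_mod_cast h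
    have h2 := Nat.le_mul_of_pos_right m (pow_pos hd0 2)
    omega
  subst hθ'
  obtain ⟨a, ha⟩ := hfree oneC hθ1
  set l : ι := ⟦a⟧ with hl
  have hTl : ∀ i, (T (μ i) (phi oneC a) : ℤ) = c + ε * (if i = l then 1 else 0) := by
    intro i
    rw [hFcls, ← hl]
    have hsw := hdot i (F l)
    simp only [classInner_sub_left, Finset.sum_sub_distrib, mul_sub, hpair _ _ (hFreg l),
      hFconj] at hsw
    have h1 : ((if i = l then 1 else 0 : ℤ)) - (if i₀ = l then 1 else 0) =
        ε * ((T (μ i) (F l) : ℤ) - T (μ i₀) (F l)) := by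
      rw [← Int.cast_inj (α := ℂ)]; push_cast; rw [mul_sub]; exact hsw
    have h2 : ((if k = l then 1 else 0 : ℤ)) - (if i₀ = l then 1 else 0) =
        ε * ((T (μ k) (F l) : ℤ) - T (μ i₀) (F l)) := by
      have hsw := hdot k (F l)
      simp only [classInner_sub_left, Finset.sum_sub_distrib, mul_sub, hpair _ _ (hFreg l),
        hFconj] at hsw
      rw [← Int.cast_inj (α := ℂ)]; push_cast; rw [mul_sub]; exact hsw
    have h3 := hTk l
    have hkl : (if l = k then (1 : ℤ) else 0) = if k = l then 1 else 0 := by simp [eq_comm]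
    rw [hkl] at h3
    rcases hε with rfl | rfl <;> linarith
  obtain ⟨hb1, hb2⟩ := hbound a
  simp only [hTl] at hb1 hb2
  have hd1 : (1 : ℤ) ≤ (d : ℤ) := by exact_mod_cast hd0
  have hl0 : c + ε * (if k = l then 1 else 0) = 0 := by rw [← hTl k, ha]; rfl
  have hsum1 : ∑ i : ι, ((d : ℤ) - (c + ε * (if i = l then 1 else 0))) ^ 2 =
      ((m : ℤ) - 1) * ((d : ℤ) - c) ^ 2 + ((d : ℤ) - c - ε) ^ 2 := by
    rw [← Finset.add_sum_erase _ _ (Finset.mem_univ l), if_pos rfl,
      Finset.sum_congr rfl fun i hi => by rw [if_neg (Finset.ne_of_mem_erase hi), mul_zero, add_zero],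
      Finset.sum_const, Finset.card_erase_of_mem (Finset.mem_univ l), Finset.card_univ, ← hm,
      nsmul_eq_mul, Nat.cast_sub (by omega)]
    push_cast
    ring
  have hem' : (e : ℤ) + 1 ≤ m := by exact_mod_cast hem
  by_cases hkl : k = l
  · rw [if_pos hkl, mul_one] at hl0
    have hε1 : ε = -1 := by rcases hε with h | h <;> omega
    subst hε1
    have hc1 : c = 1 := by omega
    right
    have hd2 : d = 1 := by
      by_contra hne
      have h2 : (2 : ℤ) ≤ (d : ℤ) := by exact_mod_cast (by omega : 2 ≤ d)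
      rw [hc1] at hsum1 hb1
      rw [hsum1] at hb1
      nlinarith [mul_le_mul_of_nonneg_left (show (1 : ℤ) ≤ ((d : ℤ) - 1) ^ 2 by nlinarith)
        (show (0 : ℤ) ≤ (m : ℤ) - 1 by linarith)]
    refine ⟨by rw [hψd, hd2, Nat.cast_one], ?_⟩
    set A := Finset.univ.filter (fun b : X => ¬ (⟦b⟧ : ι) = k) with hA
    have hnot : oneC ∉ A.map ⟨phi oneC, hphi_inj oneC hθ1⟩ := by
      rw [Finset.mem_map]; rintro ⟨b, -, hb⟩; exact hphi_ne oneC hθ1 b hb
    have h1 := hlow (insert oneC (A.map ⟨phi oneC, hphi_inj oneC hθ1⟩))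
    rw [Finset.sum_insert hnot, Finset.sum_map,
      show T (μ k) oneC = 1 by rw [hd k, hd2],
      Finset.sum_congr rfl (g := fun _ => 1) fun b hb => by
        have h := hTk (⟦b⟧ : ι)
        rw [if_neg (Finset.mem_filter.1 hb).2, mul_zero, add_zero, hc1, ← hFcls] at h
        simp only [Function.Embedding.coeFn_mk]
        exact_mod_cast h,
      Finset.sum_const, smul_eq_mul, mul_one] at h1
    have h2 := Finset.card_filter_add_card_filter_not (s := (Finset.univ : Finset X))
      (fun b : X => (⟦b⟧ : ι) = k)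
    rw [Finset.card_univ] at h2
    have h3 := hclass k
    rw [hA] at h1
    omega
  · rw [if_neg hkl, mul_zero, add_zero] at hl0
    exfalso
    rw [hl0] at hTk hsum1 hb1 hb2
    have hε1 : ε = 1 := by
      rcases hε with h | h
      · exact h
      have h4 := hTk i₀
      rw [h] at h4
      split_ifs at h4 <;> omega
    subst hε1
    have hS : (e : ℤ) ≤ ∑ i : ι, ((d : ℤ) - (0 + 1 * (if i = l then 1 else 0))) ^ 2 := by
      rw [hsum1]
      nlinarith [mul_le_mul_of_nonneg_left (show (1 : ℤ) ≤ ((d : ℤ) - 0) ^ 2 by nlinarith)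
        (show (0 : ℤ) ≤ (m : ℤ) - 1 by linarith)]
    have h := hb2 hS
    have hnn : 0 ≤ ∑ i : ι, ((d : ℤ) - (0 + 1 * (if i = l then 1 else 0))) *
        charDegree (μ i : G → ℂ) :=
      Finset.sum_nonneg fun i _ => mul_nonneg (by split_ifs <;> omega) (by positivity)
    linarith

/-- With no proper normal subgroup over the Sylow subgroup small characters are linear. -/
theorem degree_eq_one (hst : Star P)
    (hnone : ∀ K : Subgroup G, K.Normal → (P : Subgroup G) ≤ K → K = ⊤)
    (χ : IrrCharacter G) (h1 : (χ : G → ℂ) ≠ fun _ => 1)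
    (hdeg : charDegree (χ : G → ℂ) ^ 2 + 1 < Nat.card (P : Subgroup G)) :
    charDegree (χ : G → ℂ) = 1 := by
  classical
  haveI := Fintype.ofFinite (C P)
  set f := charDegree (χ : G → ℂ) with hf
  have hfpos : 0 < f := charDegree_pos χ.2
  have hχc := isCharacter_of_isIrr χ.2
  have hker : ∀ ψ : IrrCharacter G, (ψ : G → ℂ) ≠ (fun _ => 1) →
      ∃ x ∈ (P : Subgroup G), (ψ : G → ℂ) x ≠ (ψ : G → ℂ) 1 := by
    intro ψ hψ
    by_contra hcon
    push Not at hcon
    have hc := isCharacter_of_isIrr ψ.2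
    have htop := hnone (charKer (ψ : G → ℂ)) (charKer_normal hc)
      fun x hx => (mem_charKer hc).2 (hcon x hx)
    have hconst : (ψ : G → ℂ) = ((ψ : G → ℂ) 1) • (fun _ => (1 : ℂ)) := funext fun g => by
      rw [Pi.smul_apply, smul_eq_mul, mul_one, (mem_charKer hc).1 (htop ▸ Subgroup.mem_top g)]
    have h := classInner_irr_ne ψ.2 isIrrCharacter_one hψ
    rw [hconst, classInner_smul_left, classInner_irr_self isIrrCharacter_one, mul_one] at h
    exact irr_degree_ne_zero ψ.2 h
  set e := (C P).relIndex (N P) with he'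
  have he : Nat.card (N P) = e * Nat.card (C P) := by
    rw [he', mul_comm, ← Nat.card_congr (Subgroup.subgroupOfEquivOfLe (C_le_N P)).toEquiv]
    exact (Subgroup.card_mul_index _).symm
  -- the restriction
  choose T hT using fun φ : IrrCharacter (C P) =>
    classInner_natCast (isCharacter_restrict hχc (C P)) (isCharacter_of_isIrr φ.2)
  obtain ⟨φ₁, ξ, θ, hne, hξ, hξ1, hθ, hφ₁⟩ := exists_nontrivial_constituent hst hχc (hker χ h1)
  set O := Finset.univ.filter (fun φ : IrrCharacter (C P) => Conj P (φ : C P → ℂ) (φ₁ : C P → ℂ))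
  have hO : O.card = e := by
    have h := card_orbit (φ := φ₁) (hφ₁ ▸ reg_lin_mul hst hξ hξ1 θ hθ)
    rw [he] at h
    exact Nat.eq_of_mul_eq_mul_right Nat.card_pos h
  have hTO : ∀ φ ∈ O, 1 ≤ T φ := by
    intro φ hφ
    obtain ⟨g, hg, hgφ⟩ := (Finset.mem_filter.1 hφ).2
    refine Nat.one_le_iff_ne_zero.2 fun h0 => hne ?_
    rw [← inner_cj (isClassFunction_of_isIrr χ.2) hg, hgφ, hT, h0, Nat.cast_zero]
  have hef : e ≤ f := by
    rw [← hO, Finset.card_eq_sum_ones]
    exact (Finset.sum_le_sum hTO).trans (sum_le_degree hχc T hT O)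
  have he2 : e * e + 1 < Nat.card (P : Subgroup G) :=
    lt_of_le_of_lt (by rw [← pow_two]; exact Nat.add_le_add_right (Nat.pow_le_pow_left hef 2) 1) hdeg
  set R := ∑ φ : IrrCharacter (C P), T φ * T φ with hR
  have hRC : classInner (fun c : C P => (χ : G → ℂ) c) (fun c : C P => (χ : G → ℂ) c) = (R : ℂ) := by
    rw [classInner_eq_sum (isClassFunction_of_isCharacter (isCharacter_restrict hχc (C P)))]
    simp only [hT, map_natCast, hR]
    push_cast
    rfl
  have heR : e ≤ R := by
    rw [← hO, Finset.card_eq_sum_ones]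
    exact (Finset.sum_le_sum fun φ hφ => Nat.one_le_iff_ne_zero.2 (Nat.mul_ne_zero
      (by have := hTO φ hφ; omega) (by have := hTO φ hφ; omega))).trans
      (Finset.sum_le_sum_of_subset (Finset.subset_univ O))
  -- the product with the conjugate
  set Γ : G → ℂ := (χ : G → ℂ) * (fun g => conj ((χ : G → ℂ) g)) with hΓ
  have hΓc : IsCharacter G Γ := isCharacter_mul hχc (isCharacter_conj hχc)
  choose a ha using fun ψ : IrrCharacter G => classInner_natCast hΓc (isCharacter_of_isIrr ψ.2)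
  have hΓexp := eq_sum_classInner_smul (isClassFunction_of_isCharacter hΓc)
  set oneG : IrrCharacter G := ⟨fun _ => 1, isIrrCharacter_one⟩ with honeG
  have ha1 : a oneG = 1 := by
    have h := ha oneG
    rw [show classInner Γ (oneG : G → ℂ) = classInner (χ : G → ℂ) (χ : G → ℂ) by
      simp [classInner, hΓ, honeG], classInner_irr_self χ.2] at h
    exact_mod_cast h.symm
  choose b hb using fun ψ : IrrCharacter G => classInner_natCast
    (isCharacter_restrict (isCharacter_of_isIrr ψ.2) (C P)) (isCharacter_one (G := C P))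
  have hRsum : R = ∑ ψ : IrrCharacter G, a ψ * b ψ := by
    have h : classInner (fun c : C P => Γ c) (fun _ : C P => (1 : ℂ)) = (R : ℂ) := by
      rw [← hRC]; simp [classInner, hΓ]
    rw [show (fun c : C P => Γ c) = ∑ ψ : IrrCharacter G, classInner Γ (ψ : G → ℂ) •
      (fun c : C P => (ψ : G → ℂ) c) from funext fun c => by
        rw [congrFun hΓexp c]; simp [Finset.sum_apply],
      classInner_sum_left] at h
    simp only [classInner_smul_left, ha, hb] at h
    exact_mod_cast h.symm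
  have hdsum : f * f = ∑ ψ : IrrCharacter G, a ψ * charDegree (ψ : G → ℂ) := by
    have h := congrFun hΓexp 1
    simp only [Finset.sum_apply, Pi.smul_apply, smul_eq_mul, ha] at h
    rw [hΓ, Pi.mul_apply, apply_one_eq_charDegree hχc, map_natCast,
      Finset.sum_congr rfl fun ψ _ => by rw [apply_one_eq_charDegree (isCharacter_of_isIrr ψ.2)]] at h
    exact_mod_cast h
  have hb1 : b oneG = 1 := by
    have h := hb oneG
    rw [honeG] at h
    dsimp only at h
    rw [classInner_irr_self isIrrCharacter_one, ← honeG] at h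
    exact_mod_cast h.symm
  rw [← Finset.add_sum_erase _ _ (Finset.mem_univ oneG), ha1, hb1] at hRsum
  rw [← Finset.add_sum_erase _ _ (Finset.mem_univ oneG), ha1,
    show charDegree (oneG : G → ℂ) = 1 from charDegree_one] at hdsum
  set A := ∑ ψ ∈ Finset.univ.erase oneG, a ψ * b ψ with hA
  set D := ∑ ψ ∈ Finset.univ.erase oneG, a ψ * charDegree (ψ : G → ℂ) with hD
  have hP : e < Nat.card (P : Subgroup G) := by nlinarith
  have hAD : A * (Nat.card (P : Subgroup G) - e) ≤ D := by
    rw [hA, hD, Finset.sum_mul]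
    refine Finset.sum_le_sum fun ψ hψ => ?_
    rcases Nat.eq_zero_or_pos (a ψ) with h0 | h0
    · simp [h0]
    have hle : charDegree (ψ : G → ℂ) ≤ D :=
      le_trans (Nat.le_mul_of_pos_left _ h0) (Finset.single_le_sum
        (f := fun ψ : IrrCharacter G => a ψ * charDegree (ψ : G → ℂ)) (fun _ _ => Nat.zero_le _) hψ)
    have hne1 : (ψ : G → ℂ) ≠ fun _ => 1 := fun h => Finset.ne_of_mem_erase hψ (Subtype.ext h)
    rcases fixed_bound hst he he2 ψ (hker ψ hne1) (by nlinarith) with h | ⟨h, hP'⟩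
    · have : b ψ = 0 := by exact_mod_cast (hb ψ).symm.trans h
      simp [this]
    · have : b ψ = 1 := by exact_mod_cast (hb ψ).symm.trans h
      rw [this, mul_one]
      exact Nat.mul_le_mul_left _ (by omega)
  have hA0 : A = 0 := by
    by_contra hne'
    obtain ⟨w, hw⟩ := Nat.exists_eq_add_of_le hP.le
    rw [hw, Nat.add_sub_cancel_left] at hAD
    rw [hw] at hdeg he2
    rcases (by omega : A = 1 ∨ 2 ≤ A) with h | h
    · rw [h, one_mul] at hAD
      have : e ≤ 2 := by omega
      nlinarith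
    · have := Nat.mul_le_mul_right w h
      nlinarith [Nat.zero_le ((e : ℕ) - 1), mul_self_nonneg ((e : ℤ) - 1)]
  have hR1 : R = 1 := by omega
  have hirr : IsIrrCharacter (C P) (fun c : C P => (χ : G → ℂ) c) :=
    isIrrCharacter_of_norm_one (isCharacter_restrict hχc (C P)) (by rw [hRC, hR1, Nat.cast_one])
  -- the Sylow subgroup acts by scalars
  let Z : Subgroup G :=
    { carrier := {g | ‖(χ : G → ℂ) g‖ = ‖(χ : G → ℂ) 1‖}
      mul_mem' := fun {u v} (hu : ‖_‖ = _) (hv : ‖_‖ = _) => by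
        show ‖(χ : G → ℂ) (u * v)‖ = _
        have h := congrArg norm (apply_mul_of_norm_eq hχc hu v).1
        rw [norm_mul, norm_mul, hu, hv] at h
        exact mul_right_cancel₀ (norm_ne_zero_iff.2 (irr_degree_ne_zero χ.2)) h
      one_mem' := rfl
      inv_mem' := fun {u} (hu : ‖_‖ = _) => by
        show ‖(χ : G → ℂ) u⁻¹‖ = _
        rw [char_inv hχc, Complex.norm_conj, hu] }
  haveI : Z.Normal := ⟨fun n hn g => by
    show ‖(χ : G → ℂ) (g * n * g⁻¹)‖ = _
    rw [isClassFunction_of_isIrr χ.2 n g]; exact hn⟩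
  have hZ := hnone Z inferInstance fun x hx => by
    have := norm_char_of_mem_center hirr (z := (⟨x, le_C hst hx⟩ : C P))
      (Subgroup.mem_center_iff.2 fun c =>
        Subtype.ext (Subgroup.mem_centralizer_iff.1 c.2 x hx).symm)
    exact this
  have hnorm : classInner (χ : G → ℂ) (χ : G → ℂ) = (f : ℂ) * f := by
    simp only [classInner]
    rw [Finset.sum_congr rfl (g := fun _ => (f : ℂ) * f) fun g _ => ?_, Finset.sum_const,
      Finset.card_univ, ← Nat.card_eq_fintype_card, nsmul_eq_mul, ← mul_assoc,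
      inv_mul_cancel₀ (card_ne_zero_complex G), one_mul]
    rw [Complex.mul_conj']
    have h : ‖(χ : G → ℂ) g‖ = ‖(χ : G → ℂ) 1‖ := by
      have : g ∈ Z := hZ ▸ Subgroup.mem_top g
      exact this
    rw [h, apply_one_eq_charDegree hχc, Complex.norm_natCast]
    push_cast
    ring
  rw [classInner_irr_self χ.2] at hnorm
  have : f * f = 1 := by exact_mod_cast hnorm.symm
  exact (mul_eq_one.1 this).1

end Cfsg.Agent.Lib.Char.UC
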