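import Cfsg.Agent.Lib.CharClifford.Gallagher
import Cfsg.Agent.Lib.Char.Linear
import Cfsg.Agent.Lib.Char.Monomial
import Cfsg.Agent.Lib.Blichfeldt.Hall
import Mathlib.GroupTheory.RegularWreathProduct

/-!
# Every solvable group embeds in an M-group

The regular wreath product of an M-group with a group of prime order is again an M-group, and a
solvable group embeds in an iterated wreath product of such groups.
-/

set_option autoImplicit false
set_option linter.unusedSectionVars false
set_option linter.style.haveILetI false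

open scoped ComplexConjugate

namespace Cfsg.Agent.Lib.Char

open Cfsg

universe u v

variable {ι : Type v} [Fintype ι] {D : Type u} [Group D]

/-- The product of functions, one in each coordinate. -/
noncomputable def prodFun (θ : ι → D → ℂ) : (ι → D) → ℂ := fun f => ∏ i, θ i (f i)

theorem isCharacter_prodFun (θ : ι → D → ℂ) (hθ : ∀ i, IsCharacter D (θ i)) :
    IsCharacter (ι → D) (prodFun θ) := by
  classical
  have h : ∀ s : Finset ι, IsCharacter (ι → D) (fun f => ∏ i ∈ s, θ i (f i)) := by
    intro s
    induction s using Finset.induction_on with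
    | empty => simpa using isCharacter_one
    | insert i s hi ih =>
      simp only [Finset.prod_insert hi]
      exact isCharacter_mul (isCharacter_comp (hθ i) (Pi.evalMonoidHom (fun _ => D) i)) ih
  exact h Finset.univ

theorem isIrr_prodFun [Finite D] (θ : ι → D → ℂ) (hθ : ∀ i, IsIrrCharacter D (θ i)) :
    IsIrrCharacter (ι → D) (prodFun θ) := by
  classical
  haveI := Fintype.ofFinite D
  refine isIrrCharacter_of_norm_one (isCharacter_prodFun θ fun i => isCharacter_of_isIrr (hθ i)) ?_
  simp only [classInner, prodFun, map_prod, ← Finset.prod_mul_distrib]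
  rw [← Fintype.prod_sum fun i d => θ i d * conj (θ i d),
    Finset.prod_congr rfl fun i _ => show (∑ d, θ i d * conj (θ i d)) = (Nat.card D : ℂ) by
      have h := classInner_irr_self (hθ i)
      rwa [classInner, inv_mul_eq_one₀ (card_ne_zero_complex D), eq_comm] at h,
    Finset.prod_const, Finset.card_univ, Nat.card_fun, Nat.card_eq_fintype_card (α := ι),
    Nat.cast_pow, inv_mul_cancel₀]
  exact pow_ne_zero _ (card_ne_zero_complex D)

theorem exists_prodFun_eq [Finite D] {χ : (ι → D) → ℂ} (hχ : IsIrrCharacter (ι → D) χ) :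
    ∃ θ : ι → IrrCharacter D, χ = prodFun fun i => (θ i : D → ℂ) := by
  classical
  haveI := Fintype.ofFinite D
  by_contra hcon
  push Not at hcon
  refine irr_degree_ne_zero hχ ?_
  set reg : (ι → D) → ℂ := fun f => if f = 1 then (Nat.card (ι → D) : ℂ) else 0 with hreg
  have hexp : reg = ∑ θ : ι → IrrCharacter D,
      (∏ i, (θ i : D → ℂ) 1) • prodFun fun i => (θ i : D → ℂ) := by
    funext f
    simp only [Finset.sum_apply, Pi.smul_apply, smul_eq_mul, prodFun, ← Finset.prod_mul_distrib]
    rw [← Fintype.prod_sum fun i (χ : IrrCharacter D) => (χ : D → ℂ) 1 * (χ : D → ℂ) (f i)]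
    simp only [sum_degree_mul, hreg]
    split_ifs with h
    · subst h
      simp [Nat.card_fun, Nat.card_eq_fintype_card]
    · obtain ⟨i, hi⟩ := Function.ne_iff.1 h
      exact (Finset.prod_eq_zero (Finset.mem_univ i) (if_neg hi)).symm
  have h1 : classInner reg χ = conj (χ 1) := by
    simp [classInner, hreg]
  have h2 : classInner reg χ = 0 := by
    rw [hexp, classInner_sum_left]
    refine Finset.sum_eq_zero fun θ _ => ?_
    rw [classInner_smul_left, classInner_irr (isIrr_prodFun _ fun i => (θ i).2) hχ,
      if_neg fun h => hcon θ h.symm, mul_zero]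
  simpa [h1] using h2

/-- Every irreducible character is induced from a linear character of a subgroup. -/
def IsMono (M : Type u) [Group M] [Fintype M] : Prop :=
  ∀ χ : M → ℂ, IsIrrCharacter M χ →
    ∃ (H : Subgroup M) (lam : ↥H →* ℂˣ), χ = indFun H (fun h => (lam h : ℂ))

/-- The product of linear characters, on the product subgroup. -/
noncomputable def piLam {H : ι → Subgroup D} (l : ∀ i, H i →* ℂˣ) :
    Subgroup.pi Set.univ H →* ℂˣ where
  toFun f := ∏ i, l i ⟨(f : ι → D) i, f.2 i (Set.mem_univ i)⟩
  map_one' := Finset.prod_eq_one fun i _ => map_one (l i)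
  map_mul' f g := by
    rw [← Finset.prod_mul_distrib]
    exact Finset.prod_congr rfl fun i _ =>
      (congrArg (l i) (Subtype.ext rfl)).trans
        (map_mul (l i) ⟨(f : ι → D) i, f.2 i (Set.mem_univ i)⟩ ⟨(g : ι → D) i, g.2 i (Set.mem_univ i)⟩)

theorem indFun_pi [Fintype D] [DecidableEq ι] (H : ι → Subgroup D) (l : ∀ i, H i →* ℂˣ) :
    indFun (Subgroup.pi Set.univ H) (fun h => (piLam l h : ℂ)) =
      prodFun fun i => indFun (H i) fun h => (l i h : ℂ) := by
  classical
  have hcard : Nat.card (Subgroup.pi Set.univ H) = ∏ i, Nat.card (H i) := by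
    rw [← Nat.card_pi]
    exact Nat.card_congr
      { toFun := fun f i => ⟨(f : ι → D) i, f.2 i (Set.mem_univ i)⟩
        invFun := fun f => ⟨fun i => f i, fun i _ => (f i).2⟩
        left_inv := fun f => rfl
        right_inv := fun f => rfl }
  funext f
  simp only [prodFun, indFun, Finset.prod_mul_distrib, hcard, Nat.cast_prod, ← Finset.prod_inv_distrib]
  congr 1
  rw [Fintype.prod_sum]
  refine Fintype.sum_equiv (Equiv.refl _) _ _ fun x => ?_
  by_cases h : ∀ i, (x i)⁻¹ * f i * x i ∈ H i
  · rw [extendByZero_mem _ _ (show x⁻¹ * f * x ∈ Subgroup.pi Set.univ H from fun i _ => h i)]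
    simp only [piLam, MonoidHom.coe_mk, OneHom.coe_mk, Units.coe_prod]
    exact Finset.prod_congr rfl fun i _ =>
      (extendByZero_mem (H i) (fun h => (l i h : ℂ)) (h i)).symm
  · push Not at h
    obtain ⟨i, hi⟩ := h
    rw [extendByZero_not_mem _ _ fun (hc : x⁻¹ * f * x ∈ Subgroup.pi Set.univ H) => hi (hc i (Set.mem_univ i))]
    exact (Finset.prod_eq_zero (Finset.mem_univ i) (extendByZero_not_mem (H i) _ hi)).symm

section Wreath

variable {Q : Type u} [Group Q]

/-- The base group. -/
def base (D Q : Type u) [Group D] [Group Q] : Subgroup (D ≀ᵣ Q) :=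
  (RegularWreathProduct.rightHom (D := D) (Q := Q)).ker

instance : (base D Q).Normal := MonoidHom.normal_ker _

theorem mem_base {w : D ≀ᵣ Q} : w ∈ base D Q ↔ w.right = 1 := Iff.rfl

/-- The base group is a product. -/
def baseEquiv (D Q : Type u) [Group D] [Group Q] : base D Q ≃* (Q → D) where
  toFun n := (n : D ≀ᵣ Q).left
  invFun f := ⟨⟨f, 1⟩, rfl⟩
  left_inv n := Subtype.ext (RegularWreathProduct.ext rfl n.2.symm)
  right_inv f := rfl
  map_mul' a b := by
    have ha : (a : D ≀ᵣ Q).right = 1 := a.2
    funext x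
    simp [ha]

/-- The wreath product of a subgroup. -/
def wrSub (H : Subgroup D) : Subgroup (D ≀ᵣ Q) where
  carrier := {w | ∀ q, w.left q ∈ H}
  mul_mem' ha hb q := by simpa using H.mul_mem (ha q) (hb _)
  one_mem' q := by simp
  inv_mem' ha q := by simpa using H.inv_mem (ha _)

/-- The extension of a product of equal linear characters to the wreath product. -/
noncomputable def wrLam [Fintype Q] {H : Subgroup D} (l : H →* ℂˣ) :
    wrSub (Q := Q) H →* ℂˣ where
  toFun w := ∏ q, l ⟨(w : D ≀ᵣ Q).left q, w.2 q⟩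
  map_one' := Finset.prod_eq_one fun q _ => map_one l
  map_mul' a b := by
    have h : ∀ q, (⟨((a * b : wrSub (Q := Q) H) : D ≀ᵣ Q).left q, (a * b).2 q⟩ : H) =
        ⟨(a : D ≀ᵣ Q).left q, a.2 q⟩ * ⟨(b : D ≀ᵣ Q).left ((a : D ≀ᵣ Q).right⁻¹ * q), b.2 _⟩ :=
      fun q => Subtype.ext rfl
    simp only [h, map_mul, Finset.prod_mul_distrib]
    congr 1
    exact Fintype.prod_equiv (Equiv.mulLeft (a : D ≀ᵣ Q).right⁻¹) _ _ fun q => rfl

variable [Fintype D] [Fintype Q] [Fintype (D ≀ᵣ Q)]

theorem indFun_wrLam_base {H : Subgroup D} (l : H →* ℂˣ) (f : Q → D) :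
    indFun (wrSub (Q := Q) H) (fun h => (wrLam l h : ℂ)) ⟨f, 1⟩ =
      ∏ q, indFun H (fun h => (l h : ℂ)) (f q) := by
  classical
  have hcard : Nat.card (wrSub (Q := Q) H) = Nat.card Q * Nat.card H ^ Fintype.card Q := by
    rw [← Nat.card_eq_fintype_card (α := Q), ← Nat.card_fun, ← Nat.card_prod]
    exact Nat.card_congr
      { toFun := fun w => ((w : D ≀ᵣ Q).right, fun q => ⟨(w : D ≀ᵣ Q).left q, w.2 q⟩)
        invFun := fun a => ⟨⟨fun q => a.2 q, a.1⟩, fun q => (a.2 q).2⟩
        left_inv := fun w => rfl
        right_inv := fun a => rfl }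
  have key : ∀ x : D ≀ᵣ Q, extendByZero (wrSub (Q := Q) H) (fun h => (wrLam l h : ℂ))
      (x⁻¹ * ⟨f, 1⟩ * x) =
        ∏ q, extendByZero H (fun h => (l h : ℂ)) ((x.left q)⁻¹ * f q * x.left q) := by
    intro x
    have hy : ∀ q, (x⁻¹ * (⟨f, 1⟩ : D ≀ᵣ Q) * x).left q =
        (x.left (x.right * q))⁻¹ * f (x.right * q) * x.left (x.right * q) := fun q => by simp
    rw [← Equiv.prod_comp (Equiv.mulLeft x.right)
      (fun q => extendByZero H (fun h => (l h : ℂ)) ((x.left q)⁻¹ * f q * x.left q))]
    by_cases h : x⁻¹ * (⟨f, 1⟩ : D ≀ᵣ Q) * x ∈ wrSub (Q := Q) H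
    · rw [extendByZero_mem _ _ h]
      simp only [wrLam, MonoidHom.coe_mk, OneHom.coe_mk, Units.coe_prod]
      refine Finset.prod_congr rfl fun q _ => ?_
      rw [Equiv.coe_mulLeft, extendByZero_mem H _ (hy q ▸ h q)]
      exact congrArg (fun u => (l u : ℂ)) (Subtype.ext (hy q))
    · rw [extendByZero_not_mem _ _ h]
      obtain ⟨q, hq⟩ : ∃ q, (x⁻¹ * (⟨f, 1⟩ : D ≀ᵣ Q) * x).left q ∉ H := by
        by_contra hc
        push Not at hc
        exact h hc
      exact (Finset.prod_eq_zero (Finset.mem_univ q)
        (extendByZero_not_mem H _ (by rw [Equiv.coe_mulLeft, ← hy q]; exact hq))).symm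
  simp only [indFun, key, Finset.prod_mul_distrib, Finset.prod_const, Finset.card_univ]
  rw [← Equiv.sum_comp (RegularWreathProduct.equivProd D Q).symm, Fintype.sum_prod_type_right]
  simp only [RegularWreathProduct.equivProd, Equiv.coe_fn_symm_mk]
  rw [hcard, Nat.cast_mul, Nat.cast_pow, mul_inv, ← inv_pow,
    Fintype.prod_sum fun q d => extendByZero H (fun h => (l h : ℂ)) (d⁻¹ * f q * d),
    Finset.sum_const, Finset.card_univ, nsmul_eq_mul, Nat.card_eq_fintype_card (α := Q)]
  have hQ : (Fintype.card Q : ℂ) ≠ 0 := Nat.cast_ne_zero.2 Fintype.card_ne_zero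
  field_simp

/-- The wreath product of an M-group with a group of prime order is an M-group. -/
theorem isMono_wreath {p : ℕ} (hp : p.Prime) (hQ : Nat.card Q = p) (hD : IsMono D) :
    IsMono (D ≀ᵣ Q) := by
  classical
  intro χ hχ
  set N := base D Q with hN
  haveI := Fintype.ofFinite N
  have hcl := isClassFunction_of_isIrr hχ
  obtain ⟨θ, hne⟩ := exists_constituent
    (isCharacter_restrict (isCharacter_of_isIrr hχ) N) (fun h => irr_degree_ne_zero hχ (by
      simpa using congrFun h 1))
  obtain ⟨ρ, hρ⟩ := exists_prodFun_eq (isIrrCharacter_comp θ.2 (baseEquiv D Q).symm.toMonoidHom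
    (baseEquiv D Q).symm.surjective)
  have hθ : ∀ n : N, (θ : N → ℂ) n = ∏ q, (ρ q : D → ℂ) ((n : D ≀ᵣ Q).left q) := fun n => by
    have h := congrFun hρ (baseEquiv D Q n)
    simp only [Function.comp_apply, MulEquiv.coe_toMonoidHom, MulEquiv.symm_apply_apply,
      prodFun] at h
    exact h
  have hidx : N.index = p := by
    rw [hN, base, Subgroup.index_ker, MonoidHom.range_eq_top.2 fun q => ⟨⟨1, q⟩, rfl⟩,
      Subgroup.card_top, hQ]
  have hle : N ≤ inertia N (θ : N → ℂ) := le_inertia N (isClassFunction_of_isIrr θ.2)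
  have hdvd := Subgroup.relIndex_mul_index hle
  rw [hidx] at hdvd
  rcases hp.eq_one_or_self_of_dvd _ ⟨_, hdvd.symm⟩ with h1 | h1
  · -- induced from the base
    have hin : inertia N (θ : N → ℂ) = N := le_antisymm (Subgroup.relIndex_eq_one.1 h1) hle
    have hirr := isIrrCharacter_indFun N θ.2 hin
    have hX : χ = indFun N (θ : N → ℂ) := by
      by_contra hc
      refine hne ?_
      rw [classInner_conj_symm, ← classInner_indFun N _ hcl, classInner_irr hirr hχ,
        if_neg fun e => hc e.symm, map_zero]
    choose H l hl using fun q => hD _ (ρ q).2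
    let e : base D Q ≃* (Q → D) := baseEquiv D Q
    set P := Subgroup.pi Set.univ H with hP
    let lam : (P.comap e.toMonoidHom) →* ℂˣ :=
      (piLam l).comp (e.toMonoidHom.subgroupComap P)
    haveI := Fintype.ofFinite (P.comap e.toMonoidHom : Subgroup N)
    have hθind : (θ : N → ℂ) = indFun (P.comap e.toMonoidHom) (fun h => (lam h : ℂ)) := by
      funext n
      rw [hθ]
      have h2 : ∀ q, (ρ q : D → ℂ) = indFun (H q) fun h => (l q h : ℂ) := hl
      simp only [h2]
      have h3 := congrFun (indFun_pi H l) (e n)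
      simp only [prodFun] at h3
      refine h3.symm.trans ?_
      rw [indFun, indFun]
      congr 1
      · rw [Nat.card_congr (Equiv.subtypeEquiv e.toEquiv (p := fun x => x ∈ P.comap e.toMonoidHom)
          (q := fun y => y ∈ P) fun x => Iff.rfl)]
      refine Fintype.sum_equiv e.symm.toEquiv _ _ fun x => ?_
      show _ = extendByZero (P.comap e.toMonoidHom) (fun h => (lam h : ℂ))
        ((e.symm x)⁻¹ * n * e.symm x)
      have hxe : e ((e.symm x)⁻¹ * n * e.symm x) = x⁻¹ * e n * x := by simp
      by_cases hm : x⁻¹ * e n * x ∈ P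
      · rw [extendByZero_mem _ _ hm,
          extendByZero_mem _ _ (show (e.symm x)⁻¹ * n * e.symm x ∈ P.comap e.toMonoidHom by
            rw [Subgroup.mem_comap, MulEquiv.coe_toMonoidHom, hxe]; exact hm)]
        exact congrArg (fun u => (piLam l u : ℂ)) (Subtype.ext hxe.symm)
      · rw [extendByZero_not_mem _ _ hm, extendByZero_not_mem]
        exact fun h => hm (hxe ▸ Subgroup.mem_comap.1 h)
    haveI := Fintype.ofFinite (((P.comap e.toMonoidHom).map N.subtype : Subgroup (D ≀ᵣ Q)))
    refine ⟨(P.comap e.toMonoidHom).map N.subtype, lam.comp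
      ((P.comap e.toMonoidHom).equivMapOfInjective N.subtype
        N.subtype_injective).symm.toMonoidHom, ?_⟩
    rw [hX, hθind, indFun_trans]
    rfl
  · -- invariant: extends to the wreath product
    have htop : inertia N (θ : N → ℂ) = ⊤ := by
      rw [← Subgroup.index_eq_one]
      rw [h1] at hdvd
      exact Nat.eq_of_mul_eq_mul_left hp.pos (hdvd.trans (mul_one p).symm)
    have heq : ∀ q, (ρ q : D → ℂ) = (ρ 1 : D → ℂ) := by
      have hshift : (prodFun fun q => (ρ q : D → ℂ)) = prodFun fun q => (ρ q : D → ℂ) := rfl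
      intro s
      by_contra hs
      have hs' : ρ s ≠ ρ 1 := fun h => hs (congrArg Subtype.val h)
      have hmem : (⟨1, s⟩ : D ≀ᵣ Q) ∈ inertia N (θ : N → ℂ) := htop ▸ Subgroup.mem_top _
      rw [mem_inertia] at hmem
      have heqf : (prodFun fun q => (ρ q : D → ℂ)) = prodFun fun q => (ρ (s * q) : D → ℂ) := by
        funext f
        have h := congrFun hmem ⟨⟨f, 1⟩, rfl⟩
        rw [conjChar_apply, hθ, hθ] at h
        refine h.symm.trans ?_
        refine Fintype.prod_equiv (Equiv.mulLeft s⁻¹) _ _ fun q => ?_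
        simp
      have h2 : classInner (prodFun fun q => (ρ q : D → ℂ))
          (prodFun fun q => (ρ (s * q) : D → ℂ)) = 0 := by
        simp only [classInner, prodFun, map_prod, ← Finset.prod_mul_distrib]
        rw [← Fintype.prod_sum fun q d => (ρ q : D → ℂ) d * conj ((ρ (s * q) : D → ℂ) d),
          Finset.prod_eq_zero (Finset.mem_univ 1), mul_zero]
        have h3 := classInner_irr (ρ 1).2 (ρ (s * 1)).2
        rw [if_neg (by rw [mul_one]; exact fun h => hs h.symm), classInner,
          mul_eq_zero] at h3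
        exact h3.resolve_left (inv_ne_zero (card_ne_zero_complex D))
      rw [← heqf, classInner_irr_self (isIrr_prodFun _ fun q => (ρ q).2)] at h2
      exact one_ne_zero h2
    obtain ⟨H, l, hl⟩ := hD _ (ρ 1).2
    set W := wrSub (Q := Q) H
    haveI := Fintype.ofFinite W
    set X := indFun W (fun h => (wrLam l h : ℂ)) with hX
    have hXc : IsCharacter (D ≀ᵣ Q) X :=
      isCharacter_indFun W (isCharacter_of_isIrr (isIrrCharacter_linear (wrLam l)))
    have hXr : ∀ n : N, X n = (θ : N → ℂ) n := fun n => by
      rw [hθ]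
      have hn : (n : D ≀ᵣ Q) = ⟨(n : D ≀ᵣ Q).left, 1⟩ := RegularWreathProduct.ext rfl n.2
      conv_lhs => rw [hn, hX, indFun_wrLam_base l]
      exact Finset.prod_congr rfl fun q _ => by rw [heq q, hl]
    obtain ⟨β, hβ, hβN, he⟩ := CharClifford.gallagher_exists N θ.2 hXc hXr hχ hne
    have hβ1 : β 1 = 1 := by
      haveI : Fact p.Prime := ⟨hp⟩
      haveI := isCyclic_of_prime_card hQ
      letI : CommGroup Q := IsCyclic.commGroup
      obtain ⟨n, σ, hσ, hσβ⟩ := id hβ
      haveI := hσ
      have hcom : ∀ a c : D ≀ᵣ Q, σ a * σ c = σ c * σ a := fun a c => by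
        have hk : c⁻¹ * a⁻¹ * c * a ∈ N := by
          rw [hN, mem_base]
          simp only [RegularWreathProduct.mul_right, RegularWreathProduct.inv_right]
          rw [mul_right_comm _ a.right⁻¹, inv_mul_cancel, one_mul, inv_mul_cancel]
        have h1 := hβN ⟨_, hk⟩
        rw [← hσβ, Representation.char_one, character_eq_degree_iff] at h1
        have h2 : σ (a * c) * σ (c⁻¹ * a⁻¹ * c * a) = σ (c * a) := by
          rw [← map_mul]; congr 1; group
        rw [h1, mul_one, map_mul, map_mul] at h2
        exact h2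
      have hsc := fun g => exists_scalar_of_commute_all σ (z := g) (fun c => hcom g c)
      have hnorm : ∀ g, β g * conj (β g) = (n : ℂ) * n := fun g => by
        obtain ⟨c, hc⟩ := hsc g
        rw [Complex.mul_conj, Complex.normSq_eq_norm_sq, ← hσβ,
          norm_character_of_eq_smul σ g hc, Module.finrank_fin_fun]
        push_cast
        ring
      have h1 := classInner_irr_self hβ
      rw [classInner, Finset.sum_congr rfl fun g _ => hnorm g, Finset.sum_const, Finset.card_univ,
        nsmul_eq_mul, ← Nat.card_eq_fintype_card, ← mul_assoc,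
        inv_mul_cancel₀ (card_ne_zero_complex _), one_mul] at h1
      have h2 : n * n = 1 := by exact_mod_cast h1
      rw [← hσβ, Representation.char_one, Module.finrank_fin_fun, (mul_eq_one.1 h2).1, Nat.cast_one]
    obtain ⟨m, hm⟩ := exists_hom_of_degree_one (isCharacter_of_isIrr hβ) hβ1
    refine ⟨W, wrLam l * m.comp W.subtype, ?_⟩
    have hprod : ((fun h : W => (wrLam l h : ℂ)) * fun h : W => β h) =
        fun h : W => (((wrLam l : W →* ℂˣ) * m.comp W.subtype) h : ℂ) := by funext h; simp [hm]
    rw [he, ← hprod,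
      CharClifford.indFun_mul_restrict W _ (isClassFunction_of_isIrr hβ), mul_comm]

end Wreath

/-- The Kaloujnine-Krasner embedding, followed by a homomorphism on the kernel. -/
noncomputable def kkEmb {G M : Type u} [Group G] [Group M] (K : Subgroup G) [K.Normal]
    (e : K →* M) : G →* M ≀ᵣ (G ⧸ K) where
  toFun g := ⟨fun q => e ⟨q.out⁻¹ * g * ((g : G ⧸ K)⁻¹ * q).out, by
    rw [← QuotientGroup.eq_one_iff]
    simp⟩, (g : G ⧸ K)⟩
  map_one' := by
    refine RegularWreathProduct.ext (funext fun q => ?_) rfl
    simp only [RegularWreathProduct.one_left, Pi.one_apply]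
    exact (congrArg e (Subtype.ext (by simp))).trans (map_one e)
  map_mul' g h := by
    refine RegularWreathProduct.ext (funext fun q => ?_) rfl
    simp only [RegularWreathProduct.mul_left, Pi.mul_apply]
    rw [← map_mul]
    refine congrArg e (Subtype.ext ?_)
    simp only [Subgroup.coe_mul, QuotientGroup.mk_mul, mul_inv_rev, mul_assoc,
      mul_inv_cancel_left]

theorem kkEmb_injective {G M : Type u} [Group G] [Group M] (K : Subgroup G) [K.Normal]
    {e : K →* M} (he : Function.Injective e) : Function.Injective (kkEmb K e) := by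
  rw [injective_iff_map_eq_one]
  intro g hg
  have hr : (g : G ⧸ K) = 1 := congrArg RegularWreathProduct.right hg
  have h1 := congrFun (congrArg RegularWreathProduct.left hg) 1
  have h2 := congrArg (fun x : K => (x : G)) ((injective_iff_map_eq_one e).1 he _ h1)
  simp only [hr, inv_one, one_mul, OneMemClass.coe_one, mul_assoc] at h2
  rw [inv_mul_eq_one] at h2
  exact mul_eq_right.1 h2.symm

/-- Every finite solvable group embeds in a finite M-group. -/
theorem exists_mono_group (n : ℕ) : ∀ {G : Type u} [Group G] [Finite G], Nat.card G ≤ n →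
    Group.IsSolvable G → ∃ (M : Type u) (_ : Group M) (_ : Fintype M),
      IsMono M ∧ ∃ f : G →* M, Function.Injective f := by
  classical
  induction n with
  | zero =>
    intro G _ _ h _
    exact absurd h (Nat.not_le.2 Nat.card_pos)
  | succ n ih =>
    intro G _ _ hcard hs
    haveI := hs
    by_cases hnt : Nontrivial G
    · haveI := hnt
      obtain ⟨K, hK, hprime⟩ :=
        Blichfeldt.exists_normal_prime_index (Group.IsSolvable.commutator_lt_top_of_nontrivial G).ne
      haveI := hK
      haveI : Group.IsSolvable K := inferInstance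
      obtain ⟨M, iM, fM, hM, e, he⟩ := ih (G := K) (by
        have h1 := Subgroup.index_mul_card K
        have h2 : Nat.card K * 2 ≤ K.index * Nat.card K := by
          rw [mul_comm]; exact Nat.mul_le_mul_right _ hprime.two_le
        have h3 : 0 < Nat.card K := Nat.card_pos
        omega) inferInstance
      haveI := Fintype.ofFinite (G ⧸ K)
      haveI := Fintype.ofFinite (M ≀ᵣ (G ⧸ K))
      exact ⟨M ≀ᵣ (G ⧸ K), inferInstance, inferInstance,
        isMono_wreath hprime (Subgroup.index_eq_card K).symm hM, kkEmb K e, kkEmb_injective K he⟩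
    · haveI := not_nontrivial_iff_subsingleton.1 hnt
      haveI := Fintype.ofFinite G
      refine ⟨G, inferInstance, inferInstance, fun χ hχ => ⟨⊤, 1, ?_⟩, MonoidHom.id G,
        fun _ _ h => h⟩
      funext g
      rw [Subsingleton.elim g 1, indFun_one, Subgroup.index_top]
      have h := classInner_irr_self hχ
      obtain ⟨d, hd⟩ := exists_natDegree (isCharacter_of_isIrr hχ)
      rw [classInner, Fintype.sum_subsingleton _ (1 : G), hd, map_natCast,
        Nat.card_unique, Nat.cast_one, inv_one, one_mul] at h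
      have h2 : d * d = 1 := by exact_mod_cast h
      simp [hd, (mul_eq_one.1 h2).1]

end Cfsg.Agent.Lib.Char
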